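import Groth.Agent.KFlatLib.FreeOpen
import Groth.Agent.QCohLib.Modules
import Mathlib.Topology.Sheaves.Flasque

/-!
# Injective O-modules are flasque
-/

set_option autoImplicit false

universe u

open CategoryTheory CategoryTheory.Limits AlgebraicGeometry TopologicalSpace Opposite

namespace RpushLib

open KFlatLib

variable {X : Scheme.{u}}

/-- `j_{V!} O → j_{U!} O` for `V ≤ U`. -/
noncomputable def freeUMap {V U : X.Opens} (h : V ≤ U) : freeU V ⟶ freeU U :=
  secMap ((freeU U).presheaf.map (homOfLE h).op (genU U))

theorem freeUMap_secMap {V U : X.Opens} (h : V ≤ U) {M : X.Modules} (t : Γ(M, U)) :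
    freeUMap h ≫ secMap t = secMap (M.presheaf.map (homOfLE h).op t) := by
  rw [freeUMap, secMap_comp]
  refine congrArg secMap ?_
  rw [QCohLib.app_map, secMap_gen]

theorem exists_stalk_retraction {V U : X.Opens} (h : V ≤ U) (x : X) :
    ∃ r : (DerSch.stalkFunctor X x).obj (freeU U) ⟶ (DerSch.stalkFunctor X x).obj (freeU V),
      (DerSch.stalkFunctor X x).map (freeUMap h) ≫ r = 𝟙 _ := by
  classical
  let A := (DerSch.stalkFunctor X x).obj (freeU V)
  let e := skyLift x (𝟙 A)
  let s : Γ(skyObj x A, V) := e.app V (genU V)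
  let t : Γ(skyObj x A, U) := skyMk x fun _ => if hV : x ∈ V then skyVal x hV s else 0
  have ht : (skyObj x A).presheaf.map (homOfLE h).op t = s := by
    refine skyObj_ext x A _ _ fun hV => ?_
    change skyVal x hV ((skyObj x A).presheaf.map (homOfLE h).op t) = skyVal x hV s
    rw [skyVal_map, skyVal_mk, dif_pos hV]
  refine ⟨(skyHomEquiv x (freeU U) A).symm (secMap t), ?_⟩
  apply (skyHomEquiv x (freeU V) A).injective
  rw [skyHomEquiv_naturality, Equiv.apply_symm_apply, freeUMap_secMap, ht]
  change _ = e
  exact (freeUEquiv V (skyObj x A)).injective ((freeUEquiv V _).apply_symm_apply _ |>.trans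
    (by rw [← secMap_gen (freeUEquiv V (skyObj x A) e)]; simp [secMap, s]))

theorem mono_freeUMap {V U : X.Opens} (h : V ≤ U) : Mono (freeUMap h) := by
  refine Preadditive.mono_of_isZero_kernel _ ((isZero_iff_forall_stalk _).mpr fun x => ?_)
  obtain ⟨r, hr⟩ := exists_stalk_retraction h x
  have : Mono ((DerSch.stalkFunctor X x).map (freeUMap h) ≫ r) := by rw [hr]; infer_instance
  have := mono_of_mono ((DerSch.stalkFunctor X x).map (freeUMap h)) r
  exact (isZero_kernel_of_mono ((DerSch.stalkFunctor X x).map (freeUMap h))).of_iso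
    (PreservesKernel.iso _ _)

/-- Sections of an injective module restrict surjectively. -/
theorem surjective_map_injective (I : X.Modules) [Injective I] {V U : X.Opens} (h : V ≤ U) :
    Function.Surjective (I.presheaf.map (homOfLE h).op) := by
  intro s
  have := mono_freeUMap h
  refine ⟨freeUEquiv U I (Injective.factorThru (secMap s) (freeUMap h)), ?_⟩
  apply (freeUEquiv V I).symm.injective
  change secMap _ = secMap s
  rw [← freeUMap_secMap h]
  change freeUMap h ≫ (freeUEquiv U I).symm _ = _
  rw [Equiv.symm_apply_apply, Injective.comp_factorThru]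

/-- Injective modules are flasque. -/
theorem isFlasque_toAb_injective (I : X.Modules) [Injective I] :
    TopCat.Sheaf.IsFlasque ((QCohLib.toAbF X).obj I : TopCat.Sheaf AddCommGrpCat.{u} X.toTopCat) :=
  ⟨fun {U V} i => (AddCommGrpCat.epi_iff_surjective _).mpr
    (surjective_map_injective I (V := V.unop) (U := U.unop) i.unop.le)⟩

end RpushLib
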