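import Groth.Agent.RpushLib.BC
import Groth.Agent.RpushLib.Flasque
import Groth.Agent.QCohLib.Vanishing
import Groth.Agent.QCohLib.AbPush
import Mathlib.CategoryTheory.Abelian.Injective.Resolution

/-!
# Flasque resolutions of modules
-/

set_option autoImplicit false

universe u

open CategoryTheory CategoryTheory.Limits AlgebraicGeometry TopologicalSpace Opposite
open QCohLib (AbSh HU toAbF)

namespace RpushLib

variable {X : Scheme.{u}}

/-- A resolution of a module by flasque modules. -/
structure FlRes (M : X.Modules) where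
  K : CochainComplex X.Modules ℕ
  ι : M ⟶ K.X 0
  comp : ι ≫ K.d 0 1 = 0
  mono : Mono ι
  exact₀ : (ShortComplex.mk ι (K.d 0 1) comp).Exact
  exact : ∀ n : ℕ, (ShortComplex.mk (K.d n (n + 1)) (K.d (n + 1) (n + 2)) (K.d_comp_d _ _ _)).Exact
  flasque : FlasqueTerms K

variable {M : X.Modules}

/-- An injective resolution is a flasque one. -/
noncomputable def FlRes.ofInjective (I : InjectiveResolution M) : FlRes M where
  K := I.cocomplex
  ι := I.ι.f 0
  comp := I.ι_f_zero_comp_complex_d
  mono := mono_of_isLimit_fork I.isLimitKernelFork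
  exact₀ := I.exact₀
  exact := I.exact_succ
  flasque n _ _ h := surjective_map_injective (I.cocomplex.X n) h

variable (F : FlRes M)

/-- The augmentation, on sections. -/
noncomputable def FlRes.aug : Aug M F.K where
  ι := F.ι
  inj V := have := F.mono; QCohLib.app_injective_of_mono F.ι V
  comp := F.comp
  exact V z hz := QCohLib.exists_of_app_eq_zero F.exact₀ F.mono z hz

theorem FlRes.isFlasque (n : ℕ) :
    TopCat.Sheaf.IsFlasque ((toAbF X).obj (F.K.X n) : TopCat.Sheaf AddCommGrpCat.{u} X.toTopCat) :=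
  ⟨fun {U V} i => (AddCommGrpCat.epi_iff_surjective _).mpr
    (F.flasque n (P := V.unop) (Q := U.unop) i.unop.le)⟩

/-- The cycle sequences. -/
noncomputable abbrev cycSeq (K : CochainComplex X.Modules ℕ) (k : ℕ) : ShortComplex X.Modules :=
  ShortComplex.mk (kernel.ι (K.d k (k + 1)))
    (kernel.lift (K.d (k + 1) (k + 2)) (K.d k (k + 1)) (K.d_comp_d _ _ _))
    (by rw [← cancel_mono (kernel.ι (K.d (k + 1) (k + 2)))]; simp)

theorem FlRes.cycSeq_shortExact (k : ℕ) : (cycSeq F.K k).ShortExact where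
  mono_f := inferInstanceAs (Mono (kernel.ι _))
  epi_g := (ShortComplex.exact_iff_epi_kernel_lift _).mp (F.exact k)
  exact := ShortComplex.exact_of_f_is_kernel _ <|
    KernelFork.IsLimit.ofι' _ _ fun {A} g hg => ⟨kernel.lift _ g (by
      rw [← kernel.lift_ι (F.K.d (k + 1) (k + 2)) (F.K.d k (k + 1)) (F.K.d_comp_d _ _ _),
        ← Category.assoc, hg, zero_comp]), kernel.lift_ι _ _ _⟩

/-- `M` is the module of cocycles in degree zero. -/
noncomputable def FlRes.kerIso : M ≅ kernel (F.K.d 0 1) :=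
  have : Mono (ShortComplex.mk F.ι (F.K.d 0 1) F.comp).f := F.mono
  (F.exact₀.fIsKernel).conePointUniqueUpToIso (limit.isLimit _)

theorem FlRes.subsingleton_cyc {U : X.Opens}
    (h : ∀ m, Subsingleton (HU ((toAbF X).obj M) (m + 1) U)) :
    ∀ k m : ℕ, Subsingleton (HU ((toAbF X).obj (kernel (F.K.d k (k + 1)))) (m + 1) U) := by
  intro k
  induction k with
  | zero => exact fun m => @QCohLib.subsingleton_of_iso _ _ _ ((toAbF X).mapIso F.kerIso) _ _ (h m)
  | succ k ih =>
    intro m
    have := F.isFlasque k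
    have h2 : Subsingleton (HU (((cycSeq F.K k).map (toAbF X)).X₂) (m + 1) U) :=
      @QCohLib.subsingleton_of_isFlasque _ m ((toAbF X).obj (F.K.X k)) (F.isFlasque k) U
    have h1 : Subsingleton (HU (((cycSeq F.K k).map (toAbF X)).X₁) (m + 1 + 1) U) := ih (m + 1)
    exact QCohLib.subsingleton_X₃ (QCohLib.toAbF_shortExact (F.cycSeq_shortExact k))

theorem FlRes.affAcyclic [Coh.IsQCoh M] : AffAcyclic F.K := by
  intro V hV n z hz
  have hex : (ShortComplex.mk (kernel.ι (F.K.d (n + 1) (n + 2))) (F.K.d (n + 1) (n + 2))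
      (kernel.condition _)).Exact := ShortComplex.exact_of_f_is_kernel _ (kernelIsKernel _)
  obtain ⟨y, hy⟩ := QCohLib.exists_of_app_eq_zero hex inferInstance z hz
  have : Subsingleton (HU (((cycSeq F.K n).map (toAbF X)).X₁) 1 V) :=
    F.subsingleton_cyc (fun m => QCohLib.subsingleton_HU_affine M m hV) n 0
  obtain ⟨t, ht⟩ := QCohLib.exists_lift_of_subsingleton
    (QCohLib.toAbF_shortExact (F.cycSeq_shortExact n)) (U := V) y
  refine ⟨t, ?_⟩
  rw [← hy]
  have e := congr(($(kernel.lift_ι (F.K.d (n + 1) (n + 2)) (F.K.d n (n + 1)) (F.K.d_comp_d _ _ _))).app V t)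
  refine e.symm.trans ?_
  exact congrArg ((kernel.ι (F.K.d (n + 1) (n + 2))).app V) ht

end RpushLib
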