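import Groth.Agent.KFlatLib.StalkPull
import Groth.Agent.RpushLib.Resol
import Mathlib.AlgebraicGeometry.Morphisms.Flat

/-!
# Pullback along flat morphisms is exact
-/

set_option autoImplicit false

universe u

open CategoryTheory CategoryTheory.Limits AlgebraicGeometry TopologicalSpace Opposite

namespace RpushLib

variable {X Y : Scheme.{u}}

theorem mono_of_stalks {M N : X.Modules} (φ : M ⟶ N)
    (h : ∀ x, Mono ((DerSch.stalkFunctor X x).map φ)) : Mono φ := by
  rw [Preadditive.mono_iff_isZero_kernel, KFlatLib.isZero_iff_forall_stalk]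
  intro x
  have := h x
  exact (isZero_kernel_of_mono _).of_iso (PreservesKernel.iso (DerSch.stalkFunctor X x) φ)

theorem mono_extendScalars {R S : Type u} [CommRing R] [CommRing S] (σ : R →+* S) (hσ : σ.Flat)
    {M N : ModuleCat.{u} R} (φ : M ⟶ N) [Mono φ] :
    Mono ((ModuleCat.extendScalars.{u, u, u} σ).map φ) := by
  algebraize [σ]
  exact (ModuleCat.mono_iff_injective _).mpr
    (Module.Flat.lTensor_preserves_injective_linearMap φ.hom ((ModuleCat.mono_iff_injective φ).mp ‹_›))

/-- Pullback along a flat morphism preserves monomorphisms. -/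
theorem preservesMonomorphisms_pullback (g : Y ⟶ X) [Flat g] :
    (Scheme.Modules.pullback g).PreservesMonomorphisms := ⟨fun {M N} φ _ => by
  refine mono_of_stalks _ fun y => ?_
  have h1 : Mono ((DerSch.stalkFunctor X (g y)).map φ) := CategoryTheory.preserves_mono_of_preservesLimit _ φ
  have h2 := mono_extendScalars (g.stalkMap y).hom (Flat.stalkMap g y) ((DerSch.stalkFunctor X (g y)).map φ)
  have e := (KFlatLib.stalkPullIso g y).hom.naturality φ
  refine @mono_of_mono _ _ _ _ _ _ ((KFlatLib.stalkPullIso g y).hom.app N) ?_
  change Mono ((Scheme.Modules.pullback g ⋙ DerSch.stalkFunctor Y y).map φ ≫ _)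
  rw [e]
  exact @mono_comp _ _ _ _ _ _ inferInstance _ h2⟩

/-- Pushforward along a flat morphism preserves injectives. -/
theorem injective_pushforward (g : Y ⟶ X) [Flat g] (J : Y.Modules) [Injective J] :
    Injective ((Scheme.Modules.pushforward g).obj J) :=
  have := preservesMonomorphisms_pullback g
  Injective.injective_of_adjoint (Scheme.Modules.pullbackPushforwardAdjunction g) J

end RpushLib
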