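import Groth.Agent.RpushLib.Push
import Groth.Agent.SpSeqLib.AcyclicComplex
import Groth.Agent.QCohLib.AbPush
import Groth.Agent.ModSiteLib.Grothendieck

/-!
# Higher direct images of modules and of abelian sheaves
-/

set_option autoImplicit false

universe v v' u u'

set_option linter.unusedSectionVars false
open CategoryTheory CategoryTheory.Limits AlgebraicGeometry TopologicalSpace Opposite
open QCohLib (AbSh HU toAbF)

attribute [local instance] HasDerivedCategory.standard

namespace RpushLib

/-- A resolution by acyclic objects computes the right derived functors. -/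
theorem nonempty_rightDerived_iso_of_acyclic {C : Type u} [Category.{v} C] [Abelian C]
    [EnoughInjectives C] {D : Type u'} [Category.{v'} D] [Abelian D]
    (S : C ⥤ D) [S.Additive] [PreservesFiniteLimits S] {Z : C} (K : CochainComplex C ℕ)
    (i : (CochainComplex.single₀ C).obj Z ⟶ K) [QuasiIso i]
    (h : ∀ n, SpSeqLib.IsSAcyclic S (K.X n)) (q : ℕ) :
    Nonempty ((S.rightDerived q).obj Z ≅ ((S.mapHomologicalComplex _).obj K).homology q) := by
  let L : CochainComplex C ℤ := K.extend ComplexShape.embeddingUpNat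
  have : L.IsStrictlyGE 0 := by dsimp only [L]; infer_instance
  let i' : (CochainComplex.singleFunctor C 0).obj Z ⟶ L :=
    (HomologicalComplex.extendSingleIso _ _ _ _ (by simp)).inv ≫
      (ComplexShape.embeddingUpNat.extendFunctor C).map i
  have : QuasiIso i' := by
    change QuasiIso ((HomologicalComplex.extendSingleIso _ _ _ _ (by simp)).inv ≫
      HomologicalComplex.extendMap i ComplexShape.embeddingUpNat)
    infer_instance
  have hL : ∀ n, SpSeqLib.IsSAcyclic S (L.X n) := fun n => by
    by_cases hn : 0 ≤ n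
    · obtain ⟨k, rfl⟩ := Int.eq_ofNat_of_zero_le hn
      exact fun p hp => (h k p hp).of_iso
        ((SpSeqLib.phiSingle S p).mapIso (K.extendXIso ComplexShape.embeddingUpNat (i := k) rfl))
    · exact SpSeqLib.isSAcyclic_of_isZero S (CochainComplex.isZero_of_isStrictlyGE L 0 n (by lia))
  obtain ⟨e₀⟩ := SpSeqLib.nonempty_phiSingle_iso S Z q
  obtain ⟨e₁⟩ := SpSeqLib.nonempty_phiShiftQPlus_iso S L 0 hL q
  let eS : (DerivedCategory.Plus.singleFunctor C 0).obj Z ≅
      SpSeqLib.qPlus ((CochainComplex.singleFunctor C 0).obj Z) ⟨0, inferInstance⟩ :=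
    DerivedCategory.Plus.ι.preimageIso ((DerivedCategory.singleFunctorIsoCompQ C 0).app Z)
  exact ⟨e₀.symm ≪≫
    ((SpSeqLib.phi S).shift (q : ℤ)).mapIso (eS ≪≫ SpSeqLib.qPlusIso (hL := ⟨0, inferInstance⟩) i') ≪≫ e₁ ≪≫
    HomologicalComplex.homologyMapIso (SpSeqLib.mapExtendNatIso S K) (q : ℤ) ≪≫
    HomologicalComplex.extendHomologyIso _ _ rfl⟩

variable {X Y : Scheme.{u}} (f : X ⟶ Y)

instance preservesFiniteLimits_pushAb : PreservesFiniteLimits (Coh.pushAb f) :=
  have : PreservesLimitsOfSize.{u, u} (Coh.pushAb f) :=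
    (TopCat.Sheaf.pullbackPushforwardAdjunction AddCommGrpCat.{u} f.base).rightAdjoint_preservesLimits
  PreservesLimitsOfSize.preservesFiniteLimits _

theorem isSAcyclic_flasque (F : AbSh X.toTopCat)
    [TopCat.Sheaf.IsFlasque (F : TopCat.Sheaf AddCommGrpCat.{u} X.toTopCat)] :
    SpSeqLib.IsSAcyclic (Coh.pushAb f) F := by
  rw [SpSeqLib.isSAcyclic_iff]
  intro q hq
  refine QCohLib.isZero_rightDerived (f := f.base) (B := Set.univ)
    (Opens.isBasis_iff_nbhd.mpr fun {U x} hx => ⟨U, trivial, hx, le_rfl⟩) (d := 0) ?_ hq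
  exact fun V _ n _ => QCohLib.subsingleton_of_isFlasque n F _

/-- Forgetting the module structure commutes with direct images of complexes. -/
noncomputable def toAbPushIso (K : CochainComplex X.Modules ℕ) :
    ((toAbF Y).mapHomologicalComplex _).obj (pushCx f K) ≅
      ((Coh.pushAb f).mapHomologicalComplex _).obj (((toAbF X).mapHomologicalComplex _).obj K) :=
  HomologicalComplex.Hom.isoOfComponents (fun _ => Iso.refl _) (fun i j _ => by
    refine (Category.id_comp _).trans (Eq.trans ?_ (Category.comp_id _).symm)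
    rfl)

/-- The underlying sheaf of `R^n f_* M` is `R^n f_*` of the underlying sheaf. -/
theorem nonempty_toAb_rpush_iso [HasInjectiveResolutions X.Modules] (M : X.Modules) (n : ℕ) :
    Nonempty (Coh.toAb ((Coh.Rpush f n).obj M) ≅ (Coh.RpushAb f n).obj (Coh.toAb M)) := by
  let I := injectiveResolution M
  have : QuasiIso I.ι := I.quasiIso
  let i := ((HomologicalComplex.singleMapHomologicalComplex (toAbF X) (ComplexShape.up ℕ) 0).inv.app M) ≫
    ((toAbF X).mapHomologicalComplex _).map I.ι
  have : QuasiIso (((toAbF X).mapHomologicalComplex (ComplexShape.up ℕ)).map I.ι) := by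
    rw [HomologicalComplex.quasiIso_map_iff_of_preservesHomology]
    exact I.quasiIso
  have : QuasiIso i := by dsimp only [i]; infer_instance
  obtain ⟨e⟩ := nonempty_rightDerived_iso_of_acyclic (Coh.pushAb f) _ i
    (fun k => @isSAcyclic_flasque _ _ f ((toAbF X).obj (I.cocomplex.X k))
      (isFlasque_toAb_injective (I.cocomplex.X k))) n
  exact ⟨(toAbF Y).mapIso (rpushIso f I n) ≪≫
    (((pushCx f I.cocomplex).sc n).mapHomologyIso (toAbF Y)).symm ≪≫
    HomologicalComplex.homologyMapIso (toAbPushIso f I.cocomplex) n ≪≫ e.symm⟩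

end RpushLib
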