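import Groth.Agent.RpushLib.Sections
import Groth.Agent.RpushLib.Ab
import Groth.Agent.QCohLib.AffineFinite
import Mathlib.Topology.Sheaves.Stalks

/-!
# Vanishing of higher direct images from vanishing of cohomology
-/

set_option autoImplicit false

universe u

open CategoryTheory CategoryTheory.Limits AlgebraicGeometry TopologicalSpace Opposite

namespace RpushLib

variable {X S : Scheme.{u}} (f : X ⟶ S) [QuasiCompact f] [QuasiSeparated f]
  (M : X.Modules) [Coh.IsQCoh M] (p : ℕ)

/-- The stalk of `R^p f_* M` vanishes where cohomology over small affine opens does. -/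
theorem isZero_stalk_rpushAb (y : S) (V : S.Opens) (hy : y ∈ V)
    (h : ∀ W : S.Opens, IsAffineOpen W → W ≤ V → Subsingleton (Coh.HHon X M (f ⁻¹ᵁ W) p)) :
    IsZero (TopCat.Presheaf.stalk ((Coh.RpushAb f p).obj (Coh.toAb M)).obj y) := by
  let N := (Coh.Rpush f p).obj M
  have hN : Subsingleton (N.presheaf.stalk y) := by
    refine (QCohLib.subsingleton_stalk_iff N y).mpr fun U hU t => ?_
    obtain ⟨W, hW, hyW, hle⟩ := S.isBasis_affineOpens.exists_subset_of_mem_open
      (show y ∈ ((U ⊓ V : S.Opens) : Set S) from ⟨hU, hy⟩) (U ⊓ V).isOpen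
    obtain ⟨W, rfl⟩ : ∃ W' : S.Opens, (W' : Set S) = W := by
      obtain ⟨W', hW', rfl⟩ := hW; exact ⟨W', rfl⟩
    have hW' : IsAffineOpen W := by
      obtain ⟨W', hW', e⟩ := hW; rwa [← SetLike.coe_injective e]
    have hWU : W ≤ U := fun x hx => (hle hx).1
    refine ⟨W, hWU, hyW, ?_⟩
    have := h W hW' fun x hx => (hle hx).2
    exact (rpushSectionsEquiv f M p hW').injective (Subsingleton.elim _ _)
  obtain ⟨e⟩ := nonempty_toAb_rpush_iso f M p
  have he := (TopCat.Presheaf.stalkFunctor AddCommGrpCat.{u} y).mapIso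
    ((CategoryTheory.sheafToPresheaf _ _).mapIso e)
  exact (AddCommGrpCat.isZero_of_subsingleton (N.presheaf.stalk y)).of_iso he.symm

/-- `R^p f_* M` vanishes if cohomology over affine opens does. -/
theorem isZero_rpushAb
    (h : ∀ y : S, ∃ V : S.Opens, y ∈ V ∧ ∀ W : S.Opens, IsAffineOpen W → W ≤ V →
      Subsingleton (Coh.HHon X M (f ⁻¹ᵁ W) p)) :
    IsZero ((Coh.RpushAb f p).obj (Coh.toAb M)) := by
  rw [IsZero.iff_id_eq_zero]
  let F : TopCat.Sheaf AddCommGrpCat.{u} S.toTopCat := (Coh.RpushAb f p).obj (Coh.toAb M)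
  refine Sheaf.hom_ext (show (𝟙 F : F ⟶ F).hom = (0 : F ⟶ F).hom from ?_)
  refine NatTrans.ext (funext fun U => AddCommGrpCat.ext fun s => ?_)
  refine TopCat.Presheaf.section_ext F U.unop _ _ fun x hx => ?_
  obtain ⟨V, hV, hW⟩ := h x
  have := AddCommGrpCat.subsingleton_of_isZero (isZero_stalk_rpushAb f M p x V hV hW)
  exact Subsingleton.elim _ _

end RpushLib
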