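import Groth.Agent.RpushLib.Resol
import Groth.Agent.QCohLib.AbPush
import Groth.Agent.ModSiteLib.Grothendieck

/-!
# Cohomology by flasque resolutions, with the action of global functions
-/

set_option autoImplicit false
set_option linter.unusedSectionVars false

universe u

open CategoryTheory CategoryTheory.Limits AlgebraicGeometry TopologicalSpace Opposite
open CategoryTheory.Abelian
open QCohLib (AbSh HU toAbF h0 h0_comp)

namespace RpushLib

variable {X : Scheme.{u}}

instance hasInjectiveResolutions_modules : HasInjectiveResolutions X.Modules :=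
  have : EnoughInjectives X.Modules :=
    ModSiteLib.sheafOfModules_enoughInjectives (R := X.ringCatSheaf)
  inferInstance

theorem smulAb_natural {M N : X.Modules} (φ : M ⟶ N) (r : Coh.Γtop X) :
    Coh.smulAb M r ≫ (toAbF X).map φ = (toAbF X).map φ ≫ Coh.smulAb N r := by
  ext V m
  exact φ.app_smul (Coh.resTop X V r) m

variable {M : X.Modules} (F : FlRes M) (U : X.Opens)

/-- The abelian sheaf of cocycles. -/
noncomputable abbrev FlRes.Z (k : ℕ) : AbSh X.toTopCat :=
  (toAbF X).obj (kernel (F.K.d k (k + 1)))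

/-- The cycle sequences, as abelian sheaves. -/
noncomputable abbrev FlRes.cycAb (k : ℕ) : ShortComplex (AbSh X.toTopCat) :=
  ShortComplex.mk (X₁ := F.Z k) (X₂ := (toAbF X).obj (F.K.X k)) (X₃ := F.Z (k + 1))
    ((toAbF X).map (kernel.ι (F.K.d k (k + 1))))
    ((toAbF X).map (kernel.lift (F.K.d (k + 1) (k + 1 + 1)) (F.K.d k (k + 1)) (F.K.d_comp_d _ _ _)))
    ((cycSeq F.K k).map (toAbF X)).zero

theorem FlRes.cycAb_shortExact (k : ℕ) : (F.cycAb k).ShortExact :=
  QCohLib.toAbF_shortExact (F.cycSeq_shortExact k)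

theorem FlRes.subsingleton_term (k m : ℕ) :
    Subsingleton (HU (F.cycAb k).X₂ (m + 1) U) :=
  @QCohLib.subsingleton_of_isFlasque _ m ((toAbF X).obj (F.K.X k)) (F.isFlasque k) U

/-- The connecting map of the cycle sequences. -/
noncomputable def FlRes.dlt (k m : ℕ) : HU (F.Z (k + 1)) m U →+ HU (F.Z k) (m + 1) U :=
  (F.cycAb_shortExact k).extClass.postcomp (QCohLib.zsh U) rfl

theorem FlRes.dlt_surjective (k m : ℕ) : Function.Surjective (F.dlt U k m) := fun x => by
  have := F.subsingleton_term U k m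
  obtain ⟨y, hy⟩ := QCohLib.exists_eq_comp_extClass (F.cycAb_shortExact k) x
  exact ⟨y, hy⟩

theorem FlRes.dlt_bijective (k m : ℕ) : Function.Bijective (F.dlt U k (m + 1)) := by
  refine ⟨(injective_iff_map_eq_zero _).mpr fun x hx => ?_, F.dlt_surjective U k (m + 1)⟩
  have := F.subsingleton_term U k m
  obtain ⟨y, rfl⟩ := Ext.covariant_sequence_exact₃ _ (F.cycAb_shortExact k) x rfl hx
  rw [Subsingleton.elim y 0, Ext.zero_comp]

/-- Descending along the cycle sequences. -/
noncomputable def FlRes.down : ∀ (k m n : ℕ), m + k = n →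
    (HU (F.Z k) m U →+ HU ((toAbF X).obj M) n U)
  | 0, _, _, h => (Ext.mk₀ ((toAbF X).map F.kerIso.inv)).postcomp (QCohLib.zsh U) h
  | k + 1, m, n, h => (FlRes.down k (m + 1) n (by omega)).comp (F.dlt U k m)

theorem FlRes.down_zero_bijective (m n : ℕ) (h : m + 0 = n) :
    Function.Bijective (F.down U 0 m n h) := by
  obtain rfl : m = n := h
  refine Function.bijective_iff_has_inverse.mpr
    ⟨fun y => y.comp (Ext.mk₀ ((toAbF X).map F.kerIso.hom)) (add_zero m), fun x => ?_, fun y => ?_⟩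
  · change (x.comp (Ext.mk₀ _) (add_zero m)).comp (Ext.mk₀ _) (add_zero m) = x
    rw [Ext.comp_assoc_of_second_deg_zero, Ext.mk₀_comp_mk₀, ← Functor.map_comp, Iso.inv_hom_id,
      CategoryTheory.Functor.map_id, Ext.comp_mk₀_id]
  · change (y.comp (Ext.mk₀ _) (add_zero m)).comp (Ext.mk₀ _) (add_zero m) = y
    rw [Ext.comp_assoc_of_second_deg_zero, Ext.mk₀_comp_mk₀, ← Functor.map_comp, Iso.hom_inv_id,
      CategoryTheory.Functor.map_id, Ext.comp_mk₀_id]

theorem FlRes.down_bijective : ∀ (k m n : ℕ) (h : m + 1 + k = n),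
    Function.Bijective (F.down U k (m + 1) n h)
  | 0, m, n, h => F.down_zero_bijective U (m + 1) n h
  | k + 1, m, n, h =>
    (FlRes.down_bijective k (m + 1) n (by omega)).comp (F.dlt_bijective U k m)

theorem FlRes.down_surjective : ∀ (n : ℕ), Function.Surjective (F.down U n 0 n (zero_add n))
  | 0 => (F.down_zero_bijective U 0 0 rfl).2
  | k + 1 => (F.down_bijective U k 0 (k + 1) (by omega)).2.comp (F.dlt_surjective U k 0)

/-- The endomorphism by a global function commutes with descent. -/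
theorem FlRes.down_smul (r : Coh.Γtop X) : ∀ (k m n : ℕ) (h : m + k = n) (x : HU (F.Z k) m U),
    F.down U k m n h (x.comp (Ext.mk₀ (Coh.smulAb _ r)) (add_zero m)) =
      (F.down U k m n h x).comp (Ext.mk₀ (Coh.smulAb M r)) (add_zero n)
  | 0, m, n, h, x => by
    obtain rfl : m = n := h
    change (x.comp (Ext.mk₀ _) (add_zero m)).comp (Ext.mk₀ _) (add_zero m) =
      (x.comp (Ext.mk₀ _) (add_zero m)).comp (Ext.mk₀ _) (add_zero m)
    rw [Ext.comp_assoc_of_second_deg_zero, Ext.comp_assoc_of_second_deg_zero, Ext.mk₀_comp_mk₀,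
      Ext.mk₀_comp_mk₀, smulAb_natural]
  | k + 1, m, n, h, x => by
    let S := F.cycAb k
    let e : S ⟶ S := ShortComplex.homMk (Coh.smulAb _ r) (Coh.smulAb _ r) (Coh.smulAb _ r)
      (smulAb_natural (cycSeq F.K k).f r) (smulAb_natural (cycSeq F.K k).g r)
    have key : F.dlt U k m (x.comp (Ext.mk₀ (Coh.smulAb _ r)) (add_zero m)) =
        (F.dlt U k m x).comp (Ext.mk₀ (Coh.smulAb _ r)) (add_zero (m + 1)) := by
      change (x.comp (Ext.mk₀ e.τ₃) (add_zero m)).comp (F.cycAb_shortExact k).extClass rfl =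
        (x.comp (F.cycAb_shortExact k).extClass rfl).comp (Ext.mk₀ e.τ₁) (add_zero (m + 1))
      exact (Ext.comp_assoc_of_second_deg_zero _ _ _ _).trans ((congrArg (fun y => Ext.comp x y rfl)
        (ShortComplex.ShortExact.extClass_naturality (F.cycAb_shortExact k) (F.cycAb_shortExact k) e).symm).trans
          (Ext.comp_assoc_of_third_deg_zero _ _ _ _).symm)
    change F.down U k (m + 1) n _ (F.dlt U k m _) = (F.down U k (m + 1) n _ (F.dlt U k m x)).comp _ _
    rw [key]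
    exact FlRes.down_smul r k (m + 1) n (by omega) (F.dlt U k m x)

variable {R : Type u} [CommRing R] (φ : R →+* Γ(X, U))

theorem FlRes.cyc_exists (n : ℕ) (z : Cyc (secCx U φ F.K) n) :
    ∃ y : Γ(kernel (F.K.d n (n + 1)), U), (kernel.ι (F.K.d n (n + 1))).app U y = z.1 :=
  QCohLib.exists_of_app_eq_zero
    (S := ShortComplex.mk (kernel.ι (F.K.d n (n + 1))) (F.K.d n (n + 1)) (kernel.condition _))
    (ShortComplex.exact_of_f_is_kernel _ (kernelIsKernel _)) inferInstance z.1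
    ((mem_Cyc (secCx U φ F.K) n z.1).mp z.2)

/-- A cycle, as a section of the cocycle sheaf. -/
noncomputable def FlRes.zof (n : ℕ) : Cyc (secCx U φ F.K) n →+ (F.Z n).obj.obj (op U) where
  toFun z := (F.cyc_exists U φ n z).choose
  map_zero' := QCohLib.app_injective_of_mono (kernel.ι (F.K.d n (n + 1))) U
    ((F.cyc_exists U φ n 0).choose_spec.trans (map_zero ((kernel.ι (F.K.d n (n + 1))).app U).hom).symm)
  map_add' a b := QCohLib.app_injective_of_mono (kernel.ι (F.K.d n (n + 1))) U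
    ((F.cyc_exists U φ n (a + b)).choose_spec.trans
      (((map_add ((kernel.ι (F.K.d n (n + 1))).app U).hom _ _).trans
        (congrArg₂ (· + ·) (F.cyc_exists U φ n a).choose_spec (F.cyc_exists U φ n b).choose_spec)).symm))

theorem FlRes.zof_spec (n : ℕ) (z : Cyc (secCx U φ F.K) n) :
    (kernel.ι (F.K.d n (n + 1))).app U (F.zof U φ n z) = z.1 :=
  (F.cyc_exists U φ n z).choose_spec

theorem FlRes.zof_surjective (n : ℕ) : Function.Surjective (F.zof U φ n) := fun y => by
  refine ⟨⟨(kernel.ι (F.K.d n (n + 1))).app U y, (mem_Cyc (secCx U φ F.K) n _).mpr ?_⟩,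
    QCohLib.app_injective_of_mono (kernel.ι (F.K.d n (n + 1))) U (F.zof_spec U φ n _)⟩
  exact congrArg (fun φ => φ.app U y) (kernel.condition (F.K.d n (n + 1)))

/-- The class of a cycle. -/
noncomputable def FlRes.cls (n : ℕ) : Cyc (secCx U φ F.K) n →+ HU ((toAbF X).obj M) n U :=
  (F.down U n 0 n (zero_add n)).comp ((h0 (F := F.Z n) (U := U)).symm.toAddMonoidHom.comp (F.zof U φ n))

theorem FlRes.cls_surjective (n : ℕ) : Function.Surjective (F.cls U φ n) :=
  (F.down_surjective U n).comp ((h0 (F := F.Z n) (U := U)).symm.surjective.comp (F.zof_surjective U φ n))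

theorem FlRes.cls_eq_zero_iff : ∀ (n : ℕ) (z : Cyc (secCx U φ F.K) n),
    F.cls U φ n z = 0 ↔ mkH (secCx U φ F.K) n z = 0
  | 0, z => by
    rw [mkH_zero_eq_zero_iff]
    refine ⟨fun h => ?_, fun h => by rw [h, map_zero]⟩
    have h1 : (h0 (F := F.Z 0) (U := U)).symm (F.zof U φ 0 z) = 0 :=
      (F.down_zero_bijective U 0 0 rfl).1 (h.trans (map_zero _).symm)
    rw [AddEquiv.map_eq_zero_iff] at h1
    refine Subtype.ext ((F.zof_spec U φ 0 z).symm.trans ?_)
    rw [h1]
    exact map_zero ((kernel.ι (F.K.d 0 1)).app U).hom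
  | k + 1, z => by
    rw [mkH_succ_eq_zero_iff]
    have e : F.cls U φ (k + 1) z = F.down U k 1 (k + 1) (by omega)
        (F.dlt U k 0 ((h0 (F := F.Z (k + 1)) (U := U)).symm (F.zof U φ (k + 1) z))) := rfl
    have hd : ∀ q, F.dlt U k 0 ((h0 (F := F.Z (k + 1)) (U := U)).symm q) =
        QCohLib.delta0 (F.cycAb_shortExact k) U q := fun _ => rfl
    rw [e, hd, map_eq_zero_iff _ (F.down_bijective U k 0 (k + 1) (by omega)).1]
    refine (QCohLib.delta0_eq_zero_iff (F.cycAb_shortExact k) U _).trans ?_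
    have hg : ∀ t : Γ(F.K.X k, U), (kernel.ι (F.K.d (k + 1) (k + 2))).app U
        ((cycSeq F.K k).g.app U t) = (F.K.d k (k + 1)).app U t := fun t =>
      congrArg (fun φ => φ.app U t)
        (kernel.lift_ι (F.K.d (k + 1) (k + 2)) (F.K.d k (k + 1)) (F.K.d_comp_d _ _ _))
    constructor
    · rintro ⟨t, ht⟩
      refine ⟨t, ?_⟩
      refine ((hg t).symm.trans (congrArg ((kernel.ι (F.K.d (k + 1) (k + 2))).app U) ht)).trans ?_
      exact F.zof_spec U φ (k + 1) z
    · rintro ⟨t, ht⟩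
      refine ⟨t, QCohLib.app_injective_of_mono (kernel.ι (F.K.d (k + 1) (k + 2))) U ?_⟩
      exact ((hg t).trans ht).trans (F.zof_spec U φ (k + 1) z).symm

/-- Cohomology of sections of a flasque resolution is sheaf cohomology. -/
noncomputable def FlRes.huEquiv (n : ℕ) :
    Hq (secCx U φ F.K) n ≃+ HU ((toAbF X).obj M) n U :=
  AddEquiv.ofBijective
    (QuotientAddGroup.lift (LinearMap.range (toCyc (secCx U φ F.K) n)).toAddSubgroup (F.cls U φ n)
      (fun z hz => (F.cls_eq_zero_iff U φ n z).mpr ((Submodule.Quotient.mk_eq_zero _).mpr hz)))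
    ⟨(injective_iff_map_eq_zero _).mpr fun x hx => by
      obtain ⟨z, rfl⟩ := mkH_surjective _ _ x
      exact (F.cls_eq_zero_iff U φ n z).mp hx,
    fun y => by
      obtain ⟨z, rfl⟩ := F.cls_surjective U φ n y
      exact ⟨mkH _ n z, rfl⟩⟩

theorem FlRes.huEquiv_mk (n : ℕ) (z : Cyc (secCx U φ F.K) n) :
    F.huEquiv U φ n (mkH _ n z) = F.cls U φ n z := rfl

/-- `H^n(⊤)` of a flasque resolution is `H^n(X, M)`. -/
noncomputable def FlRes.hhEquiv (ψ : R →+* Γ(X, ⊤)) (n : ℕ) :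
    Hq (secCx ⊤ ψ F.K) n ≃+ Coh.HH X M n :=
  (F.huEquiv ⊤ ψ n).trans (QCohLib.hEquiv ((toAbF X).obj M) n).symm

theorem FlRes.hhEquiv_smul (ψ : R →+* Γ(X, ⊤)) (n : ℕ) (r : R) (x : Hq (secCx ⊤ ψ F.K) n) :
    F.hhEquiv ψ n (r • x) =
      HSMul.hSMul (α := Coh.Γtop X) (show Coh.Γtop X from ψ r) (F.hhEquiv ψ n x) := by
  obtain ⟨z, rfl⟩ := mkH_surjective _ _ x
  apply (QCohLib.hEquiv ((toAbF X).obj M) n).injective
  have h1 : ∀ y, (QCohLib.hEquiv ((toAbF X).obj M) n)
      ((F.hhEquiv ψ n) y) = F.huEquiv ⊤ ψ n y := fun y =>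
    (QCohLib.hEquiv ((toAbF X).obj M) n).apply_symm_apply _
  refine (h1 _).trans (Eq.trans ?_ (QCohLib.hEquiv_map (Coh.smulAb M (ψ r)) n
    (F.hhEquiv ψ n (mkH _ n z))).symm)
  rw [h1, ← map_smul, F.huEquiv_mk, F.huEquiv_mk]
  change F.down ⊤ n 0 n _ ((h0 (F := F.Z n) (U := (⊤ : X.Opens))).symm (F.zof ⊤ ψ n (r • z))) =
    Ext.comp (F.down ⊤ n 0 n _ ((h0 (F := F.Z n) (U := (⊤ : X.Opens))).symm (F.zof ⊤ ψ n z))) _ _
  rw [← F.down_smul ⊤ (ψ r)]
  congr 1
  apply (h0 (F := F.Z n) (U := (⊤ : X.Opens))).injective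
  rw [AddEquiv.apply_symm_apply, h0_comp, AddEquiv.apply_symm_apply]
  apply QCohLib.app_injective_of_mono (kernel.ι (F.K.d n (n + 1))) ⊤
  refine (F.zof_spec ⊤ ψ n (r • z)).trans (Eq.symm ?_)
  refine ((kernel.ι (F.K.d n (n + 1))).app_smul (Coh.resTop X (op ⊤) (ψ r)) _).trans ?_
  refine congrArg₂ (fun (a : Γ(X, ⊤)) (b : Γ(F.K.X n, ⊤)) => a • b) ?_ (F.zof_spec ⊤ ψ n z)
  change X.ringCatSheaf.obj.map (𝟙 (op (⊤ : X.Opens))) (ψ r) = ψ r
  rw [CategoryTheory.Functor.map_id]
  rfl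

end RpushLib
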