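import Groth.Agent.RpushLib.Affine
import Groth.Agent.AtlasCohLib.Finiteness
import Groth.Agent.QCohLib.AffineFinite

/-!
# Coherence of higher direct images from finiteness of cohomology
-/

set_option autoImplicit false
set_option linter.unusedSectionVars false

universe u

open CategoryTheory CategoryTheory.Limits AlgebraicGeometry TopologicalSpace Opposite

namespace RpushLib

variable {X S : Scheme.{u}}

/-- The part of `X` over an affine open, over its ring of functions. -/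
noncomputable def overW (f : X ⟶ S) {W : S.Opens} (hW : IsAffineOpen W) :
    (f ⁻¹ᵁ W : Scheme.{u}) ⟶ Spec (CommRingCat.of Γ(S, W)) :=
  (f ∣_ W) ≫ hW.isoSpec.hom

theorem toGlobal_overW (f : X ⟶ S) {W : S.Opens} (hW : IsAffineOpen W) (r : Γ(S, W)) :
    Coh.toGlobal (overW f hW) r = (f ⁻¹ᵁ W).topIso.inv (f.app W r) := by
  have e : (Scheme.ΓSpecIso Γ(S, W)).inv ≫ (overW f hW).appTop =
      f.app W ≫ (f ⁻¹ᵁ W).topIso.inv := by
    rw [overW, Scheme.Hom.comp_appTop, IsAffineOpen.isoSpec_hom_appTop]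
    simp only [Category.assoc, Iso.inv_hom_id_assoc]
    rw [Scheme.Hom.appTop, morphismRestrict_app]
    simp only [Scheme.Opens.topIso, Functor.mapIso_inv, Iso.op_inv, eqToIso.inv]
    change S.presheaf.map _ ≫ f.app _ ≫ X.presheaf.map _ = f.app W ≫ X.presheaf.map _
    rw [← Category.assoc, f.naturality, Category.assoc, ← Functor.map_comp]
    rfl
  exact congr($(e) r)

variable (f : X ⟶ S) [QuasiCompact f] [QuasiSeparated f] [HasInjectiveResolutions X.Modules]

/-- Finite cohomology over an affine open gives finitely many sections of `R^n f_*`. -/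
theorem finite_sections_rpush (M : X.Modules) [Coh.IsQCoh M] (n : ℕ) {W : S.Opens}
    (hW : IsAffineOpen W) (h : AtlasCoh.FiniteCoh (overW f hW) (M.restrict (f ⁻¹ᵁ W).ι)) :
    Module.Finite Γ(S, W) Γ((Coh.Rpush f n).obj M, W) := by
  let _ := Module.compHom (Coh.HHon X M (f ⁻¹ᵁ W) n) (Coh.toGlobal (overW f hW))
  have : Module.Finite Γ(S, W) (Coh.HHon X M (f ⁻¹ᵁ W) n) := h n
  refine AtlasCoh.finite_of_addEquiv (rpushSectionsEquiv f M n hW).symm fun r x => ?_
  rw [AddEquiv.symm_apply_eq, rpushSectionsEquiv_smul, AddEquiv.apply_symm_apply]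
  exact congrArg (fun a : Coh.Γtop (f ⁻¹ᵁ W : Scheme.{u}) => a • x) (toGlobal_overW f hW r)

/-- Higher direct images are coherent when cohomology over affines is finite. -/
theorem isCoh_rpush (M : X.Modules) [Coh.IsQCoh M] (n : ℕ)
    (h : ∀ {W : S.Opens} (hW : IsAffineOpen W),
      AtlasCoh.FiniteCoh (overW f hW) (M.restrict (f ⁻¹ᵁ W).ι)) :
    Coh.IsCoh ((Coh.Rpush f n).obj M) := by
  have := isQCoh_Rpush f M n
  refine ⟨this, QCohLib.isFT_of_finite fun p => ?_⟩
  obtain ⟨W, hW, hp⟩ := QCohLib.exists_affine_nhd p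
  exact ⟨W, hW, hp, finite_sections_rpush f M n hW (h hW)⟩

/-- Finite type is inherited by restrictions to opens. -/
theorem isFT_restrict {M : X.Modules} (h : CohB1.IsFT M) (U : X.Opens) :
    CohB1.IsFT (M.restrict U.ι) := by
  refine QCohLib.isFT_of_forall fun p => ?_
  obtain ⟨V₀, hp, n, s₀, hs₀⟩ := QCohLib.exists_genOn_of_isFT h (U.ι p)
  have hs := hs₀.mono (U' := U.ι ''ᵁ (U.ι ⁻¹ᵁ V₀)) (U.ι.image_preimage_le V₀)
  let s : ULift.{u} (Fin n) → Γ(M.restrict U.ι, U.ι ⁻¹ᵁ V₀) :=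
    fun i => M.presheaf.map (homOfLE (U.ι.image_preimage_le V₀)).op (s₀ i)
  refine ⟨U.ι ⁻¹ᵁ V₀, hp, n, s, fun V hV t q hq => ?_⟩
  obtain ⟨W, hW, hWU, hqW, c, hc⟩ := hs (U.ι ''ᵁ V) (U.ι.image_mono hV) t (U.ι q) ⟨q, hq, rfl⟩
  have hle : U.ι ''ᵁ (U.ι ⁻¹ᵁ W) ≤ W := U.ι.image_preimage_le W
  have hW' : U.ι ⁻¹ᵁ W ≤ V := (U.ι.preimage_mono hW).trans (U.ι.preimage_image_eq V).le
  refine ⟨U.ι ⁻¹ᵁ W, hW', hW'.trans hV, hqW,
    fun i => (U.ι.appIso _).hom (X.presheaf.map (homOfLE hle).op (c i)), ?_⟩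
  have h1 := congr_arg (M.presheaf.map (homOfLE hle).op) hc
  rw [QCohLib.map_map', map_sum] at h1
  refine Eq.trans ?_ (h1.trans (Finset.sum_congr rfl fun i _ => ?_))
  · rfl
  · rw [QCohLib.map_smul', QCohLib.map_map']
    refine Eq.trans ?_ (Scheme.Modules.smul_restrictAppIso_hom_apply U.ι M (U.ι ⁻¹ᵁ W) _ _).symm
    exact congr_arg₂ (· • ·)
      (Iso.hom_inv_id_apply (U.ι.appIso _) _).symm
      rfl

end RpushLib
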