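import Groth.Agent.RpushLib.Sec
import Groth.Agent.QCohLib.AffineFinite
import Groth.Agent.QCohLib.Affine
import Groth.Agent.QCohLib.Modules
import Mathlib.Topology.Sheaves.LocallySurjective

/-!
# Homology sheaves of complexes whose cohomology presheaves localise
-/

set_option autoImplicit false

universe u

open CategoryTheory CategoryTheory.Limits AlgebraicGeometry TopologicalSpace Opposite
open QCohLib (toAbF)

namespace RpushLib

variable {X : Scheme.{u}}

theorem exists_local_lift {M N : X.Modules} (φ : M ⟶ N) [Epi φ] {W : X.Opens} (s : Γ(N, W)) {p : X}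
    (hp : p ∈ W) : ∃ (V : X.Opens) (h : V ≤ W) (t : Γ(M, V)), p ∈ V ∧
      φ.app V t = N.presheaf.map (homOfLE h).op s := by
  obtain ⟨V, hV, ⟨t, ht⟩, hpV⟩ := (TopCat.Presheaf.isLocallySurjective_iff _).mp
    ((Sheaf.isLocallySurjective_iff_epi' (φ := (toAbF X).map φ)).mpr inferInstance) W s p hp
  exact ⟨V, hV, t, hpV, ht⟩

variable (K : CochainComplex X.Modules ℕ) (n : ℕ)

/-- Cohomology of sections over `W`, as a module over the functions. -/
abbrev PH (W : X.Opens) : Type u := Hq (secCx W (RingHom.id Γ(X, W)) K) n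

/-- Restriction of cohomology classes of sections. -/
noncomputable def phRes {W V : X.Opens} (h : V ≤ W) :
    PH K n W →ₛₗ[(X.presheaf.map (homOfLE h).op).hom] PH K n V :=
  (secRes (RingHom.id Γ(X, W)) (RingHom.id Γ(X, V)) h (fun _ => rfl) K).hq n

theorem phRes_phRes {W V V' : X.Opens} (h : V ≤ W) (h' : V' ≤ V) (x : PH K n W) :
    phRes K n h' (phRes K n h x) = phRes K n (h'.trans h) x := by
  obtain ⟨z, rfl⟩ := mkH_surjective _ _ x
  exact congrArg (mkH _ n) (Subtype.ext (QCohLib.map_map' (K.X n) (homOfLE h') (homOfLE h) z.1))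

theorem iCycles_exact : (ShortComplex.mk (K.iCycles n) (K.d n (n + 1)) (K.iCycles_d _ _)).Exact :=
  ShortComplex.exact_of_f_is_kernel _ (K.cyclesIsKernel n (n + 1) (by simp))

theorem iCycles_mem (W : X.Opens) (y : Γ(K.cycles n, W)) :
    (show (secCx W (RingHom.id Γ(X, W)) K).X n from (K.iCycles n).app W y) ∈
      Cyc (secCx W (RingHom.id Γ(X, W)) K) n := by
  rw [mem_Cyc]
  have h := congrArg (fun φ => φ.app W y) (K.iCycles_d n (n + 1))
  exact h

/-- Sections of the cycle module are cycles of sections. -/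
noncomputable def cycEquiv (W : X.Opens) :
    (secFun W (RingHom.id Γ(X, W))).obj (K.cycles n) ≃ₗ[Γ(X, W)]
      Cyc (secCx W (RingHom.id Γ(X, W)) K) n :=
  LinearEquiv.ofBijective
    (((secFun W (RingHom.id Γ(X, W))).map (K.iCycles n)).hom.codRestrict _ (iCycles_mem K n W))
    ⟨fun a b h => QCohLib.app_injective_of_mono (K.iCycles n) W (congrArg Subtype.val h), fun z => by
      obtain ⟨y, hy⟩ := QCohLib.exists_of_app_eq_zero (iCycles_exact K n) inferInstance z.1
        ((mem_Cyc (secCx W (RingHom.id Γ(X, W)) K) n z.1).mp z.2)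
      exact ⟨y, Subtype.ext hy⟩⟩

theorem cycEquiv_coe (W : X.Opens) (y : Γ(K.cycles n, W)) :
    (cycEquiv K n W y).1 = (K.iCycles n).app W y := rfl

/-- From cohomology of sections to sections of the homology sheaf. -/
noncomputable def toHom (W : X.Opens) :
    PH K n W →ₗ[Γ(X, W)] (secFun W (RingHom.id Γ(X, W))).obj (K.homology n) :=
  Submodule.liftQ _
    (((secFun W (RingHom.id Γ(X, W))).map (K.homologyπ n)).hom.comp (cycEquiv K n W).symm.toLinearMap) (by
      rintro _ ⟨a, rfl⟩
      rw [LinearMap.mem_ker, LinearMap.comp_apply]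
      have e : (cycEquiv K n W).symm (toCyc _ n a) =
          (K.toCycles ((ComplexShape.up ℕ).prev n) n).app W a := by
        rw [LinearEquiv.symm_apply_eq]
        refine Subtype.ext ?_
        have h := congrArg (fun φ => φ.app W a) (K.toCycles_i ((ComplexShape.up ℕ).prev n) n)
        exact h.symm
      refine (congrArg ((secFun W (RingHom.id Γ(X, W))).map (K.homologyπ n)).hom e).trans ?_
      have h := congrArg (fun φ => φ.app W a) (K.toCycles_comp_homologyπ ((ComplexShape.up ℕ).prev n) n)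
      exact h)

theorem toHom_mk (W : X.Opens) (y : Γ(K.cycles n, W)) :
    toHom K n W (mkH _ n (cycEquiv K n W y)) = (K.homologyπ n).app W y := by
  change (K.homologyπ n).app W ((cycEquiv K n W).symm (cycEquiv K n W y)) = _
  rw [LinearEquiv.symm_apply_apply]

theorem phRes_mk {W V : X.Opens} (h : V ≤ W) (y : Γ(K.cycles n, W)) :
    phRes K n h (mkH _ n (cycEquiv K n W y)) =
      mkH _ n (cycEquiv K n V ((K.cycles n).presheaf.map (homOfLE h).op y)) :=
  congrArg (mkH _ n) (Subtype.ext (QCohLib.app_map (K.iCycles n) (homOfLE h) y).symm)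

theorem exists_mk (W : X.Opens) (x : PH K n W) :
    ∃ y : Γ(K.cycles n, W), x = mkH _ n (cycEquiv K n W y) := by
  obtain ⟨z, rfl⟩ := mkH_surjective _ _ x
  exact ⟨(cycEquiv K n W).symm z, by rw [LinearEquiv.apply_symm_apply]⟩

theorem toHom_res {W V : X.Opens} (h : V ≤ W) (x : PH K n W) :
    toHom K n V (phRes K n h x) =
      (K.homology n).presheaf.map (homOfLE h).op (toHom K n W x) := by
  obtain ⟨y, rfl⟩ := exists_mk K n W x
  rw [phRes_mk, toHom_mk, toHom_mk]
  exact QCohLib.app_map (K.homologyπ n) (homOfLE h) y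

theorem exists_local_preimage {W : X.Opens} (σ : Γ(K.homology n, W)) {p : X} (hp : p ∈ W) :
    ∃ (V : X.Opens) (h : V ≤ W) (a : PH K n V), p ∈ V ∧
      toHom K n V a = (K.homology n).presheaf.map (homOfLE h).op σ := by
  obtain ⟨V, h, t, hpV, ht⟩ := exists_local_lift (K.homologyπ n) σ hp
  exact ⟨V, h, mkH _ n (cycEquiv K n V t), hpV, (toHom_mk K n V t).trans ht⟩

theorem exists_local_zero {W : X.Opens} (x : PH K n W) (hx : toHom K n W x = 0) {p : X} (hp : p ∈ W) :
    ∃ (V : X.Opens) (h : V ≤ W), p ∈ V ∧ phRes K n h x = 0 := by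
  obtain ⟨y, rfl⟩ := exists_mk K n W x
  rw [toHom_mk] at hx
  let i := (ComplexShape.up ℕ).prev n
  let S := ShortComplex.mk (K.toCycles i n) (K.homologyπ n) (K.toCycles_comp_homologyπ i n)
  have hS : S.Exact := ShortComplex.exact_of_g_is_cokernel _ (K.homologyIsCokernel i n rfl)
  have : Epi (kernel.lift S.g S.f S.zero) := (ShortComplex.exact_iff_epi_kernel_lift _).mp hS
  have hk : (ShortComplex.mk (kernel.ι S.g) S.g (kernel.condition _)).Exact :=
    ShortComplex.exact_of_f_is_kernel _ (kernelIsKernel _)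
  obtain ⟨k, hky⟩ := QCohLib.exists_of_app_eq_zero hk inferInstance y hx
  obtain ⟨V, h, a, hpV, ha⟩ := exists_local_lift (kernel.lift S.g S.f S.zero) k hp
  refine ⟨V, h, hpV, ?_⟩
  rw [phRes_mk, mkH_eq_zero_iff]
  refine ⟨a, ?_⟩
  have e := congrArg (fun φ => φ.app V a) (kernel.lift_ι S.g S.f S.zero)
  have e2 : (kernel.ι S.g).app V ((kernel (S.g)).presheaf.map (homOfLE h).op k) =
      (K.cycles n).presheaf.map (homOfLE h).op y :=
    (QCohLib.app_map (kernel.ι S.g) (homOfLE h) k).trans (congrArg _ hky)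
  rw [cycEquiv_coe, ← e2, ← ha]
  refine Eq.trans ?_ (congrArg ((K.iCycles n).app V) e).symm
  have e3 := congrArg (fun φ => φ.app V a) (K.toCycles_i i n)
  exact e3.symm

/-- Cohomology of sections over basic opens of affines is the localisation. -/
def Localizes : Prop :=
  ∀ (W : X.Opens), IsAffineOpen W → ∀ r : Γ(X, W),
    (∀ y : PH K n (X.basicOpen r), ∃ (k : ℕ) (x : PH K n W), phRes K n (X.basicOpen_le r) x =
        (X.presheaf.map (homOfLE (X.basicOpen_le r)).op r) ^ k • y) ∧
      ∀ x : PH K n W, phRes K n (X.basicOpen_le r) x = 0 → ∃ k : ℕ, r ^ k • x = 0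

variable {K n}

theorem ideal_eq_top {W : X.Opens} (hW : IsAffineOpen W) (I : Ideal Γ(X, W))
    (h : ∀ p : X, p ∈ W → ∃ r ∈ I, p ∈ X.basicOpen r) : I = ⊤ := by
  by_contra hI
  obtain ⟨m, hm, hIm⟩ := Ideal.exists_le_maximal I hI
  have hmem : hW.fromSpec (⟨m, hm.isPrime⟩ : PrimeSpectrum Γ(X, W)) ∈ W :=
    hW.range_fromSpec.le (Set.mem_range_self (⟨m, hm.isPrime⟩ : PrimeSpectrum Γ(X, W)))
  obtain ⟨r, hrI, hpr⟩ := h _ hmem
  have h' : (⟨m, hm.isPrime⟩ : PrimeSpectrum Γ(X, W)) ∈ hW.fromSpec ⁻¹ᵁ X.basicOpen r := hpr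
  rw [hW.fromSpec_preimage_basicOpen] at h'
  exact h' (hIm hrI)

theorem toHom_injective (hloc : Localizes K n) {W : X.Opens} (hW : IsAffineOpen W) :
    Function.Injective (toHom K n W) := by
  refine (injective_iff_map_eq_zero _).mpr fun x hx => ?_
  let I : Ideal Γ(X, W) := LinearMap.ker (LinearMap.toSpanSingleton Γ(X, W) (PH K n W) x)
  have hI : I = ⊤ := ideal_eq_top hW I fun p hp => by
    obtain ⟨V, h, hpV, hV⟩ := exists_local_zero K n x hx hp
    obtain ⟨r, hrV, hpr⟩ := QCohLib.exists_basicOpen_nhd hW hpV hp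
    obtain ⟨k, hk⟩ := (hloc W hW r).2 x (by rw [← phRes_phRes K n h hrV, hV, map_zero])
    refine ⟨r ^ (k + 1), ?_, ?_⟩
    · rw [LinearMap.mem_ker, LinearMap.toSpanSingleton_apply, pow_succ', mul_smul, hk, smul_zero]
    · rwa [Scheme.basicOpen_pow _ _ k.succ_pos]
  have h1 : (1 : Γ(X, W)) ∈ I := hI ▸ Submodule.mem_top
  rwa [LinearMap.mem_ker, LinearMap.toSpanSingleton_apply, one_smul] at h1

theorem toHom_surjective (hloc : Localizes K n) {W : X.Opens} (hW : IsAffineOpen W) :
    Function.Surjective (toHom K n W) := by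
  intro σ
  let H := (secFun W (RingHom.id Γ(X, W))).obj (K.homology n)
  let J : Ideal Γ(X, W) :=
    (LinearMap.range (toHom K n W)).comap (LinearMap.toSpanSingleton Γ(X, W) H σ)
  have hJ : J = ⊤ := ideal_eq_top hW J fun p hp => by
    obtain ⟨V, h, a, hpV, ha⟩ := exists_local_preimage K n σ hp
    obtain ⟨s, hsV, hps⟩ := QCohLib.exists_basicOpen_nhd hW hpV hp
    obtain ⟨k, x, hx⟩ := (hloc W hW s).1 (phRes K n hsV a)
    let τ : Γ(K.homology n, W) :=
      s ^ k • (show Γ(K.homology n, W) from σ) - (show Γ(K.homology n, W) from toHom K n W x)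
    have hτ0 : (K.homology n).presheaf.map (homOfLE (X.basicOpen_le s)).op τ = 0 := by
      simp only [τ]
      rw [map_sub, sub_eq_zero, Scheme.Modules.map_smul, ← toHom_res, hx, map_smulₛₗ, toHom_res, ha,
        map_pow, RingHom.id_apply, QCohLib.map_map', homOfLE_comp]
      rfl
    -- locally `τ` is killed by a power of `s`
    have hlocal : ∀ q : W, ∃ (g : Γ(X, W)) (N : ℕ), q.1 ∈ X.basicOpen g ∧
        (K.homology n).presheaf.map (homOfLE (X.basicOpen_le g)).op (s ^ N • τ) = 0 := by
      intro q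
      obtain ⟨V', h', b, hqV, hb⟩ := exists_local_preimage K n τ q.2
      obtain ⟨g, hgV, hqg⟩ := QCohLib.exists_basicOpen_nhd hW hqV q.2
      let b' := phRes K n hgV b
      have hb' : toHom K n _ b' = (K.homology n).presheaf.map (homOfLE (X.basicOpen_le g)).op τ := by
        rw [toHom_res, hb, QCohLib.map_map', homOfLE_comp]
      let s' := X.presheaf.map (homOfLE (X.basicOpen_le g)).op s
      have hsub : X.basicOpen s' ≤ X.basicOpen s :=
        ((X.basicOpen_res s (homOfLE (X.basicOpen_le g)).op).trans_le inf_le_right)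
      have hz : phRes K n (X.basicOpen_le s') b' = 0 := by
        apply toHom_injective hloc ((hW.basicOpen g).basicOpen s')
        rw [map_zero, toHom_res, hb', QCohLib.map_map', homOfLE_comp]
        have := congrArg ((K.homology n).presheaf.map (homOfLE hsub).op) hτ0
        rw [map_zero, QCohLib.map_map', homOfLE_comp] at this
        exact this
      obtain ⟨N, hN⟩ := (hloc _ (hW.basicOpen g) s').2 b' hz
      refine ⟨g, N, hqg, ?_⟩
      rw [Scheme.Modules.map_smul, ← hb', map_pow]
      exact ((toHom K n (X.basicOpen g)).map_smul (s' ^ N) b').symm.trans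
        ((congrArg _ hN).trans (map_zero _))
    choose g N hg hN using hlocal
    obtain ⟨t, ht⟩ := hW.isCompact.elim_finite_subcover (fun q => (X.basicOpen (g q) : Set X))
      (fun q => (X.basicOpen (g q)).isOpen) fun y hy => Set.mem_iUnion.mpr ⟨⟨y, hy⟩, hg ⟨y, hy⟩⟩
    let Nm := t.sup N
    have hNτ : s ^ Nm • τ = 0 := by
      refine TopCat.Sheaf.eq_of_locally_eq' ((toAbF X).obj (K.homology n) : TopCat.Sheaf AddCommGrpCat _)
        (fun q : t => X.basicOpen (g q.1)) W (fun q => homOfLE (X.basicOpen_le _))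
        (fun y hy => ?_) _ _ fun q => ?_
      · obtain ⟨q, hq, hyq⟩ := Set.mem_iUnion₂.mp (ht hy)
        exact Opens.mem_iSup.mpr ⟨⟨q, hq⟩, hyq⟩
      · change (K.homology n).presheaf.map _ (s ^ Nm • τ) = (K.homology n).presheaf.map _ 0
        rw [map_zero, show Nm = (Nm - N q.1) + N q.1 from
          (Nat.sub_add_cancel (Finset.le_sup (f := N) q.2)).symm, pow_add, mul_smul,
          Scheme.Modules.map_smul, hN, smul_zero]
    refine ⟨s ^ (Nm + k + 1), ?_, ?_⟩
    · rw [Submodule.mem_comap, LinearMap.toSpanSingleton_apply, LinearMap.mem_range]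
      refine ⟨s ^ (Nm + 1) • x, ?_⟩
      rw [map_smul]
      have h1 : s ^ Nm • (s ^ k • (show Γ(K.homology n, W) from σ)) =
          s ^ Nm • (show Γ(K.homology n, W) from toHom K n W x) :=
        sub_eq_zero.mp ((smul_sub _ _ _).symm.trans hNτ)
      have h2 := congrArg (fun z : Γ(K.homology n, W) => s • z) h1
      simp only [smul_smul, ← pow_add, ← pow_succ'] at h2
      exact h2.symm
    · rwa [Scheme.basicOpen_pow _ _ (Nat.succ_pos _)]
  have h1 : (1 : Γ(X, W)) ∈ J := hJ ▸ Submodule.mem_top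
  rw [Submodule.mem_comap, LinearMap.toSpanSingleton_apply, one_smul] at h1
  exact h1

/-- On affines, sections of the homology sheaf are cohomology of sections. -/
theorem toHom_bijective (hloc : Localizes K n) {W : X.Opens} (hW : IsAffineOpen W) :
    Function.Bijective (toHom K n W) :=
  ⟨toHom_injective hloc hW, toHom_surjective hloc hW⟩

theorem isQCoh_homology (hloc : Localizes K n) : Coh.IsQCoh (K.homology n) := by
  rw [QCohLib.isQCoh_iff_localizingAt]
  intro W hW r
  obtain ⟨h1, h2⟩ := hloc W hW r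
  refine ⟨fun s => ?_, fun t ht => ?_⟩
  · obtain ⟨b, rfl⟩ := toHom_surjective hloc (hW.basicOpen r) s
    obtain ⟨k, x, hx⟩ := h1 b
    refine ⟨k, toHom K n W x, ?_⟩
    rw [← toHom_res, hx, map_smul]
    rfl
  · obtain ⟨x, rfl⟩ := toHom_surjective hloc hW t
    obtain ⟨k, hk⟩ := h2 x (toHom_injective hloc (hW.basicOpen r) (by rw [toHom_res, ht, map_zero]; rfl))
    refine ⟨k, ?_⟩
    rw [show (X.presheaf.map (homOfLE (le_refl W)).op r) = r from by
      change X.presheaf.map (𝟙 (op W)) r = r; rw [CategoryTheory.Functor.map_id]; rfl]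
    exact ((toHom K n W).map_smul (r ^ k) x).symm.trans ((congrArg _ hk).trans (map_zero _))

end RpushLib
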