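import Groth.Agent.RpushLib.Localize
import Groth.Agent.RpushLib.Sheaf
import Mathlib.CategoryTheory.Abelian.RightDerived
import Mathlib.AlgebraicGeometry.Morphisms.QuasiSeparated

/-!
# Higher direct images of quasi-coherent modules on affine opens
-/

set_option autoImplicit false

universe u

open CategoryTheory CategoryTheory.Limits AlgebraicGeometry TopologicalSpace Opposite

namespace RpushLib

variable {X S : Scheme.{u}} (f : X ⟶ S)

/-- The direct image of a complex. -/
noncomputable abbrev pushCx (K : CochainComplex X.Modules ℕ) : CochainComplex S.Modules ℕ :=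
  ((Scheme.Modules.pushforward f).mapHomologicalComplex _).obj K

/-- Cohomology of sections of a direct image is cohomology of sections upstairs. -/
noncomputable def phPush (K : CochainComplex X.Modules ℕ) (n : ℕ) (W : S.Opens) :
    PH (pushCx f K) n W →ₗ[Γ(S, W)] Hq (secCx (f ⁻¹ᵁ W) (f.app W).hom K) n :=
  (secPush f W (RingHom.id Γ(S, W)) (K := pushCx f K) (𝟙 (pushCx f K))).hq n

theorem phPush_bijective (K : CochainComplex X.Modules ℕ) (n : ℕ) (W : S.Opens) :
    Function.Bijective (phPush f K n W) :=
  bijective_hq_of_termwise _ (fun _ => Function.bijective_id) n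

theorem localizes_pushCx [QuasiCompact f] [QuasiSeparated f] {M : X.Modules} [Coh.IsQCoh M]
    (F : FlRes M) (n : ℕ) : Localizes (pushCx f F.K) n := by
  intro W hW r
  let σ := (S.presheaf.map (homOfLE (S.basicOpen_le r)).op).hom
  let ψ : Γ(S, W) →+* Γ(X, f ⁻¹ᵁ S.basicOpen r) := (f.app (S.basicOpen r)).hom.comp σ
  have hc : ∀ s, X.presheaf.map (homOfLE (f.preimage_mono (S.basicOpen_le r))).op (f.app W s) =
      ψ (RingHom.id _ s) := fun s => (QCohLib.app_res f (S.basicOpen_le r) s).symm
  obtain ⟨h1, h2⟩ := Hq_loc F (QuasiCompact.isCompact_preimage (f := f) W W.isOpen hW.isCompact)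
    (f.isQuasiSeparated_preimage hW.isQuasiSeparated) (f.app W).hom r n
    (Scheme.preimage_basicOpen f r) (f.preimage_mono (S.basicOpen_le r)) ψ hc
  let ρ := secRes (σ := σ) ψ (f.app (S.basicOpen r)).hom (le_refl _) (fun s => by
    change X.presheaf.map (𝟙 (op _)) _ = _
    rw [CategoryTheory.Functor.map_id]; rfl) F.K
  have hρ : Function.Bijective (ρ.hq n) := by
    refine bijective_hq_of_termwise ρ (fun i => ?_) n
    exact ConcreteCategory.bijective_of_isIso ((F.K.X i).presheaf.map (𝟙 _))
  have hsq : ∀ x, phPush f F.K n _ (phRes (pushCx f F.K) n (S.basicOpen_le r) x) =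
      ρ.hq n ((secRes (f.app W).hom ψ (f.preimage_mono (S.basicOpen_le r)) hc F.K).hq n
        (phPush f F.K n W x)) := fun x => by
    obtain ⟨z, rfl⟩ := mkH_surjective _ _ x
    refine congrArg (mkH _ n) (Subtype.ext ?_)
    exact (QCohLib.map_map' (F.K.X n) (homOfLE (le_refl _))
      (homOfLE (f.preimage_mono (S.basicOpen_le r))) z.1).symm
  refine ⟨fun y => ?_, fun x hx => ?_⟩
  · obtain ⟨z, hz⟩ := hρ.2 (phPush f F.K n _ y)
    obtain ⟨k, x', hx'⟩ := h1 z
    obtain ⟨x, rfl⟩ := (phPush_bijective f F.K n W).2 x'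
    refine ⟨k, x, (phPush_bijective f F.K n _).1 ?_⟩
    rw [hsq, hx', map_smulₛₗ, map_smul, hz, map_pow]
  · obtain ⟨k, hk⟩ := h2 (phPush f F.K n W x) (hρ.1 (by rw [← hsq, hx, map_zero, map_zero]))
    exact ⟨k, (phPush_bijective f F.K n W).1 (by rw [map_smul, hk, map_zero])⟩

/-- `R^n f_* M` is computed by any injective resolution. -/
noncomputable def rpushIso [HasInjectiveResolutions X.Modules] {M : X.Modules}
    (I : InjectiveResolution M) (n : ℕ) :
    (Coh.Rpush f n).obj M ≅ (pushCx f I.cocomplex).homology n :=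
  I.isoRightDerivedObj (Scheme.Modules.pushforward f) n

/-- Higher direct images of quasi-coherent modules are quasi-coherent. -/
theorem isQCoh_Rpush [QuasiCompact f] [QuasiSeparated f] [HasInjectiveResolutions X.Modules]
    (M : X.Modules) [Coh.IsQCoh M] (n : ℕ) : Coh.IsQCoh ((Coh.Rpush f n).obj M) :=
  @QCohLib.isQCoh_of_iso _ _ _ (rpushIso f (injectiveResolution M) n).symm
    (isQCoh_homology (localizes_pushCx f (FlRes.ofInjective (injectiveResolution M)) n))

end RpushLib
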