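import Groth.Agent.RpushLib.Compare
import Groth.Agent.RpushLib.Push
import Groth.Agent.KFlatLib.QCohLpull

/-!
# Sections of higher direct images over affine opens
-/

set_option autoImplicit false
set_option linter.unusedSectionVars false

universe u

open CategoryTheory CategoryTheory.Limits AlgebraicGeometry TopologicalSpace Opposite
open QCohLib (AbSh HU toAbF)

namespace RpushLib

variable {X Y S : Scheme.{u}}

instance preservesFiniteLimits_restrictFunctor (j : Y ⟶ X) [IsOpenImmersion j] :
    PreservesFiniteLimits (Scheme.Modules.restrictFunctor j) :=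
  preservesFiniteLimits_of_natIso (Scheme.Modules.restrictFunctorIsoPullback j).symm

instance preservesFiniteColimits_restrictFunctor (j : Y ⟶ X) [IsOpenImmersion j] :
    PreservesFiniteColimits (Scheme.Modules.restrictFunctor j) :=
  have : PreservesColimitsOfSize.{0, 0} (Scheme.Modules.restrictFunctor j) :=
    (Scheme.Modules.restrictAdjunction j).leftAdjoint_preservesColimits
  PreservesColimitsOfSize.preservesFiniteColimits _

instance additive_restrictFunctor (j : Y ⟶ X) [IsOpenImmersion j] :
    (Scheme.Modules.restrictFunctor j).Additive :=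
  have := Limits.preservesBinaryBiproducts_of_preservesBinaryProducts (Scheme.Modules.restrictFunctor j)
  Functor.additive_of_preservesBinaryBiproducts _

variable {M : X.Modules}

/-- Restriction of a flasque resolution to an open subscheme. -/
noncomputable def FlRes.restrict (F : FlRes M) (j : Y ⟶ X) [IsOpenImmersion j] :
    FlRes (M.restrict j) where
  K := ((Scheme.Modules.restrictFunctor j).mapHomologicalComplex _).obj F.K
  ι := (Scheme.Modules.restrictFunctor j).map F.ι
  comp := by
    change _ ≫ (Scheme.Modules.restrictFunctor j).map (F.K.d 0 1) = 0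
    rw [← Functor.map_comp, F.comp, Functor.map_zero]
  mono :=
    have := F.mono
    have : PreservesLimit (cospan F.ι F.ι) (Scheme.Modules.restrictFunctor j) := inferInstance
    CategoryTheory.preserves_mono_of_preservesLimit _ F.ι
  exact₀ := F.exact₀.map (Scheme.Modules.restrictFunctor j)
  exact n := (F.exact n).map (Scheme.Modules.restrictFunctor j)
  flasque n {_ _} h := F.flasque n (j.image_mono h)

/-- Sections over `U` as global sections of the restriction. -/
noncomputable def topRes (F : FlRes M) (U : X.Opens) {R : Type u} [CommRing R] (φ : R →+* Γ(X, U)) :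
    SLHom (RingHom.id R) (secCx U φ F.K)
      (secCx (⊤ : (U : Scheme.{u}).Opens) (U.topIso.inv.hom.comp φ) (F.restrict U.ι).K) where
  f n :=
    { toFun := fun m => (show Γ((F.K.X n).restrict U.ι, ⊤) from
        (F.K.X n).presheaf.map (eqToHom U.ι_image_top).op (show Γ(F.K.X n, U) from m))
      map_add' := fun _ _ => map_add ((F.K.X n).presheaf.map (eqToHom U.ι_image_top).op).hom _ _
      map_smul' := fun r m => by
        refine (Scheme.Modules.map_smul (F.K.X n) _ (φ r) (show Γ(F.K.X n, U) from m)).trans ?_
        refine congrArg (fun a : Γ(X, U.ι ''ᵁ ⊤) => a •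
          (F.K.X n).presheaf.map (eqToHom U.ι_image_top).op (show Γ(F.K.X n, U) from m)) ?_
        change X.presheaf.map (eqToHom U.ι_image_top).op (φ r) =
          (U.ι.appIso ⊤).inv (U.topIso.inv (φ r))
        rw [Scheme.Opens.ι_appIso]
        rfl }
  comm i j m := QCohLib.app_map (F.K.d i j) (eqToHom U.ι_image_top) m

theorem topRes_bijective (F : FlRes M) (U : X.Opens) {R : Type u} [CommRing R] (φ : R →+* Γ(X, U))
    (n : ℕ) : Function.Bijective ((topRes F U φ).f n) :=
  ConcreteCategory.bijective_of_isIso ((F.K.X n).presheaf.map (eqToHom U.ι_image_top).op)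

/-- Cohomology of sections over `U` of a flasque resolution is `H^n(U, M|_U)`. -/
noncomputable def FlRes.hhonEquiv (F : FlRes M) (U : X.Opens) {R : Type u} [CommRing R]
    (φ : R →+* Γ(X, U)) (n : ℕ) : Hq (secCx U φ F.K) n ≃+ Coh.HHon X M U n :=
  (AddEquiv.ofBijective ((topRes F U φ).hq n).toAddMonoidHom
    (bijective_hq_of_termwise _ (topRes_bijective F U φ) n)).trans
    ((F.restrict U.ι).hhEquiv (U.topIso.inv.hom.comp φ) n)

theorem FlRes.hhonEquiv_smul (F : FlRes M) (U : X.Opens) {R : Type u} [CommRing R]
    (φ : R →+* Γ(X, U)) (n : ℕ) (r : R) (x : Hq (secCx U φ F.K) n) :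
    F.hhonEquiv U φ n (r • x) = HSMul.hSMul (α := Coh.Γtop (U : Scheme.{u}))
      (show Coh.Γtop (U : Scheme.{u}) from U.topIso.inv (φ r)) (F.hhonEquiv U φ n x) := by
  change (F.restrict U.ι).hhEquiv _ n ((topRes F U φ).hq n (r • x)) = _
  rw [map_smulₛₗ, RingHom.id_apply]
  exact (F.restrict U.ι).hhEquiv_smul _ n r ((topRes F U φ).hq n x)

variable (f : X ⟶ S) [QuasiCompact f] [QuasiSeparated f] [HasInjectiveResolutions X.Modules]

/-- On an affine open `W`, sections of `R^n f_* M` are `H^n(f⁻¹W, M)`. -/
noncomputable def rpushSectionsEquiv (M : X.Modules) [Coh.IsQCoh M] (n : ℕ) {W : S.Opens}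
    (hW : IsAffineOpen W) :
    Γ((Coh.Rpush f n).obj M, W) ≃+ Coh.HHon X M (f ⁻¹ᵁ W) n :=
  let F := FlRes.ofInjective (injectiveResolution M)
  ((AddEquiv.ofBijective ((rpushIso f (injectiveResolution M) n).hom.app W).hom
      (ConcreteCategory.bijective_of_isIso ((rpushIso f (injectiveResolution M) n).hom.app W))).trans
    (LinearEquiv.ofBijective (toHom (pushCx f F.K) n W)
      (toHom_bijective (localizes_pushCx f F n) hW)).symm.toAddEquiv).trans
    ((AddEquiv.ofBijective (phPush f F.K n W).toAddMonoidHom (phPush_bijective f F.K n W)).trans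
      (F.hhonEquiv (f ⁻¹ᵁ W) (f.app W).hom n))

theorem rpushSectionsEquiv_smul (M : X.Modules) [Coh.IsQCoh M] (n : ℕ) {W : S.Opens}
    (hW : IsAffineOpen W) (r : Γ(S, W)) (x : Γ((Coh.Rpush f n).obj M, W)) :
    rpushSectionsEquiv f M n hW (r • x) = HSMul.hSMul (α := Coh.Γtop (f ⁻¹ᵁ W : Scheme.{u}))
      (show Coh.Γtop (f ⁻¹ᵁ W : Scheme.{u}) from (f ⁻¹ᵁ W).topIso.inv (f.app W r))
      (rpushSectionsEquiv f M n hW x) := by
  let F := FlRes.ofInjective (injectiveResolution M)
  let eT := LinearEquiv.ofBijective (toHom (pushCx f F.K) n W)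
    (toHom_bijective (localizes_pushCx f F n) hW)
  let y := (rpushIso f (injectiveResolution M) n).hom.app W x
  have h1 : (rpushIso f (injectiveResolution M) n).hom.app W (r • x) = r • y :=
    (rpushIso f (injectiveResolution M) n).hom.app_smul r x
  change F.hhonEquiv _ _ n (phPush f F.K n W (eT.symm ((rpushIso f _ n).hom.app W (r • x)))) = _
  rw [h1]
  refine (congrArg (F.hhonEquiv _ _ n) ((congrArg (phPush f F.K n W)
    (eT.symm.map_smul r y)).trans ((phPush f F.K n W).map_smul r _))).trans ?_
  exact F.hhonEquiv_smul (f ⁻¹ᵁ W) (f.app W).hom n r _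

end RpushLib
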