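import Groth.Agent.RpushLib.HomBC

/-!
# Flat base change for higher direct images
-/

set_option autoImplicit false

universe u

open CategoryTheory CategoryTheory.Limits AlgebraicGeometry TopologicalSpace Opposite TensorProduct

namespace RpushLib

variable {X X' S S' : Scheme.{u}} {g : S' ⟶ S} {g' : X' ⟶ X} {f : X ⟶ S} {f' : X' ⟶ S'}

/-- A map of complexes upstairs gives one of direct images downstairs. -/
noncomputable def sqCx (w : g' ≫ f = f' ≫ g) {K : CochainComplex X.Modules ℕ}
    {J : CochainComplex X'.Modules ℕ} (θ : K ⟶ pushCx g' J) : pushCx f K ⟶ pushCx g (pushCx f' J) :=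
  ((Scheme.Modules.pushforward f).mapHomologicalComplex _).map θ ≫
    { f := fun k => (Scheme.Modules.pushforwardComp g' f ≪≫ Scheme.Modules.pushforwardCongr w ≪≫
          (Scheme.Modules.pushforwardComp f' g).symm).hom.app (J.X k)
      comm' := fun i j _ => ((Scheme.Modules.pushforwardComp g' f ≪≫ Scheme.Modules.pushforwardCongr w ≪≫
          (Scheme.Modules.pushforwardComp f' g).symm).hom.naturality (J.d i j)).symm }

/-- The two descriptions of the base change map on cohomology of sections agree. -/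
theorem bijective_secBC_sqCx (H : IsPullback g' f' f g) [QuasiCompact f] [QuasiSeparated f] [Flat g]
    {M : X.Modules} [Coh.IsQCoh M] (F : FlRes M) (G : FlRes ((Scheme.Modules.pullback g').obj M))
    (θ : F.K ⟶ pushCx g' G.K)
    (hθ : F.ι ≫ θ.f 0 = (Scheme.Modules.pullbackPushforwardAdjunction g').unit.app M ≫
      (Scheme.Modules.pushforward g').map G.ι)
    {US : S.Opens} (hUS : IsAffineOpen US) {UT : S'.Opens} (hUT : IsAffineOpen UT)
    (hg : UT ≤ g ⁻¹ᵁ US) (n : ℕ) :
    letI := (g.appLE US UT hg).hom.toAlgebra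
    Function.Bijective (extSL ((secBC (σ := algebraMap Γ(S, US) Γ(S', UT)) g (RingHom.id Γ(S, US))
      (RingHom.id Γ(S', UT)) hg (fun _ => rfl) (sqCx H.w θ)).hq n)) := by
  let := (g.appLE US UT hg).hom.toAlgebra
  let W := f ⁻¹ᵁ US
  let U := g' ⁻¹ᵁ W ⊓ f' ⁻¹ᵁ UT
  let ψ := (f'.appLE UT U inf_le_right).hom
  have hEq : U = f' ⁻¹ᵁ UT := inf_preimage_sq H.w hg
  let sb := secBC (σ := algebraMap Γ(S, US) Γ(S', UT)) g (RingHom.id Γ(S, US))
    (RingHom.id Γ(S', UT)) hg (fun _ => rfl) (sqCx H.w θ)
  let tb := secBC (σ := algebraMap Γ(S, US) Γ(S', UT)) g' (f.app US).hom ψ inf_le_left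
    (fun r => congr($(bc_compat H hg inf_le_left inf_le_right) r)) θ
  let eS := LinearEquiv.ofBijective (phPush f F.K n US) (phPush_bijective f F.K n US)
  let r := secRes (σ := RingHom.id Γ(S', UT)) (f'.app UT).hom ψ hEq.le
    (fun s => by rw [RingHom.id_apply]; rfl) G.K
  let eT : PH (pushCx f' G.K) n UT →ₗ[Γ(S', UT)] Hq (secCx U ψ G.K) n :=
    (r.hq n).comp (phPush f' G.K n UT)
  have heT : Function.Bijective eT := by
    refine Function.Bijective.comp (g := r.hq n) (f := phPush f' G.K n UT) ?_ (phPush_bijective f' G.K n UT)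
    refine bijective_hq_of_termwise r (fun i => ?_) n
    have : IsIso (homOfLE hEq.le) := ⟨homOfLE hEq.ge, Subsingleton.elim _ _, Subsingleton.elim _ _⟩
    exact ConcreteCategory.bijective_of_isIso ((G.K.X i).presheaf.map (homOfLE hEq.le).op)
  have hkey : eT.comp (extSL (sb.hq n)) =
      (extSL (tb.hq n)).comp (eS.toLinearMap.baseChange Γ(S', UT)) := by
    refine extSL_unique fun x => ?_
    refine (congrArg eT ((extSL_tmul _ (1 : Γ(S', UT)) x).trans (one_smul _ _))).trans (Eq.symm ?_)
    refine ((congrArg (extSL (tb.hq n))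
      (LinearMap.baseChange_tmul eS.toLinearMap (1 : Γ(S', UT)) x)).trans
      ((extSL_tmul _ (1 : Γ(S', UT)) _).trans (one_smul _ _))).trans ?_
    obtain ⟨y, rfl⟩ := mkH_surjective _ _ x
    refine congrArg (mkH _ n) (Subtype.ext ?_)
    let z : Γ(G.K.X n, g' ⁻¹ᵁ W) := (θ.f n).app W y.1
    change (G.K.X n).presheaf.map (homOfLE inf_le_left).op z =
      (G.K.X n).presheaf.map (homOfLE hEq.le).op
        ((G.K.X n).presheaf.map (homOfLE (f'.preimage_mono hg)).op
          ((G.K.X n).presheaf.map (eqToHom (show f' ⁻¹ᵁ (g ⁻¹ᵁ US) = g' ⁻¹ᵁ (f ⁻¹ᵁ US) by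
            rw [← Scheme.Hom.comp_preimage, ← H.w, Scheme.Hom.comp_preimage])).op z))
    rw [QCohLib.map_map', QCohLib.map_map']
    exact congrArg (fun i : U ⟶ g' ⁻¹ᵁ W => (G.K.X n).presheaf.map i.op z) (Subsingleton.elim _ _)
  have h1 : Function.Bijective (eS.toLinearMap.baseChange Γ(S', UT)) :=
    (eS.lTensor Γ(S', UT)).bijective
  refine (Function.Bijective.of_comp_iff' heT _).mp ?_
  rw [← LinearMap.coe_comp, hkey]
  exact (bijective_bc_sections H F G θ hθ hUS hUT hg rfl n).comp h1

theorem quasiCompact_of_sq (H : IsPullback g' f' f g) [QuasiCompact f] : QuasiCompact f' :=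
  MorphismProperty.of_isPullback (P := @QuasiCompact) H ‹QuasiCompact f›

theorem quasiSeparated_of_sq (H : IsPullback g' f' f g) [QuasiSeparated f] : QuasiSeparated f' :=
  MorphismProperty.of_isPullback (P := @QuasiSeparated) H ‹QuasiSeparated f›

/-- **Flat base change** for higher direct images. -/
theorem nonempty_pullback_rpush_iso (H : IsPullback g' f' f g) [QuasiCompact f] [QuasiSeparated f]
    [Flat g] [HasInjectiveResolutions X.Modules] [HasInjectiveResolutions X'.Modules]
    (M : X.Modules) [Coh.IsQCoh M] (n : ℕ) :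
    Nonempty ((Scheme.Modules.pullback g).obj ((Coh.Rpush f n).obj M) ≅
      (Coh.Rpush f' n).obj ((Scheme.Modules.pullback g').obj M)) := by
  have := quasiCompact_of_sq H
  have := quasiSeparated_of_sq H
  let P := (Scheme.Modules.pullback g').obj M
  have : Coh.IsQCoh P := KFlatLib.isQCoh_pullback g' M
  let I := injectiveResolution M
  let J := injectiveResolution P
  let F := FlRes.ofInjective I
  let G := FlRes.ofInjective J
  obtain ⟨θ, hθ⟩ := exists_bcLift H M F J
  have := isIso_homAdj_symm g (sqCx H.w (J := G.K) θ) n (localizes_pushCx f F n) (localizes_pushCx f' G n)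
    fun U U' hU hU' hle => bijective_secBC_sqCx H F G θ hθ hU hU' hle n
  exact ⟨(Scheme.Modules.pullback g).mapIso (rpushIso f I n) ≪≫ @asIso _ _ _ _ _ this ≪≫
    (rpushIso f' J n).symm⟩

end RpushLib
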