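import Groth.Agent.RpushLib.FlatBC
import Groth.Agent.RpushLib.Compare

/-!
# Flat base change over an affine base
-/

set_option autoImplicit false

universe u

open CategoryTheory CategoryTheory.Limits AlgebraicGeometry TopologicalSpace Opposite TensorProduct

namespace RpushLib

variable {A B : Type u} [CommRing A] [CommRing B] [Algebra A B] {X X' : Scheme.{u}}
  {f : X ⟶ Spec (CommRingCat.of A)} {f' : X' ⟶ Spec (CommRingCat.of B)} {g' : X' ⟶ X}

theorem toGlobal_comm (H : IsPullback g' f' f (Spec.map (CommRingCat.ofHom (algebraMap A B)))) (a : A) :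
    g'.appTop (Coh.toGlobal f a) = Coh.toGlobal f' (algebraMap A B a) := by
  have e : (Scheme.ΓSpecIso (CommRingCat.of A)).inv ≫ f.appTop ≫ g'.appTop =
      CommRingCat.ofHom (algebraMap A B) ≫ (Scheme.ΓSpecIso (CommRingCat.of B)).inv ≫ f'.appTop := by
    rw [← Scheme.Hom.comp_appTop, H.w, Scheme.Hom.comp_appTop, ← Category.assoc, ← Category.assoc,
      Scheme.ΓSpecIso_inv_naturality]
  exact congr($(e) a)

/-- Functions on the base change of an affine open. -/
theorem isPushout_affBase (H : IsPullback g' f' f (Spec.map (CommRingCat.ofHom (algebraMap A B))))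
    {V : X.Opens} (hV : IsAffineOpen V) {U : X'.Opens} (hU : U = g' ⁻¹ᵁ V) :
    IsPushout (CommRingCat.ofHom ((X.presheaf.map (homOfLE (le_top : V ≤ ⊤)).op).hom.comp (Coh.toGlobal f)))
      (CommRingCat.ofHom (algebraMap A B)) (g'.appLE V U hU.le)
      (CommRingCat.ofHom ((X'.presheaf.map (homOfLE (le_top : U ≤ ⊤)).op).hom.comp (Coh.toGlobal f'))) := by
  have h := isPushout_sections H (isAffineOpen_top _) (isAffineOpen_top _)
    (hg := (le_top : (⊤ : (Spec (CommRingCat.of B)).Opens) ≤ ⊤)) hV (le_top : V ≤ ⊤)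
  have hU' : g' ⁻¹ᵁ V ⊓ f' ⁻¹ᵁ ⊤ = U := by rw [hU]; exact inf_top_eq _
  refine h.of_iso (Scheme.ΓSpecIso (CommRingCat.of A)) (Iso.refl _) (Scheme.ΓSpecIso (CommRingCat.of B))
    (X'.presheaf.mapIso (eqToIso hU'.symm).op) ?_ ?_ ?_ ?_
  · rw [Iso.refl_hom, Category.comp_id, ← Iso.inv_comp_eq]
    rfl
  · rw [← Iso.inv_comp_eq]
    have e := Scheme.ΓSpecIso_inv_naturality (CommRingCat.ofHom (algebraMap A B))
    have e0 : (Spec.map (CommRingCat.ofHom (algebraMap A B))).appLE ⊤ ⊤ le_top =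
        (Spec.map (CommRingCat.ofHom (algebraMap A B))).appTop :=
      (Scheme.Hom.app_eq_appLE _).symm
    refine (Category.assoc _ _ _).symm.trans ?_
    refine (congrArg (· ≫ (Scheme.ΓSpecIso (CommRingCat.of B)).hom)
      ((congrArg ((Scheme.ΓSpecIso (CommRingCat.of A)).inv ≫ ·) e0).trans e.symm)).trans ?_
    rw [Category.assoc, Iso.inv_hom_id, Category.comp_id]
  · rw [Iso.refl_hom, Category.id_comp]
    exact (g'.appLE_map inf_le_left (eqToIso hU'.symm).hom.op)
  · rw [← Iso.inv_comp_eq]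
    change (Scheme.ΓSpecIso _).inv ≫ f'.appLE ⊤ _ inf_le_right ≫ X'.presheaf.map _ = _
    rw [Scheme.Hom.appLE_map]
    rfl

/-- **Flat base change over an affine base.** -/
theorem nonempty_affBase_bc [Module.Flat A B]
    (H : IsPullback g' f' f (Spec.map (CommRingCat.ofHom (algebraMap A B))))
    [CompactSpace X] [QuasiSeparatedSpace X] (M : X.Modules) [Coh.IsQCoh M] (n : ℕ) :
    letI := Module.compHom (Coh.HH X M n) (Coh.toGlobal f)
    letI := Module.compHom (Coh.HH X' ((Scheme.Modules.pullback g').obj M) n) (Coh.toGlobal f')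
    Nonempty (B ⊗[A] Coh.HH X M n ≃ₗ[B] Coh.HH X' ((Scheme.Modules.pullback g').obj M) n) := by
  let := Module.compHom (Coh.HH X M n) (Coh.toGlobal f)
  let := Module.compHom (Coh.HH X' ((Scheme.Modules.pullback g').obj M) n) (Coh.toGlobal f')
  have : Flat (Spec.map (CommRingCat.ofHom (algebraMap A B))) := by
    rw [HasRingHomProperty.Spec_iff (P := @Flat)]
    exact RingHom.flat_algebraMap_iff.mpr ‹_›
  let P := (Scheme.Modules.pullback g').obj M
  have : Coh.IsQCoh P := KFlatLib.isQCoh_pullback g' M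
  let F := FlRes.ofInjective (injectiveResolution M)
  let J := injectiveResolution P
  let G := FlRes.ofInjective J
  obtain ⟨θ, hθ⟩ := exists_bcLift H M F J
  let U₀ : X'.Opens := g' ⁻¹ᵁ (⊤ : X.Opens) ⊓ ⊤
  let ψ : B →+* Γ(X', U₀) :=
    (X'.presheaf.map (homOfLE (le_top : U₀ ≤ ⊤)).op).hom.comp (Coh.toGlobal f')
  have hc : ∀ a, g'.appLE ⊤ U₀ inf_le_left (Coh.toGlobal f a) = ψ (algebraMap A B a) := fun a => by
    change (g'.app ⊤ ≫ X'.presheaf.map _) (Coh.toGlobal f a) = X'.presheaf.map _ _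
    exact congrArg (fun z : Γ(X', ⊤) => X'.presheaf.map (homOfLE (le_top : U₀ ≤ ⊤)).op z)
      (toGlobal_comm H a)
  have hb := bijective_bc g' (Coh.toGlobal f) ⊤ ψ hc θ F.flasque G.flasque F.affAcyclic G.affAcyclic
    F.aug G.aug ((Scheme.Modules.pullbackPushforwardAdjunction g').unit.app M) hθ
    (fun V _ hV => by
      rw [inf_top_eq]
      have hV' := isAffineOpen_fibre H (isAffineOpen_top _) (isAffineOpen_top _)
        (hg := (le_top : (⊤ : (Spec (CommRingCat.of B)).Opens) ≤ ⊤)) hV (le_top : V ≤ ⊤)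
      rwa [show g' ⁻¹ᵁ V ⊓ f' ⁻¹ᵁ ⊤ = g' ⁻¹ᵁ V from inf_top_eq _] at hV')
    (fun V hV hVa hc' => by
      have hU' : IsAffineOpen (g' ⁻¹ᵁ V ⊓ ⊤) :=
        isAffineOpen_fibre H (isAffineOpen_top _) (isAffineOpen_top _)
          (hg := (le_top : (⊤ : (Spec (CommRingCat.of B)).Opens) ≤ ⊤)) hVa (le_top : V ≤ ⊤)
      refine bijective_secMap₀_of_isPushout g' hVa _ hU' _ inf_le_left hc' ?_ M
      have h := isPushout_affBase H hVa (U := g' ⁻¹ᵁ V ⊓ ⊤) (inf_top_eq _)
      have e2 : resφ ψ (inf_le_inf_right ⊤ (g'.preimage_mono hV)) =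
          (X'.presheaf.map (homOfLE (le_top : g' ⁻¹ᵁ V ⊓ ⊤ ≤ ⊤)).op).hom.comp (Coh.toGlobal f') :=
        RingHom.ext fun b => congr($((X'.presheaf.map_comp _ _).symm) (Coh.toGlobal f' b))
      rw [e2]
      exact h)
    isCompact_univ isQuasiSeparated_univ n
  let r := secRes (σ := RingHom.id B) (Coh.toGlobal f') ψ (le_top : U₀ ≤ ⊤) (fun _ => rfl) G.K
  have hr : Function.Bijective (r.hq n) := by
    refine bijective_hq_of_termwise r (fun i => ?_) n
    have hU : (⊤ : X'.Opens) ≤ U₀ := le_inf le_rfl le_rfl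
    have : IsIso (homOfLE (le_top : U₀ ≤ ⊤)) :=
      ⟨homOfLE hU, Subsingleton.elim _ _, Subsingleton.elim _ _⟩
    exact ConcreteCategory.bijective_of_isIso ((G.K.X i).presheaf.map (homOfLE (le_top : U₀ ≤ ⊤)).op)
  let e₁ : Hq (secCx ⊤ (Coh.toGlobal f) F.K) n ≃ₗ[A] Coh.HH X M n :=
    { F.hhEquiv (Coh.toGlobal f) n with map_smul' := F.hhEquiv_smul (Coh.toGlobal f) n }
  let e₂ : Hq (secCx ⊤ (Coh.toGlobal f') G.K) n ≃ₗ[B] Coh.HH X' P n :=
    { G.hhEquiv (Coh.toGlobal f') n with map_smul' := G.hhEquiv_smul (Coh.toGlobal f') n }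
  exact ⟨((TensorProduct.AlgebraTensorModule.congr (LinearEquiv.refl B B) e₁.symm).trans
    ((LinearEquiv.ofBijective _ hb).trans (LinearEquiv.ofBijective (r.hq n) hr).symm)).trans e₂⟩

end RpushLib
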