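import Groth.Agent.RpushLib.FlatBC

/-!
# The base change map of direct images on sections
-/

set_option autoImplicit false

universe u

open CategoryTheory CategoryTheory.Limits AlgebraicGeometry TopologicalSpace Opposite TensorProduct

namespace RpushLib

variable {X X' S S' : Scheme.{u}} {g : S' ⟶ S} {g' : X' ⟶ X} {f : X ⟶ S} {f' : X' ⟶ S'}

theorem preimage_sq (w : g' ≫ f = f' ≫ g) {US : S.Opens} {UT : S'.Opens} (hg : UT ≤ g ⁻¹ᵁ US) :
    f' ⁻¹ᵁ UT ≤ g' ⁻¹ᵁ f ⁻¹ᵁ US := by
  intro x hx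
  have h : g (f' x) ∈ US := hg hx
  change f (g' x) ∈ US
  rw [← Scheme.Hom.comp_apply, w, Scheme.Hom.comp_apply]
  exact h

theorem inf_preimage_sq (w : g' ≫ f = f' ≫ g) {US : S.Opens} {UT : S'.Opens} (hg : UT ≤ g ⁻¹ᵁ US) :
    g' ⁻¹ᵁ f ⁻¹ᵁ US ⊓ f' ⁻¹ᵁ UT = f' ⁻¹ᵁ UT :=
  inf_eq_right.mpr (preimage_sq w hg)

/-- `f_* M ⟶ g_* f'_* g'^* M`, the adjoint of the base change map. -/
noncomputable def bcAdj (w : g' ≫ f = f' ≫ g) (M : X.Modules) :
    (Scheme.Modules.pushforward f).obj M ⟶
      (Scheme.Modules.pushforward g).obj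
        ((Scheme.Modules.pushforward f').obj ((Scheme.Modules.pullback g').obj M)) :=
  (Scheme.Modules.pushforward f).map ((Scheme.Modules.pullbackPushforwardAdjunction g').unit.app M) ≫
    (Scheme.Modules.pushforwardComp g' f ≪≫ Scheme.Modules.pushforwardCongr w ≪≫
      (Scheme.Modules.pushforwardComp f' g).symm).hom.app ((Scheme.Modules.pullback g').obj M)

/-- The base change map is an isomorphism if it is bijective on sections over affine opens. -/
theorem isIso_bcMap_of (H : IsPullback g' f' f g) (M : X.Modules)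
    [Coh.IsQCoh ((Scheme.Modules.pushforward f).obj M)]
    (h : ∀ (US : S.Opens) (UT : S'.Opens), IsAffineOpen US → IsAffineOpen UT → ∀ hg : UT ≤ g ⁻¹ᵁ US,
      letI := (g.appLE US UT hg).hom.toAlgebra
      Function.Bijective (extSL (secMap₀ (σ := algebraMap Γ(S, US) Γ(S', UT)) g' (f.app US).hom
        (f'.appLE UT (g' ⁻¹ᵁ (f ⁻¹ᵁ US) ⊓ f' ⁻¹ᵁ UT) inf_le_right).hom inf_le_left
        (fun r => congr($(bc_compat H hg inf_le_left inf_le_right) r))
        ((Scheme.Modules.pullbackPushforwardAdjunction g').unit.app M)))) :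
    IsIso (((Scheme.Modules.pullbackPushforwardAdjunction g).homEquiv _ _).symm (bcAdj H.w M)) := by
  refine isIso_homEquiv_symm g (bcAdj H.w M) fun US UT hUS hUT hle => ?_
  let := (g.appLE US UT hle).hom.toAlgebra
  let P := (Scheme.Modules.pullback g').obj M
  let U := g' ⁻¹ᵁ f ⁻¹ᵁ US ⊓ f' ⁻¹ᵁ UT
  let σu := secMap₀ (σ := algebraMap Γ(S, US) Γ(S', UT)) g' (f.app US).hom
    (f'.appLE UT U inf_le_right).hom inf_le_left
    (fun r => congr($(bc_compat H hle inf_le_left inf_le_right) r))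
    ((Scheme.Modules.pullbackPushforwardAdjunction g').unit.app M)
  let σb := secMap₀ (σ := algebraMap Γ(S, US) Γ(S', UT)) g (RingHom.id Γ(S, US))
    (RingHom.id Γ(S', UT)) hle (fun _ => rfl) (bcAdj H.w M)
  have hEq : U = f' ⁻¹ᵁ UT := inf_preimage_sq H.w hle
  let ρ : Γ(P, f' ⁻¹ᵁ UT) → Γ(P, U) := P.presheaf.map (homOfLE hEq.le).op
  have hρ : Function.Bijective ρ := by
    have : IsIso (homOfLE hEq.le) := ⟨homOfLE hEq.ge, Subsingleton.elim _ _, Subsingleton.elim _ _⟩
    exact ConcreteCategory.bijective_of_isIso (P.presheaf.map (homOfLE hEq.le).op)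
  have key : ∀ x, ρ (show Γ(P, f' ⁻¹ᵁ UT) from extSL σb x) = (show Γ(P, U) from extSL σu x) := by
    intro x
    induction x using TensorProduct.induction_on with
    | zero =>
      refine (congrArg ρ (map_zero (extSL σb))).trans ?_
      exact (map_zero (P.presheaf.map (homOfLE hEq.le).op).hom).trans (map_zero (extSL σu)).symm
    | tmul b m =>
      refine (congrArg ρ (extSL_tmul σb b m)).trans (Eq.trans ?_ (extSL_tmul σu b m).symm)
      refine (Scheme.Modules.map_smul P (homOfLE hEq.le) (f'.app UT b) _).trans ?_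
      refine congr_arg₂ (fun (a : Γ(X', U)) (z : Γ(P, U)) => a • z) rfl ?_
      let z : Γ(P, g' ⁻¹ᵁ (f ⁻¹ᵁ US)) :=
        ((Scheme.Modules.pullbackPushforwardAdjunction g').unit.app M).app (f ⁻¹ᵁ US) m
      change P.presheaf.map (homOfLE hEq.le).op (P.presheaf.map (homOfLE (f'.preimage_mono hle)).op (P.presheaf.map (eqToHom (show f' ⁻¹ᵁ (g ⁻¹ᵁ US) = g' ⁻¹ᵁ (f ⁻¹ᵁ US) by
          rw [← Scheme.Hom.comp_preimage, ← H.w, Scheme.Hom.comp_preimage])).op z)) =
        P.presheaf.map (homOfLE inf_le_left).op z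
      rw [QCohLib.map_map', QCohLib.map_map']
      exact congrArg (fun i : U ⟶ g' ⁻¹ᵁ (f ⁻¹ᵁ US) => P.presheaf.map i.op z) (Subsingleton.elim _ _)
    | add x y hx hy =>
      refine (congrArg ρ (map_add (extSL σb) x y)).trans ?_
      refine (map_add (P.presheaf.map (homOfLE hEq.le).op).hom _ _).trans ?_
      exact (congr_arg₂ (fun (a : Γ(P, U)) b => a + b) hx hy).trans (map_add (extSL σu) x y).symm
  have h2 : Function.Bijective fun x => ρ (show Γ(P, f' ⁻¹ᵁ UT) from extSL σb x) := by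
    rw [funext key]
    exact h US UT hUS hUT hle
  exact (Function.Bijective.of_comp_iff' hρ _).mp h2

/-- Flat base change in degree zero, on sections. -/
theorem bijective_bc_zero (H : IsPullback g' f' f g) [QuasiCompact f] [QuasiSeparated f] [Flat g]
    (M : X.Modules) [Coh.IsQCoh M] [HasInjectiveResolutions X.Modules]
    [HasInjectiveResolutions X'.Modules]
    {US : S.Opens} (hUS : IsAffineOpen US) {UT : S'.Opens} (hUT : IsAffineOpen UT)
    (hg : UT ≤ g ⁻¹ᵁ US) :
    letI := (g.appLE US UT hg).hom.toAlgebra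
    Function.Bijective (extSL (secMap₀ (σ := algebraMap Γ(S, US) Γ(S', UT)) g' (f.app US).hom
      (f'.appLE UT (g' ⁻¹ᵁ (f ⁻¹ᵁ US) ⊓ f' ⁻¹ᵁ UT) inf_le_right).hom inf_le_left
      (fun r => congr($(bc_compat H hg inf_le_left inf_le_right) r))
      ((Scheme.Modules.pullbackPushforwardAdjunction g').unit.app M))) := by
  let := (g.appLE US UT hg).hom.toAlgebra
  let P := (Scheme.Modules.pullback g').obj M
  let F := FlRes.ofInjective (injectiveResolution M)
  let J := injectiveResolution P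
  let G := FlRes.ofInjective J
  obtain ⟨θ, hθ⟩ := exists_bcLift H M F J
  have hn := bijective_bc_sections H F G θ hθ hUS hUT hg rfl 0
  let W := f ⁻¹ᵁ US
  let U := g' ⁻¹ᵁ W ⊓ f' ⁻¹ᵁ UT
  let σu := secMap₀ (σ := algebraMap Γ(S, US) Γ(S', UT)) g' (f.app US).hom
    (f'.appLE UT U inf_le_right).hom inf_le_left
    (fun r => congr($(bc_compat H hg inf_le_left inf_le_right) r))
    ((Scheme.Modules.pullbackPushforwardAdjunction g').unit.app M)
  let sb := secBC (σ := algebraMap Γ(S, US) Γ(S', UT)) g' (f.app US).hom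
    (f'.appLE UT U inf_le_right).hom inf_le_left
    (fun r => congr($(bc_compat H hg inf_le_left inf_le_right) r)) θ
  let eK := LinearEquiv.ofBijective (F.aug.h0 W (f.app US).hom) (F.aug.h0_bijective _ _)
  let bJ := G.aug.h0 U (f'.appLE UT U inf_le_right).hom
  have hkey : (extSL (sb.hq 0)).comp (eK.toLinearMap.baseChange Γ(S', UT)) = bJ.comp (extSL σu) := by
    refine extSL_unique fun m => ?_
    refine ((congrArg (extSL (sb.hq 0))
      (LinearMap.baseChange_tmul eK.toLinearMap (1 : Γ(S', UT)) m)).trans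
      ((extSL_tmul _ (1 : Γ(S', UT)) _).trans (one_smul _ _))).trans (Eq.symm ?_)
    refine (congrArg bJ ((extSL_tmul _ (1 : Γ(S', UT)) m).trans (one_smul _ _))).trans ?_
    refine congrArg (mkH _ 0) (Subtype.ext ?_)
    change G.ι.app _ (P.presheaf.map _
        (((Scheme.Modules.pullbackPushforwardAdjunction g').unit.app M).app W m)) =
      (G.K.X 0).presheaf.map (homOfLE inf_le_left).op ((θ.f 0).app W (F.ι.app W m))
    rw [QCohLib.app_map]
    exact congrArg ((G.K.X 0).presheaf.map _) (congrArg (fun φ : M ⟶ _ => φ.app W m) hθ).symm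
  have h1 : Function.Bijective (eK.toLinearMap.baseChange Γ(S', UT)) := (eK.lTensor Γ(S', UT)).bijective
  refine (Function.Bijective.of_comp_iff' (G.aug.h0_bijective U _) _).mp ?_
  change Function.Bijective (bJ.comp (extSL σu))
  rw [← hkey]
  exact hn.comp h1

/-- Base change for an affine morphism, on sections. -/
theorem bijective_bc_affine (H : IsPullback g' f' f g) [IsAffineHom f] (M : X.Modules) [Coh.IsQCoh M]
    {US : S.Opens} (hUS : IsAffineOpen US) {UT : S'.Opens} (hUT : IsAffineOpen UT)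
    (hg : UT ≤ g ⁻¹ᵁ US) :
    letI := (g.appLE US UT hg).hom.toAlgebra
    Function.Bijective (extSL (secMap₀ (σ := algebraMap Γ(S, US) Γ(S', UT)) g' (f.app US).hom
      (f'.appLE UT (g' ⁻¹ᵁ (f ⁻¹ᵁ US) ⊓ f' ⁻¹ᵁ UT) inf_le_right).hom inf_le_left
      (fun r => congr($(bc_compat H hg inf_le_left inf_le_right) r))
      ((Scheme.Modules.pullbackPushforwardAdjunction g').unit.app M))) := by
  let := (g.appLE US UT hg).hom.toAlgebra
  have hW := hUS.preimage f
  refine bijective_secMap₀_of_isPushout g' hW _ (isAffineOpen_fibre H hUS hUT hg hW le_rfl) _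
    inf_le_left _ ?_ M
  have h := isPushout_sections H hUS hUT hg hW le_rfl
  rw [← Scheme.Hom.app_eq_appLE] at h
  exact h

end RpushLib
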