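import Groth.Agent.RpushLib.HBase
import Groth.Agent.RpushLib.Resol
import Groth.Agent.QCohLib.AffineFinite

/-!
# Maps out of pullbacks, tested on affine opens
-/

set_option autoImplicit false

universe u

open CategoryTheory CategoryTheory.Limits AlgebraicGeometry TopologicalSpace Opposite TensorProduct

namespace RpushLib

/-- A morphism bijective on a basis is an isomorphism. -/
theorem isIso_of_bijective_basis {X : Scheme.{u}} {M N : X.Modules} (φ : M ⟶ N) {B : Set X.Opens}
    (hB : Opens.IsBasis B) (h : ∀ U ∈ B, Function.Bijective (φ.app U)) : IsIso φ := by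
  have hbij : ∀ V : X.Opens, Function.Bijective (φ.app V) := by
    intro V
    choose U hU hp hUV using fun p : V => Opens.isBasis_iff_nbhd.mp hB p.2
    have hcov : V ≤ iSup U := fun p hp' => Opens.mem_iSup.mpr ⟨⟨p, hp'⟩, hp ⟨p, hp'⟩⟩
    have inj : Function.Injective (φ.app V) := fun a b hab => by
      refine TopCat.Sheaf.eq_of_locally_eq' ((QCohLib.toAbF X).obj M : TopCat.Sheaf AddCommGrpCat _)
        U V (fun p => homOfLE (hUV p)) hcov a b fun p => (h _ (hU p)).1 ?_
      exact (QCohLib.app_map φ _ a).trans ((congr_arg _ hab).trans (QCohLib.app_map φ _ b).symm)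
    refine ⟨inj, fun s => ?_⟩
    choose t ht using fun p : V => (h _ (hU p)).2 (N.presheaf.map (homOfLE (hUV p)).op s)
    obtain ⟨g, hg, -⟩ := TopCat.Sheaf.existsUnique_gluing'
      ((QCohLib.toAbF X).obj M : TopCat.Sheaf AddCommGrpCat _) U V (fun p => homOfLE (hUV p)) hcov t
      (fun p q => by
        choose U' hU' hr hU'le using fun r : ↥(U p ⊓ U q) =>
          Opens.isBasis_iff_nbhd.mp hB r.2
        refine TopCat.Sheaf.eq_of_locally_eq' ((QCohLib.toAbF X).obj M : TopCat.Sheaf AddCommGrpCat _)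
          U' (U p ⊓ U q) (fun r => homOfLE (hU'le r))
          (fun r hr' => Opens.mem_iSup.mpr ⟨⟨r, hr'⟩, hr ⟨r, hr'⟩⟩) _ _ fun r => (h _ (hU' r)).1 ?_
        change φ.app (U' r) (M.presheaf.map _ (M.presheaf.map _ (t p))) =
          φ.app (U' r) (M.presheaf.map _ (M.presheaf.map _ (t q)))
        rw [QCohLib.app_map, QCohLib.app_map, QCohLib.app_map, QCohLib.app_map, ht, ht, QCohLib.map_map', QCohLib.map_map', QCohLib.map_map', QCohLib.map_map']
        rfl)
    refine ⟨g, TopCat.Sheaf.eq_of_locally_eq' ((QCohLib.toAbF X).obj N : TopCat.Sheaf AddCommGrpCat _)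
      U V (fun p => homOfLE (hUV p)) hcov _ _ fun p => ?_⟩
    exact (QCohLib.app_map φ _ g).symm.trans ((congr_arg _ (hg p)).trans (ht p))
  have : ∀ V, IsIso (((Scheme.Modules.toPresheaf X).map φ).app V) := fun V =>
    (ConcreteCategory.isIso_iff_bijective _).mpr (hbij V.unop)
  have : IsIso ((Scheme.Modules.toPresheaf X).map φ) := NatIso.isIso_of_isIso_app _
  exact isIso_of_reflects_iso φ (Scheme.Modules.toPresheaf X)

variable {S S' : Scheme.{u}} (g : S' ⟶ S)

/-- Affine opens lying over affine opens form a basis. -/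
theorem isBasis_affine_over :
    Opens.IsBasis {U' : S'.Opens | IsAffineOpen U' ∧ ∃ U : S.Opens, IsAffineOpen U ∧ U' ≤ g ⁻¹ᵁ U} := by
  refine Opens.isBasis_iff_nbhd.mpr fun {V x} hx => ?_
  obtain ⟨U, hU, hxU, -⟩ := Opens.isBasis_iff_nbhd.mp S.isBasis_affineOpens (Opens.mem_top (g x))
  obtain ⟨U', hU', hxU', hle⟩ := Opens.isBasis_iff_nbhd.mp S'.isBasis_affineOpens
    (show x ∈ V ⊓ g ⁻¹ᵁ U from ⟨hx, hxU⟩)
  exact ⟨U', ⟨hU', U, hU, hle.trans inf_le_right⟩, hxU', hle.trans inf_le_left⟩

/-- A map out of a pullback is an isomorphism when its adjoint induces bijections after base change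
of sections over affine opens. -/
theorem isIso_homEquiv_symm {N : S.Modules} [Coh.IsQCoh N] {N' : S'.Modules}
    (β : N ⟶ (Scheme.Modules.pushforward g).obj N')
    (h : ∀ (U : S.Opens) (U' : S'.Opens), IsAffineOpen U → IsAffineOpen U' → ∀ hle : U' ≤ g ⁻¹ᵁ U,
      letI := (g.appLE U U' hle).hom.toAlgebra
      Function.Bijective (extSL (secMap₀ (σ := algebraMap Γ(S, U) Γ(S', U')) g (RingHom.id Γ(S, U))
        (RingHom.id Γ(S', U')) hle (fun _ => rfl) β))) :
    IsIso (((Scheme.Modules.pullbackPushforwardAdjunction g).homEquiv N N').symm β) := by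
  refine isIso_of_bijective_basis _ (isBasis_affine_over g) fun U' ⟨hU', U, hU, hle⟩ => ?_
  let φ := ((Scheme.Modules.pullbackPushforwardAdjunction g).homEquiv N N').symm β
  let := (g.appLE U U' hle).hom.toAlgebra
  let P := KFlatLib.pb g N
  let : Module Γ(S, U) Γ(P, U') := Module.compHom Γ(P, U') (g.appLE U U' hle).hom
  have : IsScalarTower Γ(S, U) Γ(S', U') Γ(P, U') := IsScalarTower.of_algebraMap_smul fun _ _ => rfl
  let Ψ : Γ(N, U) →ₗ[Γ(S, U)] Γ(P, U') :=
    { toFun := KFlatLib.puSecLE g N hle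
      map_add' := map_add _
      map_smul' := fun r m => KFlatLib.puSecLE_smul g N hle r m }
  have hbc := KFlatLib.isBaseChange_puSec g N hU hU' hle (fun _ => rfl) Ψ fun _ => rfl
  have hβ : ∀ m : Γ(N, U), φ.app U' (Ψ m) = N'.presheaf.map (homOfLE hle).op (β.app U m) := fun m => by
    have e : (Scheme.Modules.pullbackPushforwardAdjunction g).unit.app N ≫
        (Scheme.Modules.pushforward g).map φ = β := by
      exact ((Scheme.Modules.pullbackPushforwardAdjunction g).homEquiv_unit N N' φ).symm.trans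
        (Equiv.apply_symm_apply _ β)
    refine (QCohLib.app_map φ (homOfLE hle) (KFlatLib.puSec g (M := N) (U := U) m)).trans ?_
    refine congrArg (N'.presheaf.map (homOfLE hle).op) ?_
    exact congrArg (fun ψ : N ⟶ _ => ψ.app U m) e
  let σ₀ := secMap₀ (σ := algebraMap Γ(S, U) Γ(S', U')) g (RingHom.id Γ(S, U))
    (RingHom.id Γ(S', U')) hle (fun _ => rfl) β
  have key : ∀ x : Γ(S', U') ⊗[Γ(S, U)] Γ(N, U), φ.app U' (hbc.equiv x) = (extSL σ₀ x : Γ(N', U')) := by
    intro x
    induction x using TensorProduct.induction_on with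
    | zero => rw [map_zero, map_zero]; exact (map_zero (extSL σ₀)).symm
    | tmul b m =>
      refine Eq.trans ?_ (extSL_tmul σ₀ b m).symm
      rw [IsBaseChange.equiv_tmul, QCohLib.app_smul, hβ]
      rfl
    | add x y hx hy =>
      rw [map_add, map_add, hx, hy]
      exact (map_add (extSL σ₀) x y).symm
  have hb : Function.Bijective fun x => φ.app U' (hbc.equiv x) := by
    rw [funext key]
    exact h U U' hU hU' hle
  exact (Function.Bijective.of_comp_iff _ hbc.equiv.bijective).mp hb

end RpushLib
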