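import Groth.Agent.RpushLib.Affine
import Groth.Agent.RpushLib.Ab

/-!
# Flasque resolutions compute higher direct images; composition with affine morphisms
-/

set_option autoImplicit false
set_option linter.unusedSectionVars false

universe u

open CategoryTheory CategoryTheory.Limits AlgebraicGeometry TopologicalSpace Opposite
open QCohLib (AbSh HU toAbF)

attribute [local instance] HasDerivedCategory.standard

namespace RpushLib

variable {X Y : Scheme.{u}} {M : X.Modules}

/-- The augmentation of a resolution, as a map of complexes. -/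
noncomputable def FlRes.single (F : FlRes M) : (CochainComplex.single₀ X.Modules).obj M ⟶ F.K :=
  (CochainComplex.fromSingle₀Equiv _ _).symm ⟨F.ι, F.comp⟩

instance FlRes.quasiIso_single (F : FlRes M) : QuasiIso F.single := ⟨fun n => by
  cases n with
  | zero =>
    rw [CochainComplex.quasiIsoAt₀_iff, ShortComplex.quasiIso_iff_of_zeros]
    · have := F.mono
      refine (ShortComplex.exact_and_mono_f_iff_of_iso ?_).2 ⟨F.exact₀, this⟩
      exact ShortComplex.isoMk (Iso.refl _) (Iso.refl _) (Iso.refl _)
        ((Category.id_comp _).trans (Category.comp_id _).symm)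
        ((Category.id_comp _).trans (Category.comp_id _).symm)
    · rfl
    · rfl
    · exact F.K.shape _ _ (by simp)
  | succ n =>
    rw [quasiIsoAt_iff_exactAt]
    · rw [HomologicalComplex.exactAt_iff' _ n (n + 1) (n + 2) (by simp) (by simp)]
      exact F.exact n
    · apply CochainComplex.exactAt_succ_single_obj⟩

theorem isZero_of_isZero_toAb {N : Y.Modules} (h : IsZero ((toAbF Y).obj N)) : IsZero N := by
  rw [IsZero.iff_id_eq_zero]
  exact (toAbF Y).map_injective (h.eq_of_src _ _)

theorem isSAcyclic_pushforward (f : X ⟶ Y) [HasInjectiveResolutions X.Modules] (K : X.Modules)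
    [TopCat.Sheaf.IsFlasque ((toAbF X).obj K : TopCat.Sheaf AddCommGrpCat.{u} X.toTopCat)] :
    SpSeqLib.IsSAcyclic (Scheme.Modules.pushforward f) K := by
  rw [SpSeqLib.isSAcyclic_iff]
  intro q hq
  obtain ⟨e⟩ := nonempty_toAb_rpush_iso f K q
  exact isZero_of_isZero_toAb
    (((SpSeqLib.isSAcyclic_iff _ _).mp (isSAcyclic_flasque f ((toAbF X).obj K)) q hq).of_iso e)

/-- Flasque resolutions compute higher direct images. -/
theorem nonempty_rpush_iso_flRes (f : X ⟶ Y) [HasInjectiveResolutions X.Modules] (F : FlRes M) (n : ℕ) :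
    Nonempty ((Coh.Rpush f n).obj M ≅ (pushCx f F.K).homology n) :=
  have : PreservesFiniteLimits (Scheme.Modules.pushforward f) :=
    have : PreservesLimitsOfSize.{0, 0} (Scheme.Modules.pushforward f) :=
      (Scheme.Modules.pullbackPushforwardAdjunction f).rightAdjoint_preservesLimits
    PreservesLimitsOfSize.preservesFiniteLimits _
  nonempty_rightDerived_iso_of_acyclic (Scheme.Modules.pushforward f) F.K F.single
    (fun k => have := F.isFlasque k; isSAcyclic_pushforward f (F.K.X k)) n

/-- `R^n f_*(i_* G) ≅ R^n (i ≫ f)_* G` for an affine morphism `i`. -/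
theorem nonempty_rpush_push_iso {Z : Scheme.{u}} (i : Z ⟶ X) [IsAffineHom i] (f : X ⟶ Y)
    [HasInjectiveResolutions X.Modules] [HasInjectiveResolutions Z.Modules]
    (G : Z.Modules) [Coh.IsQCoh G] (n : ℕ) :
    Nonempty ((Coh.Rpush f n).obj ((Scheme.Modules.pushforward i).obj G) ≅
      (Coh.Rpush (i ≫ f) n).obj G) := by
  let I := injectiveResolution G
  let F := (FlRes.ofInjective I).pushAffine i
  obtain ⟨e⟩ := nonempty_rpush_iso_flRes f F n
  refine ⟨e ≪≫ HomologicalComplex.homologyMapIso ?_ n ≪≫ (rpushIso (i ≫ f) I n).symm⟩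
  exact HomologicalComplex.Hom.isoOfComponents
    (fun k => (Scheme.Modules.pushforwardComp i f).app (I.cocomplex.X k))
    (fun a b _ => ((Scheme.Modules.pushforwardComp i f).hom.naturality (I.cocomplex.d a b)).symm)

end RpushLib
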