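import Groth.Agent.RpushLib.BC
import Groth.Agent.KFlatLib.AffinePull
import Mathlib.Algebra.Category.Ring.Constructions
import Mathlib.AlgebraicGeometry.Morphisms.Flat

/-!
# Base change of sections on affine opens
-/

set_option autoImplicit false

universe u

open CategoryTheory CategoryTheory.Limits AlgebraicGeometry TopologicalSpace Opposite TensorProduct

namespace RpushLib

variable {X X' : Scheme.{u}} {R B : Type u} [CommRing R] [CommRing B] [Algebra R B]

/-- `B ⊗ Γ(M, V) = Γ(g^* M, V')` when `Γ(X', V') = B ⊗ Γ(X, V)`. -/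
theorem bijective_secMap₀_of_isPushout (g : X' ⟶ X) {V : X.Opens} (hV : IsAffineOpen V)
    (φ : R →+* Γ(X, V)) {U : X'.Opens} (hU : IsAffineOpen U) (ψ : B →+* Γ(X', U))
    (h : U ≤ g ⁻¹ᵁ V) (hc : ∀ r, g.appLE V U h (φ r) = ψ (algebraMap R B r))
    (hpo : IsPushout (CommRingCat.ofHom φ) (CommRingCat.ofHom (algebraMap R B)) (g.appLE V U h)
      (CommRingCat.ofHom ψ))
    (M : X.Modules) [Coh.IsQCoh M] :
    Function.Bijective (extSL (secMap₀ (σ := algebraMap R B) g φ ψ h hc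
      ((Scheme.Modules.pullbackPushforwardAdjunction g).unit.app M))) := by
  let N := KFlatLib.pb g M
  let : Algebra R Γ(X, V) := φ.toAlgebra
  let : Algebra B Γ(X', U) := ψ.toAlgebra
  let : Algebra Γ(X, V) Γ(X', U) := (g.appLE V U h).hom.toAlgebra
  let : Algebra R Γ(X', U) := (ψ.comp (algebraMap R B)).toAlgebra
  have : IsScalarTower R B Γ(X', U) := IsScalarTower.of_algebraMap_eq fun _ => rfl
  have : IsScalarTower R Γ(X, V) Γ(X', U) := IsScalarTower.of_algebraMap_eq fun r => (hc r).symm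
  have : Algebra.IsPushout R B Γ(X, V) Γ(X', U) :=
    (CommRingCat.isPushout_iff_isPushout (R := R) (S := Γ(X, V)) (R' := B) (S' := Γ(X', U))).mp hpo.flip
  let : Module R Γ(M, V) := Module.compHom Γ(M, V) φ
  have : IsScalarTower R Γ(X, V) Γ(M, V) := IsScalarTower.of_algebraMap_smul fun _ _ => rfl
  let : Module Γ(X, V) Γ(N, U) := Module.compHom Γ(N, U) (g.appLE V U h).hom
  have : IsScalarTower Γ(X, V) Γ(X', U) Γ(N, U) := IsScalarTower.of_algebraMap_smul fun _ _ => rfl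
  let Ψ : Γ(M, V) →ₗ[Γ(X, V)] Γ(N, U) :=
    { toFun := KFlatLib.puSecLE g M h
      map_add' := map_add _
      map_smul' := fun r m => KFlatLib.puSecLE_smul g M h r m }
  have hbc := KFlatLib.isBaseChange_puSec g M hV hU h (fun _ => rfl) Ψ fun _ => rfl
  let e : B ⊗[R] Γ(M, V) ≃ₗ[B] Γ(X', U) ⊗[Γ(X, V)] Γ(M, V) :=
    (Algebra.IsPushout.cancelBaseChange R B Γ(X, V) Γ(X', U) Γ(M, V)).symm
  let f : B ⊗[R] Γ(M, V) → Γ(N, U) := fun x => hbc.equiv (e x)
  let σ₀ := secMap₀ (σ := algebraMap R B) g φ ψ h hc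
    ((Scheme.Modules.pullbackPushforwardAdjunction g).unit.app M)
  suffices ∀ x : B ⊗[R] Γ(M, V), (extSL σ₀ x : Γ(N, U)) = f x from by
    change Function.Bijective fun x : B ⊗[R] Γ(M, V) => (extSL σ₀ x : Γ(N, U))
    rw [funext this]
    exact hbc.equiv.bijective.comp e.bijective
  intro x
  induction x using TensorProduct.induction_on with
  | zero => simp only [f, map_zero]; exact map_zero (extSL σ₀)
  | tmul b m =>
    refine (extSL_tmul σ₀ b m).trans ?_
    change _ = hbc.equiv ((Algebra.IsPushout.cancelBaseChange R B Γ(X, V) Γ(X', U) Γ(M, V)).symm (b ⊗ₜ m))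
    rw [Algebra.IsPushout.cancelBaseChange_symm_tmul, IsBaseChange.equiv_tmul]
    rfl
  | add x y hx hy =>
    refine (map_add (extSL σ₀) x y).trans ?_
    simp only [f, map_add] at hx hy ⊢
    exact congr_arg₂ (· + ·) hx hy

/-- Functions on the fibre product of affine opens. -/
theorem isPushout_sections {S S' : Scheme.{u}} {g : S' ⟶ S} {g' : X' ⟶ X} {f : X ⟶ S} {f' : X' ⟶ S'}
    (H : IsPullback g' f' f g) {US : S.Opens} (hUS : IsAffineOpen US) {UT : S'.Opens}
    (hUT : IsAffineOpen UT) (hg : UT ≤ g ⁻¹ᵁ US) {V : X.Opens} (hV : IsAffineOpen V)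
    (hf : V ≤ f ⁻¹ᵁ US) :
    IsPushout (f.appLE US V hf) (g.appLE US UT hg) (g'.appLE V (g' ⁻¹ᵁ V ⊓ f' ⁻¹ᵁ UT) inf_le_left)
      (f'.appLE UT (g' ⁻¹ᵁ V ⊓ f' ⁻¹ᵁ UT) inf_le_right) :=
  (isIso_pushoutSection_iff H hg hf rfl).mp (isIso_pushoutSection_of_isAffineOpen H hg hf rfl hUS hUT hV)

/-- Affineness of the fibre product of affine opens. -/
theorem isAffineOpen_fibre {S S' : Scheme.{u}} {g : S' ⟶ S} {g' : X' ⟶ X} {f : X ⟶ S} {f' : X' ⟶ S'}
    (H : IsPullback g' f' f g) {US : S.Opens} (hUS : IsAffineOpen US) {UT : S'.Opens}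
    (hUT : IsAffineOpen UT) (hg : UT ≤ g ⁻¹ᵁ US) {V : X.Opens} (hV : IsAffineOpen V)
    (hf : V ≤ f ⁻¹ᵁ US) : IsAffineOpen (g' ⁻¹ᵁ V ⊓ f' ⁻¹ᵁ UT) := by
  have : IsAffine (US : Scheme.{u}) := hUS
  have : IsAffine (UT : Scheme.{u}) := hUT
  have : IsAffine (V : Scheme.{u}) := hV
  exact .of_isIso (Scheme.Hom.isPullback_resLE H hg hf rfl).isoPullback.hom

end RpushLib
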