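import Groth.Agent.RpushLib.Hq
import Groth.Agent.QCohLib.QcqsSections
import Mathlib.Algebra.Category.ModuleCat.ChangeOfRings

/-!
# Complexes of sections as complexes of modules
-/

set_option autoImplicit false

universe u

open CategoryTheory CategoryTheory.Limits AlgebraicGeometry TopologicalSpace Opposite

namespace RpushLib

variable {X Y : Scheme.{u}} {R S : Type u} [CommRing R] [CommRing S]

/-- Sections over `V`, as modules over a ring mapping to the functions on `V`. -/
noncomputable abbrev secFun (V : X.Opens) (φ : R →+* Γ(X, V)) : X.Modules ⥤ ModuleCat.{u} R :=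
  SheafOfModules.evaluation X.ringCatSheaf (op V) ⋙
    ModuleCat.restrictScalars (S := X.ringCatSheaf.obj.obj (op V)) φ

instance additive_secFun (V : X.Opens) (φ : R →+* Γ(X, V)) : (secFun V φ).Additive where
  map_add {_ _ _ _} := ModuleCat.hom_ext (LinearMap.ext fun _ => rfl)

/-- The complex of sections over `V`. -/
noncomputable abbrev secCx (V : X.Opens) (φ : R →+* Γ(X, V)) (K : CochainComplex X.Modules ℕ) :
    CochainComplex (ModuleCat.{u} R) ℕ :=
  ((secFun V φ).mapHomologicalComplex _).obj K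

theorem secCx_d (V : X.Opens) (φ : R →+* Γ(X, V)) (K : CochainComplex X.Modules ℕ) (i j : ℕ)
    (m : Γ(K.X i, V)) :
    ((secCx V φ K).d i j).hom m = (K.d i j).app V m := rfl

theorem secCx_smul (V : X.Opens) (φ : R →+* Γ(X, V)) (K : CochainComplex X.Modules ℕ) (i : ℕ)
    (r : R) (m : Γ(K.X i, V)) :
    (show Γ(K.X i, V) from r • (show (secCx V φ K).X i from m)) = φ r • m := rfl

/-- Restriction of sections, semilinearly. -/
noncomputable def secRes {σ : R →+* S} {V U : X.Opens} (φ : R →+* Γ(X, V)) (ψ : S →+* Γ(X, U))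
    (h : U ≤ V) (hc : ∀ r, X.presheaf.map (homOfLE h).op (φ r) = ψ (σ r))
    (K : CochainComplex X.Modules ℕ) : SLHom σ (secCx V φ K) (secCx U ψ K) where
  f n :=
    { toFun := fun m => (K.X n).presheaf.map (homOfLE h).op (show Γ(K.X n, V) from m)
      map_add' := fun _ _ => map_add ((K.X n).presheaf.map (homOfLE h).op).hom _ _
      map_smul' := fun r m => by
        refine (Scheme.Modules.map_smul (K.X n) _ (φ r) (show Γ(K.X n, V) from m)).trans ?_
        exact congrArg (fun s : Γ(X, U) => s • (K.X n).presheaf.map (homOfLE h).op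
          (show Γ(K.X n, V) from m)) (hc r) }
  comm i j m := QCohLib.app_map (K.d i j) (homOfLE h) m

theorem secRes_apply {σ : R →+* S} {V U : X.Opens} (φ : R →+* Γ(X, V)) (ψ : S →+* Γ(X, U))
    (h : U ≤ V) (hc : ∀ r, X.presheaf.map (homOfLE h).op (φ r) = ψ (σ r))
    (K : CochainComplex X.Modules ℕ) (n : ℕ) (m : Γ(K.X n, V)) :
    (secRes φ ψ h hc K).f n m = (K.X n).presheaf.map (homOfLE h).op m := rfl

/-- A map to a direct image, on sections. -/
noncomputable def secPush (g : Y ⟶ X) (V : X.Opens) (φ : R →+* Γ(X, V))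
    {K : CochainComplex X.Modules ℕ} {J : CochainComplex Y.Modules ℕ}
    (θ : K ⟶ ((Scheme.Modules.pushforward g).mapHomologicalComplex _).obj J) :
    SLHom (RingHom.id R) (secCx V φ K) (secCx (g ⁻¹ᵁ V) ((g.app V).hom.comp φ) J) where
  f n :=
    { toFun := fun m => (show Γ(J.X n, g ⁻¹ᵁ V) from (θ.f n).app V (show Γ(K.X n, V) from m))
      map_add' := fun _ _ => map_add ((θ.f n).app V).hom _ _
      map_smul' := fun r m => (θ.f n).app_smul (φ r) (show Γ(K.X n, V) from m) }
  comm i j m := congr($(θ.comm i j).app V m)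

theorem secPush_apply (g : Y ⟶ X) (V : X.Opens) (φ : R →+* Γ(X, V))
    {K : CochainComplex X.Modules ℕ} {J : CochainComplex Y.Modules ℕ}
    (θ : K ⟶ ((Scheme.Modules.pushforward g).mapHomologicalComplex _).obj J) (n : ℕ)
    (m : Γ(K.X n, V)) :
    (secPush g V φ θ).f n m = (θ.f n).app V m := rfl

/-- A map of modules on sections, semilinearly. -/
noncomputable def secMor (V : X.Opens) (φ : R →+* Γ(X, V)) {K L : CochainComplex X.Modules ℕ}
    (θ : K ⟶ L) : SLHom (RingHom.id R) (secCx V φ K) (secCx V φ L) :=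
  SLHom.ofHom (((secFun V φ).mapHomologicalComplex _).map θ)

/-- The map `θ` on sections over `U ≤ g⁻¹V`. -/
noncomputable def secBC {σ : R →+* S} (g : Y ⟶ X) {V : X.Opens} (φ : R →+* Γ(X, V)) {U : Y.Opens}
    (ψ : S →+* Γ(Y, U)) (h : U ≤ g ⁻¹ᵁ V) (hc : ∀ r, g.appLE V U h (φ r) = ψ (σ r))
    {K : CochainComplex X.Modules ℕ} {J : CochainComplex Y.Modules ℕ}
    (θ : K ⟶ ((Scheme.Modules.pushforward g).mapHomologicalComplex _).obj J) :
    SLHom σ (secCx V φ K) (secCx U ψ J) :=
  (secPush g V φ θ).comp (secRes ((g.app V).hom.comp φ) ψ h hc J)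

theorem secBC_apply {σ : R →+* S} (g : Y ⟶ X) {V : X.Opens} (φ : R →+* Γ(X, V)) {U : Y.Opens}
    (ψ : S →+* Γ(Y, U)) (h : U ≤ g ⁻¹ᵁ V) (hc : ∀ r, g.appLE V U h (φ r) = ψ (σ r))
    {K : CochainComplex X.Modules ℕ} {J : CochainComplex Y.Modules ℕ}
    (θ : K ⟶ ((Scheme.Modules.pushforward g).mapHomologicalComplex _).obj J) (n : ℕ)
    (m : Γ(K.X n, V)) :
    (secBC g φ ψ h hc θ).f n m = (J.X n).presheaf.map (homOfLE h).op ((θ.f n).app V m) := rfl

end RpushLib
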