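import Groth.Agent.RpushLib.AdjIso
import Groth.Agent.RpushLib.FlatPull
import Groth.Agent.RpushLib.Push
import Groth.Agent.QCohLib.Push
import Mathlib.AlgebraicGeometry.Morphisms.QuasiSeparated

/-!
# Flat base change on cohomology of sections
-/

set_option autoImplicit false

universe u

open CategoryTheory CategoryTheory.Limits AlgebraicGeometry TopologicalSpace Opposite TensorProduct

namespace RpushLib

variable {X : Scheme.{u}} {M : X.Modules}

/-- Lifting of a map to a complex of injectives along a resolution. -/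
theorem FlRes.exists_lift (F : FlRes M) (L : CochainComplex X.Modules ℕ) [∀ n, Injective (L.X n)]
    (ι' : M ⟶ L.X 0) (hι' : ι' ≫ L.d 0 1 = 0) : ∃ θ : F.K ⟶ L, F.ι ≫ θ.f 0 = ι' := by
  have := F.mono
  let f₀ : F.K.X 0 ⟶ L.X 0 := Injective.factorThru ι' F.ι
  have h₀ : F.ι ≫ f₀ = ι' := Injective.comp_factorThru ι' F.ι
  let f₁ : F.K.X 1 ⟶ L.X 1 := F.exact₀.descToInjective (f₀ ≫ L.d 0 1)
    (by dsimp; rw [← Category.assoc, h₀, hι'])
  have h₁ : f₀ ≫ L.d 0 1 = F.K.d 0 1 ≫ f₁ :=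
    (F.exact₀.comp_descToInjective (f₀ ≫ L.d 0 1) _).symm
  let θ : F.K ⟶ L := CochainComplex.mkHom F.K L f₀ f₁ h₁ fun n ⟨a, a', w⟩ =>
    ⟨(F.exact n).descToInjective (a' ≫ L.d (n + 1) (n + 2))
        (by dsimp; rw [← reassoc_of% w, L.d_comp_d, comp_zero]),
      ((F.exact n).comp_descToInjective _ _).symm⟩
  exact ⟨θ, by simpa [θ] using h₀⟩

variable {S X' S' : Scheme.{u}} {g : S' ⟶ S} {g' : X' ⟶ X} {f : X ⟶ S} {f' : X' ⟶ S'}

theorem flat_of_sq (H : IsPullback g' f' f g) [Flat g] : Flat g' :=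
  MorphismProperty.of_isPullback (P := @Flat) H.flip ‹Flat g›

/-- A map of resolutions over the unit. -/
theorem exists_bcLift (H : IsPullback g' f' f g) [Flat g] (M : X.Modules) (F : FlRes M)
    (J : InjectiveResolution ((Scheme.Modules.pullback g').obj M)) :
    ∃ θ : F.K ⟶ pushCx g' J.cocomplex,
      F.ι ≫ θ.f 0 = (Scheme.Modules.pullbackPushforwardAdjunction g').unit.app M ≫
        (Scheme.Modules.pushforward g').map (J.ι.f 0) := by
  have := flat_of_sq H
  have : ∀ n, Injective ((pushCx g' J.cocomplex).X n) := fun n =>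
    injective_pushforward g' (J.cocomplex.X n)
  refine F.exists_lift _ _ ?_
  change (_ ≫ (Scheme.Modules.pushforward g').map (J.ι.f 0)) ≫
    (Scheme.Modules.pushforward g').map (J.cocomplex.d 0 1) = 0
  rw [Category.assoc, ← Functor.map_comp, J.ι_f_zero_comp_complex_d, Functor.map_zero, comp_zero]

theorem bc_compat (H : IsPullback g' f' f g) {US : S.Opens} {UT : S'.Opens} (hg : UT ≤ g ⁻¹ᵁ US)
    {U : X'.Opens} (h₁ : U ≤ g' ⁻¹ᵁ f ⁻¹ᵁ US) (h₂ : U ≤ f' ⁻¹ᵁ UT) :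
    f.app US ≫ g'.appLE (f ⁻¹ᵁ US) U h₁ = g.appLE US UT hg ≫ f'.appLE UT U h₂ := by
  rw [Scheme.Hom.app_eq_appLE, Scheme.Hom.appLE_comp_appLE, Scheme.Hom.appLE_comp_appLE]
  simp only [H.w]

/-- Flat base change for cohomology of sections over affine opens of the base. -/
theorem bijective_bc_sections (H : IsPullback g' f' f g) [QuasiCompact f] [QuasiSeparated f] [Flat g]
    [Coh.IsQCoh M] (F : FlRes M) (G : FlRes ((Scheme.Modules.pullback g').obj M))
    (θ : F.K ⟶ pushCx g' G.K)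
    (hθ : F.ι ≫ θ.f 0 = (Scheme.Modules.pullbackPushforwardAdjunction g').unit.app M ≫
      (Scheme.Modules.pushforward g').map G.ι)
    {US : S.Opens} (hUS : IsAffineOpen US) {UT : S'.Opens} (hUT : IsAffineOpen UT)
    (hg : UT ≤ g ⁻¹ᵁ US) [Algebra Γ(S, US) Γ(S', UT)]
    (halg : algebraMap Γ(S, US) Γ(S', UT) = (g.appLE US UT hg).hom) (n : ℕ) :
    Function.Bijective (extSL ((secBC (σ := algebraMap Γ(S, US) Γ(S', UT)) g' (f.app US).hom
      (f'.appLE UT (g' ⁻¹ᵁ (f ⁻¹ᵁ US) ⊓ f' ⁻¹ᵁ UT) inf_le_right).hom inf_le_left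
      (fun r => by rw [halg]; exact congr($(bc_compat H hg inf_le_left inf_le_right) r)) θ).hq n)) := by
  have : Coh.IsQCoh ((Scheme.Modules.pullback g').obj M) := KFlatLib.isQCoh_pullback g' M
  have : Module.Flat Γ(S, US) Γ(S', UT) := by
    have h := HasRingHomProperty.appLE (P := @Flat) g ‹Flat g› ⟨US, hUS⟩ ⟨UT, hUT⟩ hg
    rw [← halg] at h
    exact (RingHom.flat_algebraMap_iff).mp h
  refine bijective_bc g' _ (f' ⁻¹ᵁ UT) _ _ θ F.flasque G.flasque F.affAcyclic G.affAcyclic F.aug G.aug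
    ((Scheme.Modules.pullbackPushforwardAdjunction g').unit.app M) hθ
    (fun V hV hVa => isAffineOpen_fibre H hUS hUT hg hVa hV)
    (fun V hV hVa hc => ?_) (QuasiCompact.isCompact_preimage (f := f) US US.isOpen hUS.isCompact)
    (f.isQuasiSeparated_preimage hUS.isQuasiSeparated) n
  refine bijective_secMap₀_of_isPushout g' hVa _ (isAffineOpen_fibre H hUS hUT hg hVa hV) _ inf_le_left hc ?_ M
  have h := isPushout_sections H hUS hUT hg hVa hV
  have e1 : CommRingCat.ofHom (resφ (f.app US).hom hV) = f.appLE US V hV := rfl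
  have e2 : CommRingCat.ofHom (resφ (f'.appLE UT (g' ⁻¹ᵁ (f ⁻¹ᵁ US) ⊓ f' ⁻¹ᵁ UT) inf_le_right).hom
      (inf_le_inf_right (f' ⁻¹ᵁ UT) (g'.preimage_mono hV))) =
      f'.appLE UT (g' ⁻¹ᵁ V ⊓ f' ⁻¹ᵁ UT) inf_le_right :=
    f'.appLE_map inf_le_right (homOfLE (inf_le_inf_right (f' ⁻¹ᵁ UT) (g'.preimage_mono hV))).op
  have e3 : CommRingCat.ofHom (algebraMap Γ(S, US) Γ(S', UT)) = g.appLE US UT hg := by
    rw [halg]; rfl
  rw [e1, e2, e3]
  exact h

end RpushLib
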