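import Mathlib.Algebra.Category.ModuleCat.Abelian
import Mathlib.Algebra.Homology.ShortComplex.ModuleCat
import Mathlib.Algebra.Homology.ShortComplex.HomologicalComplex
import Mathlib.Algebra.Homology.QuasiIso
import Mathlib.LinearAlgebra.TensorProduct.RightExactness
import Mathlib.RingTheory.Flat.Basic
import Mathlib.RingTheory.TensorProduct.Basic
import Mathlib.Algebra.Homology.HomologicalComplexAbelian

/-!
# Cohomology of complexes of modules and flat base change, on elements
-/

set_option autoImplicit false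

universe u

open CategoryTheory CategoryTheory.Limits TensorProduct

namespace RpushLib

variable {R S T : Type u} [CommRing R] [CommRing S] [CommRing T]

/-- Cycles. -/
noncomputable abbrev Cyc (C : CochainComplex (ModuleCat.{u} R) ℕ) (n : ℕ) : Submodule R (C.X n) :=
  LinearMap.ker (C.sc n).g.hom

theorem mem_Cyc_next (C : CochainComplex (ModuleCat.{u} R) ℕ) (n : ℕ) (z : C.X n) :
    z ∈ Cyc C n ↔ (C.d n ((ComplexShape.up ℕ).next n)).hom z = 0 :=
  Iff.rfl

theorem mem_Cyc (C : CochainComplex (ModuleCat.{u} R) ℕ) (n : ℕ) (z : C.X n) :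
    z ∈ Cyc C n ↔ (C.d n (n + 1)).hom z = 0 := by
  rw [mem_Cyc_next, CochainComplex.next ℕ n]

/-- Boundaries, as cycles. -/
noncomputable abbrev toCyc (C : CochainComplex (ModuleCat.{u} R) ℕ) (n : ℕ) :
    C.X ((ComplexShape.up ℕ).prev n) →ₗ[R] Cyc C n :=
  (C.sc n).moduleCatToCycles

/-- Cohomology. -/
noncomputable abbrev Hq (C : CochainComplex (ModuleCat.{u} R) ℕ) (n : ℕ) : Type u :=
  Cyc C n ⧸ LinearMap.range (toCyc C n)

/-- The class of a cycle. -/
noncomputable abbrev mkH (C : CochainComplex (ModuleCat.{u} R) ℕ) (n : ℕ) : Cyc C n →ₗ[R] Hq C n :=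
  Submodule.mkQ _

theorem mkH_surjective (C : CochainComplex (ModuleCat.{u} R) ℕ) (n : ℕ) :
    Function.Surjective (mkH C n) :=
  Submodule.mkQ_surjective _

theorem mkH_eq_zero_iff (C : CochainComplex (ModuleCat.{u} R) ℕ) (n : ℕ) (z : Cyc C n) :
    mkH C n z = 0 ↔ ∃ a, (C.d ((ComplexShape.up ℕ).prev n) n).hom a = z.1 := by
  rw [Submodule.mkQ_apply, Submodule.Quotient.mk_eq_zero, LinearMap.mem_range]
  exact exists_congr fun a => Subtype.ext_iff

theorem mkH_succ_eq_zero_iff (C : CochainComplex (ModuleCat.{u} R) ℕ) (n : ℕ) (z : Cyc C (n + 1)) :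
    mkH C (n + 1) z = 0 ↔ ∃ a, (C.d n (n + 1)).hom a = z.1 := by
  rw [mkH_eq_zero_iff, CochainComplex.prev_nat_succ n]

theorem mkH_zero_eq_zero_iff (C : CochainComplex (ModuleCat.{u} R) ℕ) (z : Cyc C 0) :
    mkH C 0 z = 0 ↔ z = 0 := by
  rw [mkH_eq_zero_iff, C.shape _ _ (by simp)]
  exact ⟨fun ⟨_, h⟩ => Subtype.ext h.symm, fun h => ⟨0, by rw [h]; rfl⟩⟩

theorem mkH_zero_bijective (C : CochainComplex (ModuleCat.{u} R) ℕ) :
    Function.Bijective (mkH C 0) :=
  ⟨(injective_iff_map_eq_zero _).mpr fun z h => (mkH_zero_eq_zero_iff C z).mp h,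
    mkH_surjective C 0⟩

section semilinear

variable {σ : R →+* S} {τ : S →+* T} {ρ : R →+* T}
variable {C : CochainComplex (ModuleCat.{u} R) ℕ} {D : CochainComplex (ModuleCat.{u} S) ℕ}
  {E : CochainComplex (ModuleCat.{u} T) ℕ}

/-- A semilinear map of complexes. -/
structure SLHom (σ : R →+* S) (C : CochainComplex (ModuleCat.{u} R) ℕ)
    (D : CochainComplex (ModuleCat.{u} S) ℕ) where
  f : ∀ n, C.X n →ₛₗ[σ] D.X n
  comm : ∀ i j (x : C.X i), (D.d i j).hom (f i x) = f j ((C.d i j).hom x)

/-- On cycles. -/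
noncomputable def SLHom.cyc (t : SLHom σ C D) (n : ℕ) : Cyc C n →ₛₗ[σ] Cyc D n where
  toFun z := ⟨t.f n z.1, by
    rw [mem_Cyc, t.comm, (mem_Cyc C n z.1).mp z.2, map_zero]⟩
  map_add' _ _ := Subtype.ext (map_add _ _ _)
  map_smul' _ _ := Subtype.ext (map_smulₛₗ _ _ _)

theorem SLHom.cyc_coe (t : SLHom σ C D) (n : ℕ) (z : Cyc C n) : (t.cyc n z).1 = t.f n z.1 := rfl

/-- On cohomology. -/
noncomputable def SLHom.hq (t : SLHom σ C D) (n : ℕ) : Hq C n →ₛₗ[σ] Hq D n :=
  Submodule.mapQ _ _ (t.cyc n) (by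
    rintro _ ⟨a, rfl⟩
    exact ⟨t.f _ a, Subtype.ext (t.comm _ _ a)⟩)

theorem SLHom.hq_mk (t : SLHom σ C D) (n : ℕ) (z : Cyc C n) :
    t.hq n (mkH C n z) = mkH D n (t.cyc n z) := rfl

/-- Composition. -/
noncomputable def SLHom.comp [RingHomCompTriple σ τ ρ] (t : SLHom σ C D) (s : SLHom τ D E) :
    SLHom ρ C E where
  f n := (s.f n).comp (t.f n)
  comm i j x := (s.comm i j _).trans (congrArg (s.f j) (t.comm i j x))

theorem SLHom.hq_comp [RingHomCompTriple σ τ ρ] (t : SLHom σ C D) (s : SLHom τ D E) (n : ℕ)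
    (x : Hq C n) : (t.comp s : SLHom ρ C E).hq n x = s.hq n (t.hq n x) := by
  obtain ⟨z, rfl⟩ := mkH_surjective C n x
  rfl

theorem SLHom.hq_congr (t s : SLHom σ C D) (n : ℕ) (h : ∀ x, t.f n x = s.f n x) (x : Hq C n) :
    t.hq n x = s.hq n x := by
  obtain ⟨z, rfl⟩ := mkH_surjective C n x
  rw [t.hq_mk, s.hq_mk]
  exact congrArg _ (Subtype.ext (h z.1))

/-- A morphism of complexes as a semilinear one. -/
noncomputable def SLHom.ofHom {C D : CochainComplex (ModuleCat.{u} R) ℕ} (φ : C ⟶ D) :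
    SLHom (RingHom.id R) C D where
  f n := (φ.f n).hom
  comm i j x := congr($(φ.comm i j) x)

theorem bijective_hq_of_termwise (t : SLHom σ C D) (h : ∀ n, Function.Bijective (t.f n)) (n : ℕ) :
    Function.Bijective (t.hq n) := by
  constructor
  · intro x y hxy
    obtain ⟨z, rfl⟩ := mkH_surjective C n x
    obtain ⟨w, rfl⟩ := mkH_surjective C n y
    rw [t.hq_mk, t.hq_mk, ← sub_eq_zero, ← map_sub, mkH_eq_zero_iff] at hxy
    obtain ⟨a, ha⟩ := hxy
    obtain ⟨a, rfl⟩ := (h _).2 a
    rw [← sub_eq_zero, ← map_sub, mkH_eq_zero_iff]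
    refine ⟨a, (h n).1 ?_⟩
    rw [← t.comm, ha]
    exact (map_sub (t.f n) z.1 w.1).symm
  · intro y
    obtain ⟨w, rfl⟩ := mkH_surjective D n y
    obtain ⟨z, hz⟩ := (h n).2 w.1
    have hzc : z ∈ Cyc C n := by
      rw [mem_Cyc]
      refine (h _).1 ?_
      rw [← t.comm, hz, (mem_Cyc D n w.1).mp w.2, map_zero]
    exact ⟨mkH C n ⟨z, hzc⟩, congrArg _ (Subtype.ext hz)⟩

/-- Quasi-isomorphisms are the maps bijective on cohomology. -/
theorem quasiIsoAt_iff_bijective {C D : CochainComplex (ModuleCat.{u} R) ℕ} (φ : C ⟶ D) (n : ℕ) :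
    QuasiIsoAt φ n ↔ Function.Bijective ((SLHom.ofHom φ).hq n) := by
  let S₁ := C.sc n
  let S₂ := D.sc n
  let γ : ShortComplex.LeftHomologyMapData
      ((HomologicalComplex.shortComplexFunctor (ModuleCat.{u} R) (ComplexShape.up ℕ) n).map φ)
      S₁.moduleCatLeftHomologyData S₂.moduleCatLeftHomologyData :=
    { φK := ModuleCat.ofHom ((SLHom.ofHom φ).cyc n)
      φH := ModuleCat.ofHom ((SLHom.ofHom φ).hq n)
      commi := ModuleCat.hom_ext (LinearMap.ext fun _ => rfl)
      commf' := ModuleCat.hom_ext (LinearMap.ext fun a =>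
        Subtype.ext ((SLHom.ofHom φ).comm ((ComplexShape.up ℕ).prev n) n a).symm)
      commπ := ModuleCat.hom_ext (LinearMap.ext fun _ => rfl) }
  rw [_root_.quasiIsoAt_iff, γ.quasiIso_iff, ConcreteCategory.isIso_iff_bijective]
  exact Iff.rfl

end semilinear

/-! ### Base change -/

variable {B : Type u} [CommRing B] [Algebra R B]

section ext

variable {M M' : Type u} {N : Type u} [AddCommGroup M] [Module R M] [AddCommGroup M'] [Module R M']
  [AddCommGroup N] [Module B N]

/-- The `B`-linear extension of a semilinear map. -/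
noncomputable def extSL (h : M →ₛₗ[algebraMap R B] N) : B ⊗[R] M →ₗ[B] N :=
  letI := Module.compHom N (algebraMap R B)
  haveI : IsScalarTower R B N := IsScalarTower.of_algebraMap_smul fun _ _ => rfl
  LinearMap.liftBaseChange B
    ({ toFun := h, map_add' := map_add h, map_smul' := fun r m => map_smulₛₗ h r m } : M →ₗ[R] N)

theorem extSL_tmul (h : M →ₛₗ[algebraMap R B] N) (b : B) (m : M) :
    extSL h (b ⊗ₜ m) = b • h m :=
  letI := Module.compHom N (algebraMap R B)
  haveI : IsScalarTower R B N := IsScalarTower.of_algebraMap_smul fun _ _ => rfl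
  LinearMap.liftBaseChange_tmul B _ b m

theorem extSL_unique {N' : Type u} [AddCommGroup N'] [Module B N'] {F G : B ⊗[R] M →ₗ[B] N'}
    (h : ∀ m, F (1 ⊗ₜ m) = G (1 ⊗ₜ m)) : F = G := by
  refine LinearMap.ext fun x => ?_
  induction x using TensorProduct.induction_on with
  | zero => simp
  | tmul b m =>
    have : b ⊗ₜ[R] m = b • ((1 : B) ⊗ₜ[R] m) := by rw [TensorProduct.smul_tmul', smul_eq_mul, mul_one]
    rw [this, map_smul, map_smul, h]
  | add x y hx hy => rw [map_add, map_add, hx, hy]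

/-- `m ↦ 1 ⊗ m`. -/
noncomputable def unitSL : M →ₛₗ[algebraMap R B] B ⊗[R] M where
  toFun m := 1 ⊗ₜ m
  map_add' := tmul_add 1
  map_smul' r m := by
    change (1 : B) ⊗ₜ[R] (r • m) = algebraMap R B r • ((1 : B) ⊗ₜ[R] m)
    rw [tmul_smul, algebraMap_smul]

theorem unitSL_apply (m : M) : unitSL (B := B) m = (1 : B) ⊗ₜ[R] m := rfl

end ext

variable (B) in
/-- `M ↦ B ⊗ M`. -/
noncomputable def tensB : ModuleCat.{u} R ⥤ ModuleCat.{u} B where
  obj M := ModuleCat.of B (B ⊗[R] M)
  map g := ModuleCat.ofHom (g.hom.baseChange B)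
  map_id M := ModuleCat.hom_ext LinearMap.baseChange_id
  map_comp f g := ModuleCat.hom_ext (LinearMap.baseChange_comp f.hom g.hom)

instance : (tensB B : ModuleCat.{u} R ⥤ ModuleCat.{u} B).Additive where
  map_add {_ _ f g} := ModuleCat.hom_ext (LinearMap.baseChange_add f.hom g.hom)

theorem tensB_shortExact [Module.Flat R B] {S : ShortComplex (ModuleCat.{u} R)} (hS : S.ShortExact) :
    (S.map (tensB B)).ShortExact := by
  have := hS.mono_f
  have := hS.epi_g
  refine { exact := ?_, mono_f := ?_, epi_g := ?_ }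
  · rw [ShortComplex.moduleCat_exact_iff_range_eq_ker]
    have h := Module.Flat.lTensor_exact B ((ShortComplex.ShortExact.moduleCat_exact_iff_function_exact S).mp hS.exact)
    ext x
    exact (h x).symm
  · rw [ModuleCat.mono_iff_injective]
    exact Module.Flat.lTensor_preserves_injective_linearMap _ ((ModuleCat.mono_iff_injective _).mp inferInstance)
  · rw [ModuleCat.epi_iff_surjective]
    exact LinearMap.lTensor_surjective B ((ModuleCat.epi_iff_surjective _).mp inferInstance)

variable (B) in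
/-- The base change of a complex. -/
noncomputable abbrev tensCx (C : CochainComplex (ModuleCat.{u} R) ℕ) :
    CochainComplex (ModuleCat.{u} B) ℕ :=
  ((tensB B).mapHomologicalComplex _).obj C

theorem tensCx_d (C : CochainComplex (ModuleCat.{u} R) ℕ) (i j : ℕ) :
    ((tensCx B C).d i j).hom = (C.d i j).hom.baseChange B := rfl

variable (B) in
/-- The unit `C → B ⊗ C`. -/
noncomputable def unitHom (C : CochainComplex (ModuleCat.{u} R) ℕ) :
    SLHom (algebraMap R B) C (tensCx B C) where
  f _ := unitSL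
  comm i j x := by
    rw [tensCx_d]
    exact LinearMap.baseChange_tmul _ (1 : B) x

variable {C : CochainComplex (ModuleCat.{u} R) ℕ} {D : CochainComplex (ModuleCat.{u} B) ℕ}

/-- The linear extension of a semilinear map of complexes. -/
noncomputable def extHom (t : SLHom (algebraMap R B) C D) : tensCx B C ⟶ D where
  f n := ModuleCat.ofHom (extSL (t.f n))
  comm' i j _ := by
    apply ModuleCat.hom_ext
    refine extSL_unique fun m => ?_
    change (D.d i j).hom (extSL (t.f i) (1 ⊗ₜ m)) =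
      extSL (t.f j) ((C.d i j).hom.baseChange B (1 ⊗ₜ m))
    rw [LinearMap.baseChange_tmul, extSL_tmul, extSL_tmul, one_smul, one_smul]
    exact t.comm i j m

theorem extHom_f_tmul (t : SLHom (algebraMap R B) C D) (n : ℕ) (b : B) (m : C.X n) :
    ((extHom t).f n).hom (b ⊗ₜ m) = b • t.f n m :=
  extSL_tmul _ b m

/-- `B ⊗ H^n C → H^n (B ⊗ C)`. -/
noncomputable def bcKappa (C : CochainComplex (ModuleCat.{u} R) ℕ) (n : ℕ) :
    B ⊗[R] Hq C n →ₗ[B] Hq (tensCx B C) n :=
  extSL ((unitHom B C).hq n)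

theorem bijective_bcKappa [Module.Flat R B] (C : CochainComplex (ModuleCat.{u} R) ℕ) (n : ℕ) :
    Function.Bijective (bcKappa (B := B) C n) := by
  let ι := (Cyc C n).subtype
  let α : B ⊗[R] Cyc C n →ₗ[B] Cyc (tensCx B C) n :=
    extSL ((unitHom B C).cyc n)
  have hα : ∀ u, (α u).1 = ι.baseChange B u := fun u =>
    LinearMap.congr_fun (extSL_unique (F := (Cyc (tensCx B C) n).subtype.comp α)
      (G := ι.baseChange B) fun z => by
        refine (congrArg Subtype.val ((extSL_tmul _ (1 : B) z).trans (one_smul _ _))).trans ?_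
        exact (LinearMap.baseChange_tmul ι (1 : B) z).symm) u
  have hαinj : Function.Injective α := fun u v h => by
    refine Module.Flat.lTensor_preserves_injective_linearMap (M := B) ι Subtype.val_injective ?_
    change ι.baseChange B u = ι.baseChange B v
    rw [← hα, ← hα, h]
  have hex : Function.Exact ι (C.sc n).g.hom := LinearMap.exact_iff.mpr (Submodule.range_subtype _).symm
  have hαsurj : Function.Surjective α := fun w => by
    obtain ⟨u, hu⟩ := (Module.Flat.lTensor_exact B hex w.1).mp w.2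
    exact ⟨u, Subtype.ext ((hα u).trans hu)⟩
  let γ : B ⊗[R] Cyc C n →ₗ[B] B ⊗[R] Hq C n := (mkH C n).baseChange B
  have hγ : Function.Surjective γ := LinearMap.lTensor_surjective B (mkH_surjective C n)
  have key : ∀ u, bcKappa C n (γ u) = mkH (tensCx B C) n (α u) := fun u =>
    LinearMap.congr_fun (extSL_unique (F := (bcKappa C n).comp γ)
      (G := (mkH (tensCx B C) n).comp α) fun z => by
        refine ((congrArg (bcKappa C n) (LinearMap.baseChange_tmul (mkH C n) (1 : B) z)).trans
          ((extSL_tmul _ (1 : B) _).trans (one_smul _ _))).trans (Eq.symm ?_)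
        exact congrArg (mkH (tensCx B C) n) ((extSL_tmul _ (1 : B) z).trans (one_smul _ _))) u
  constructor
  · refine (injective_iff_map_eq_zero _).mpr fun x hx => ?_
    obtain ⟨u, rfl⟩ := hγ x
    rw [key, mkH_eq_zero_iff] at hx
    obtain ⟨a, ha⟩ := hx
    have hu : u = (toCyc C n).baseChange B a := by
      apply hαinj
      apply Subtype.ext
      refine ha.symm.trans (Eq.trans ?_ (hα _).symm)
      exact LinearMap.congr_fun (LinearMap.baseChange_comp (toCyc C n) ι) a
    rw [hu]
    refine (LinearMap.congr_fun (LinearMap.baseChange_comp (toCyc C n) (mkH C n)) a).symm.trans ?_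
    rw [show (mkH C n).comp (toCyc C n) = 0 from LinearMap.ext fun b =>
      (Submodule.Quotient.mk_eq_zero _).mpr ⟨b, rfl⟩, LinearMap.baseChange_zero]
    rfl
  · intro y
    obtain ⟨w, rfl⟩ := mkH_surjective (tensCx B C) n y
    obtain ⟨u, rfl⟩ := hαsurj w
    exact ⟨γ u, key u⟩

/-- The base-change map on cohomology is bijective exactly when the extension is a quasi-isomorphism. -/
theorem bijective_extSL_hq_iff [Module.Flat R B] (t : SLHom (algebraMap R B) C D) (n : ℕ) :
    Function.Bijective (extSL (t.hq n)) ↔ QuasiIsoAt (extHom t) n := by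
  rw [quasiIsoAt_iff_bijective]
  have e : extSL (t.hq n) = ((SLHom.ofHom (extHom t)).hq n).comp (bcKappa C n) := by
    refine extSL_unique fun x => ?_
    obtain ⟨z, rfl⟩ := mkH_surjective C n x
    rw [LinearMap.comp_apply, bcKappa, extSL_tmul, extSL_tmul, one_smul, one_smul]
    refine congrArg (mkH D n) (Subtype.ext ?_)
    exact ((extHom_f_tmul t n 1 z.1).trans (one_smul _ _)).symm
  rw [e, LinearMap.coe_comp]
  exact Function.Bijective.of_comp_iff _ (bijective_bcKappa C n)

end RpushLib
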