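import Groth.Agent.RpushLib.Sec
import Groth.Agent.S0015
import Mathlib.Algebra.Homology.HomologySequenceLemmas
import Mathlib.RingTheory.Flat.Basic

/-!
# Base change for cohomology of sections, by Mayer–Vietoris
-/

set_option autoImplicit false

universe u

open CategoryTheory CategoryTheory.Limits AlgebraicGeometry TopologicalSpace Opposite TensorProduct

namespace RpushLib

/-! ### Five lemma and biproducts -/

section abstract

open HomologicalComplex HomologicalComplex.HomologySequence ComposableArrows CategoryTheory.Abelian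

variable {C : Type*} [Category* C] [Abelian C] {ι : Type*} {c : ComplexShape ι}
  {S₁ S₂ : ShortComplex (HomologicalComplex C c)} (φ : S₁ ⟶ S₂)

theorem quasiIso_τ₁ (hS₁ : S₁.ShortExact) (hS₂ : S₂.ShortExact) (h₂ : QuasiIso φ.τ₂)
    (h₃ : QuasiIso φ.τ₃) : QuasiIso φ.τ₁ := by
  rw [_root_.quasiIso_iff]
  intro j
  rw [quasiIsoAt_iff_isIso_homologyMap]
  have := hS₁.mono_f
  have := hS₂.mono_f
  by_cases hj : ∃ i, c.Rel i j
  · obtain ⟨i, hij⟩ := hj
    have : Mono (homologyMap φ.τ₁ j) := by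
      apply mono_of_epi_of_mono_of_mono
        ((δ₀Functor ⋙ δlastFunctor).map (mapComposableArrows₅ φ hS₁ hS₂ i j hij))
      · exact (composableArrows₅_exact hS₁ i j hij).δ₀.δlast
      · exact (composableArrows₅_exact hS₂ i j hij).δ₀.δlast
      · exact (inferInstance : Epi (homologyMap φ.τ₂ i))
      · exact (inferInstance : Mono (homologyMap φ.τ₃ i))
      · exact (inferInstance : Mono (homologyMap φ.τ₂ j))
    have : Epi (homologyMap φ.τ₁ j) := by
      apply epi_of_epi_of_epi_of_mono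
        ((δ₀Functor ⋙ δ₀Functor).map (mapComposableArrows₅ φ hS₁ hS₂ i j hij))
      · exact (composableArrows₅_exact hS₁ i j hij).δ₀.δ₀
      · exact (composableArrows₅_exact hS₂ i j hij).δ₀.δ₀
      · exact (inferInstance : Epi (homologyMap φ.τ₃ i))
      · exact (inferInstance : Epi (homologyMap φ.τ₂ j))
      · exact (inferInstance : Mono (homologyMap φ.τ₃ j))
    exact isIso_of_mono_of_epi _
  · have := mono_homologyMap_of_mono_of_not_rel S₁.f j (by simpa using hj)
    have hf₂ := mono_homologyMap_of_mono_of_not_rel S₂.f j (by simpa using hj)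
    have e : homologyMap φ.τ₁ j ≫ homologyMap S₂.f j = homologyMap S₁.f j ≫ homologyMap φ.τ₂ j := by
      rw [← homologyMap_comp, ← homologyMap_comp, φ.comm₁₂]
    have e' : homologyMap φ.τ₂ j ≫ homologyMap S₂.g j = homologyMap S₁.g j ≫ homologyMap φ.τ₃ j := by
      rw [← homologyMap_comp, ← homologyMap_comp, φ.comm₂₃]
    have : Mono (homologyMap φ.τ₁ j) := mono_of_mono_fac e
    have : Epi (homologyMap φ.τ₁ j) :=
      ShortComplex.epi_of_mono_of_epi_of_mono
        (R₁ := ShortComplex.mk (homologyMap S₁.f j) (homologyMap S₁.g j)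
          (by rw [← homologyMap_comp, S₁.zero, homologyMap_zero]))
        (R₂ := ShortComplex.mk (homologyMap S₂.f j) (homologyMap S₂.g j)
          (by rw [← homologyMap_comp, S₂.zero, homologyMap_zero]))
        (φ := ShortComplex.homMk (homologyMap φ.τ₁ j) (homologyMap φ.τ₂ j) (homologyMap φ.τ₃ j) e e')
        (hS₁.homology_exact₂ j) hf₂ (inferInstance : Epi (homologyMap φ.τ₂ j))
        (inferInstance : Mono (homologyMap φ.τ₃ j))
    exact isIso_of_mono_of_epi _

theorem quasiIso_biprodMap {A A' B B' : HomologicalComplex C c} (f : A ⟶ A') (g : B ⟶ B')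
    [QuasiIso f] [QuasiIso g] : QuasiIso (biprod.map f g) := by
  rw [_root_.quasiIso_iff]
  intro j
  rw [quasiIsoAt_iff_isIso_homologyMap]
  have hid : ∀ K L : HomologicalComplex C c,
      homologyMap (biprod.fst : K ⊞ L ⟶ K) j ≫ homologyMap biprod.inl j +
        homologyMap (biprod.snd : K ⊞ L ⟶ L) j ≫ homologyMap biprod.inr j = 𝟙 _ := fun K L => by
    rw [← homologyMap_comp, ← homologyMap_comp, ← homologyMap_add, biprod.total, homologyMap_id]
  refine ⟨homologyMap biprod.fst j ≫ inv (homologyMap f j) ≫ homologyMap biprod.inl j +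
    homologyMap biprod.snd j ≫ inv (homologyMap g j) ≫ homologyMap biprod.inr j, ?_, ?_⟩
  · rw [Preadditive.comp_add, ← homologyMap_comp_assoc, ← homologyMap_comp_assoc, biprod.map_fst,
      biprod.map_snd, homologyMap_comp_assoc, homologyMap_comp_assoc, IsIso.hom_inv_id_assoc,
      IsIso.hom_inv_id_assoc, hid]
  · simp only [Preadditive.add_comp, Category.assoc, ← homologyMap_comp, biprod.inl_map, biprod.inr_map]
    simp only [homologyMap_comp, IsIso.inv_hom_id_assoc, hid]

end abstract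

/-! ### The Mayer–Vietoris sequence of sections -/

section mv

variable {X : Scheme.{u}} {R : Type u} [CommRing R] {W : X.Opens} (φ : R →+* Γ(X, W))

/-- The ring map to functions on a smaller open. -/
noncomputable abbrev resφ {V : X.Opens} (h : V ≤ W) : R →+* Γ(X, V) :=
  (X.presheaf.map (homOfLE h).op).hom.comp φ

theorem resφ_res {U V : X.Opens} (h : U ≤ V) (hV : V ≤ W) (r : R) :
    X.presheaf.map (homOfLE h).op (resφ φ hV r) = resφ φ (h.trans hV) r :=
  QCohLib.ringMap_map' _ _ _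

/-- Restriction, as a map of complexes of modules. -/
noncomputable def resHom (K : CochainComplex X.Modules ℕ) {U V : X.Opens} (h : U ≤ V) (hV : V ≤ W) :
    secCx V (resφ φ hV) K ⟶ secCx U (resφ φ (h.trans hV)) K where
  f n := @ModuleCat.ofHom R _ ((secCx V (resφ φ hV) K).X n) ((secCx U (resφ φ (h.trans hV)) K).X n) _ _ _ _
    ((secRes (σ := RingHom.id R) (resφ φ hV) (resφ φ (h.trans hV)) h (resφ_res φ h hV) K).f n)
  comm' i j _ := ModuleCat.hom_ext (LinearMap.ext fun m =>
    ((secRes (σ := RingHom.id R) (resφ φ hV) (resφ φ (h.trans hV)) h (resφ_res φ h hV) K).comm i j m))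

theorem resHom_apply (K : CochainComplex X.Modules ℕ) {U V : X.Opens} (h : U ≤ V) (hV : V ≤ W)
    (n : ℕ) (m : Γ(K.X n, V)) :
    ((resHom φ K h hV).f n).hom m = (K.X n).presheaf.map (homOfLE h).op m := rfl

theorem resHom_comp (K : CochainComplex X.Modules ℕ) {D U V : X.Opens} (h : U ≤ V) (hV : V ≤ W)
    (h' : D ≤ U) :
    resHom φ K h hV ≫ resHom φ K h' (h.trans hV) = resHom φ K (h'.trans h) hV := by
  ext n m
  exact (QCohLib.map_map' (K.X n) (homOfLE h') (homOfLE h) m)

/-- `0 → Γ(A) → Γ(U) ⊕ Γ(V) → Γ(D) → 0`. -/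
noncomputable def mvSc (K : CochainComplex X.Modules ℕ) {A U V D : X.Opens} (hA : A ≤ W)
    (hU : U ≤ A) (hV : V ≤ A) (hDU : D ≤ U) (hDV : D ≤ V) :
    ShortComplex (CochainComplex (ModuleCat.{u} R) ℕ) :=
  ShortComplex.mk (biprod.lift (resHom φ K hU hA) (resHom φ K hV hA))
    (biprod.desc (resHom φ K hDU (hU.trans hA)) (-resHom φ K hDV (hV.trans hA))) (by
      rw [biprod.lift_desc, Preadditive.comp_neg, resHom_comp, resHom_comp, add_neg_cancel])

theorem mvSc_shortExact (K : CochainComplex X.Modules ℕ)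
    (hfl : ∀ (n : ℕ) {P Q : X.Opens} (h : P ≤ Q), Function.Surjective ((K.X n).presheaf.map (homOfLE h).op))
    {A U V D : X.Opens} (hA : A ≤ W) (hU : U ≤ A) (hV : V ≤ A) (hDU : D ≤ U) (hDV : D ≤ V)
    (eA : A = U ⊔ V) (eD : D = U ⊓ V) : (mvSc φ K hA hU hV hDU hDV).ShortExact := by
  subst eA eD
  refine HomologicalComplex.shortExact_of_degreewise_shortExact _ fun n => ?_
  let P := secCx U (resφ φ (hU.trans hA)) K
  let Q := secCx V (resφ φ (hV.trans hA)) K
  have hfst : ∀ a, ((biprod.fst : P ⊞ Q ⟶ P).f n).hom (((biprod.inl : P ⟶ P ⊞ Q).f n).hom a) = a :=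
    fun a => congr(($(biprod.inl_fst (X := P) (Y := Q)).f n).hom a)
  have hdec : ∀ z, ((biprod.inl : P ⟶ P ⊞ Q).f n).hom (((biprod.fst : P ⊞ Q ⟶ P).f n).hom z) +
      ((biprod.inr : Q ⟶ P ⊞ Q).f n).hom (((biprod.snd : P ⊞ Q ⟶ Q).f n).hom z) = z :=
    fun z => congr(($(biprod.total (X := P) (Y := Q)).f n).hom z)
  have hgl : ∀ a, ((mvSc φ K hA hU hV hDU hDV).g.f n).hom (((biprod.inl : P ⟶ P ⊞ Q).f n).hom a) =
      (K.X n).presheaf.map (homOfLE hDU).op a :=
    fun a => congr(($(biprod.inl_desc (resHom φ K hDU (hU.trans hA))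
      (-resHom φ K hDV (hV.trans hA))).f n).hom a)
  have hgr : ∀ a, ((mvSc φ K hA hU hV hDU hDV).g.f n).hom (((biprod.inr : Q ⟶ P ⊞ Q).f n).hom a) =
      -(K.X n).presheaf.map (homOfLE hDV).op a :=
    fun a => congr(($(biprod.inr_desc (resHom φ K hDU (hU.trans hA))
      (-resHom φ K hDV (hV.trans hA))).f n).hom a)
  have hffst : ∀ y, ((biprod.fst : P ⊞ Q ⟶ P).f n).hom (((mvSc φ K hA hU hV hDU hDV).f.f n).hom y) =
      (K.X n).presheaf.map (homOfLE hU).op y :=
    fun y => congr(($(biprod.lift_fst (resHom φ K hU hA) (resHom φ K hV hA)).f n).hom y)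
  have hfsnd : ∀ y, ((biprod.snd : P ⊞ Q ⟶ Q).f n).hom (((mvSc φ K hA hU hV hDU hDV).f.f n).hom y) =
      (K.X n).presheaf.map (homOfLE hV).op y :=
    fun y => congr(($(biprod.lift_snd (resHom φ K hU hA) (resHom φ K hV hA)).f n).hom y)
  refine { exact := ?_, mono_f := ?_, epi_g := ?_ }
  · rw [ShortComplex.moduleCat_exact_iff]
    intro z hz
    let s : Γ(K.X n, U) := ((biprod.fst : P ⊞ Q ⟶ P).f n).hom z
    let t : Γ(K.X n, V) := ((biprod.snd : P ⊞ Q ⟶ Q).f n).hom z
    have hst : (K.X n).presheaf.map (homOfLE hDU).op s = (K.X n).presheaf.map (homOfLE hDV).op t := by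
      have h1 := (map_add ((mvSc φ K hA hU hV hDU hDV).g.f n).hom _ _).symm.trans
        (congrArg ((mvSc φ K hA hU hV hDU hDV).g.f n).hom (hdec z))
      have h2 := ((congrArg₂ (· + ·) (hgl s) (hgr t)).symm.trans (h1.trans hz))
      exact add_neg_eq_zero.mp h2
    obtain ⟨y, hy₁, hy₂⟩ := QCohLib.glue_two s t hst
    refine ⟨y, ?_⟩
    refine ((hdec _).symm.trans ?_).trans (hdec z)
    exact congrArg₂ (· + ·) (congrArg ((biprod.inl : P ⟶ P ⊞ Q).f n).hom ((hffst y).trans hy₁))
      (congrArg ((biprod.inr : Q ⟶ P ⊞ Q).f n).hom ((hfsnd y).trans hy₂))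
  · rw [ModuleCat.mono_iff_injective]
    intro a b h
    exact QCohLib.ext_two (S := U) (V := V)
      ((hffst a).symm.trans ((congrArg ((biprod.fst : P ⊞ Q ⟶ P).f n).hom h).trans (hffst b)))
      ((hfsnd a).symm.trans ((congrArg ((biprod.snd : P ⊞ Q ⟶ Q).f n).hom h).trans (hfsnd b)))
  · rw [ModuleCat.epi_iff_surjective]
    intro d
    obtain ⟨s, hs⟩ := hfl n hDU d
    exact ⟨((biprod.inl : P ⟶ P ⊞ Q).f n).hom s, (hgl s).trans hs⟩

end mv

end RpushLib
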