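import Groth.Agent.RpushLib.Sections
import Groth.Agent.QCohLib.Push

/-!
# Flasque resolutions and affine morphisms
-/

set_option autoImplicit false
set_option linter.unusedSectionVars false

universe u

open CategoryTheory CategoryTheory.Limits AlgebraicGeometry TopologicalSpace Opposite
open QCohLib (AbSh HU toAbF)

namespace RpushLib

variable {X S : Scheme.{u}} {M : X.Modules}

/-- Transport of a resolution along an isomorphism. -/
noncomputable def FlRes.ofIso {M' : X.Modules} (F : FlRes M) (e : M' ≅ M) : FlRes M' where
  K := F.K
  ι := e.hom ≫ F.ι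
  comp := by rw [Category.assoc, F.comp, comp_zero]
  mono := have := F.mono; mono_comp _ _
  exact₀ := ShortComplex.exact_of_iso
    (S₁ := ShortComplex.mk F.ι (F.K.d 0 1) F.comp)
    (ShortComplex.isoMk e.symm (Iso.refl _) (Iso.refl _) (by simp) (by simp)) F.exact₀
  exact := F.exact
  flasque := F.flasque

theorem epi_push_of_acyclic (g : X ⟶ S) [IsAffineHom g] [Coh.IsQCoh M] (F : FlRes M) (k : ℕ) :
    Epi ((Scheme.Modules.pushforward g).map (cycSeq F.K k).g) := by
  have hac : QCohLib.AcyclicAbove g.base (QCohLib.affSet S) 0
      ((cycSeq F.K k).map (toAbF X)).X₁ := fun V hV n _ =>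
    F.subsingleton_cyc
      (fun m => QCohLib.subsingleton_HU_affine M m (IsAffineOpen.preimage hV g)) k n
  have h := QCohLib.pf_epi (f := g.base) QCohLib.isBasis_affSet
    (QCohLib.toAbF_shortExact (F.cycSeq_shortExact k)) hac
  exact (toAbF S).epi_of_epi_map (f := (Scheme.Modules.pushforward g).map (cycSeq F.K k).g) h

/-- Direct images of resolutions along affine morphisms. -/
noncomputable def FlRes.pushAffine [Coh.IsQCoh M] (F : FlRes M) (g : X ⟶ S) [IsAffineHom g] :
    FlRes ((Scheme.Modules.pushforward g).obj M) :=
  have : PreservesFiniteLimits (Scheme.Modules.pushforward g) :=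
    have : PreservesLimitsOfSize.{0, 0} (Scheme.Modules.pushforward g) :=
      (Scheme.Modules.pullbackPushforwardAdjunction g).rightAdjoint_preservesLimits
    PreservesLimitsOfSize.preservesFiniteLimits _
  have : (Scheme.Modules.pushforward g).Additive :=
    (Scheme.Modules.pullbackPushforwardAdjunction g).right_adjoint_additive
  { K := ((Scheme.Modules.pushforward g).mapHomologicalComplex _).obj F.K
    ι := (Scheme.Modules.pushforward g).map F.ι
    comp := by
      change _ ≫ (Scheme.Modules.pushforward g).map (F.K.d 0 1) = 0
      rw [← Functor.map_comp, F.comp, Functor.map_zero]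
    mono := (((Functor.preservesFiniteLimits_tfae (Scheme.Modules.pushforward g)).out 1 3 rfl rfl).mpr
      inferInstance (ShortComplex.mk F.ι (F.K.d 0 1) F.comp) ⟨F.exact₀, F.mono⟩).2
    exact₀ := (((Functor.preservesFiniteLimits_tfae (Scheme.Modules.pushforward g)).out 1 3 rfl rfl).mpr
      inferInstance (ShortComplex.mk F.ι (F.K.d 0 1) F.comp) ⟨F.exact₀, F.mono⟩).1
    exact := fun n => by
      rw [ShortComplex.exact_iff_epi_kernel_lift]
      let P := Scheme.Modules.pushforward g
      let e := PreservesKernel.iso P (F.K.d (n + 1) (n + 2))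
      have hlift : kernel.lift (P.map (F.K.d (n + 1) (n + 2))) (P.map (F.K.d n (n + 1)))
          (by rw [← Functor.map_comp, F.K.d_comp_d, Functor.map_zero]) =
          P.map (cycSeq F.K n).g ≫ e.hom := by
        rw [← cancel_mono (kernel.ι _), kernel.lift_ι, Category.assoc]
        simp only [e, PreservesKernel.iso_hom, kernelComparison_comp_ι]
        rw [← Functor.map_comp, kernel.lift_ι]
      have := epi_push_of_acyclic g F n
      refine Eq.mpr (congrArg Epi hlift) ?_
      exact @epi_comp _ _ _ _ _ _ this e.hom inferInstance
    flasque := fun n {_ _} h => F.flasque n (g.preimage_mono h) }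

end RpushLib
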