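import Groth.Agent.RpushLib.MV

/-!
# Base change for cohomology of sections over quasi-compact opens
-/

set_option autoImplicit false
set_option linter.unusedSectionVars false

universe u

open CategoryTheory CategoryTheory.Limits AlgebraicGeometry TopologicalSpace Opposite TensorProduct

namespace RpushLib

/-- Exactness in positive degrees over affine opens. -/
def AffAcyclic {X : Scheme.{u}} (K : CochainComplex X.Modules ℕ) : Prop :=
  ∀ (V : X.Opens), IsAffineOpen V → ∀ (n : ℕ) (z : Γ(K.X (n + 1), V)),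
    (K.d (n + 1) (n + 2)).app V z = 0 → ∃ a : Γ(K.X n, V), (K.d n (n + 1)).app V a = z

/-- Surjective restrictions. -/
def FlasqueTerms {X : Scheme.{u}} (K : CochainComplex X.Modules ℕ) : Prop :=
  ∀ (n : ℕ) {P Q : X.Opens} (h : P ≤ Q), Function.Surjective ((K.X n).presheaf.map (homOfLE h).op)

/-- `M` is the kernel of the first differential, on sections. -/
structure Aug {X : Scheme.{u}} (M : X.Modules) (K : CochainComplex X.Modules ℕ) where
  ι : M ⟶ K.X 0
  inj : ∀ V : X.Opens, Function.Injective (ι.app V)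
  comp : ι ≫ K.d 0 1 = 0
  exact : ∀ (V : X.Opens) (z : Γ(K.X 0, V)), (K.d 0 1).app V z = 0 → ∃ m, ι.app V m = z

theorem Aug.d_ι {X : Scheme.{u}} {M : X.Modules} {K : CochainComplex X.Modules ℕ} (a : Aug M K)
    (V : X.Opens) (m : Γ(M, V)) : (K.d 0 1).app V (a.ι.app V m) = 0 := by
  have h := congrArg (fun φ => φ.app V m) a.comp
  exact h

section biprod

variable {𝒜 ℬ : Type*} [Category* 𝒜] [Category* ℬ] [Abelian 𝒜] [Abelian ℬ] (T : 𝒜 ⥤ ℬ) [T.Additive]
  {A P Q D : 𝒜} {A' P' Q' D' : ℬ}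

/-- The middle map between two Mayer–Vietoris sequences. -/
noncomputable def midMap (e₁ : T.obj P ⟶ P') (e₂ : T.obj Q ⟶ Q') : T.obj (P ⊞ Q) ⟶ P' ⊞ Q' :=
  biprod.lift (T.map biprod.fst ≫ e₁) (T.map biprod.snd ≫ e₂)

theorem midMap_lift {a : A ⟶ P} {b : A ⟶ Q} {a' : A' ⟶ P'} {b' : A' ⟶ Q'} {e₀ : T.obj A ⟶ A'}
    {e₁ : T.obj P ⟶ P'} {e₂ : T.obj Q ⟶ Q'} (h₁ : T.map a ≫ e₁ = e₀ ≫ a')
    (h₂ : T.map b ≫ e₂ = e₀ ≫ b') :
    e₀ ≫ biprod.lift a' b' = T.map (biprod.lift a b) ≫ midMap T e₁ e₂ := by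
  apply biprod.hom_ext
  · simp [midMap, ← T.map_comp_assoc, h₁]
  · simp [midMap, ← T.map_comp_assoc, h₂]

theorem midMap_desc {a : P ⟶ D} {b : Q ⟶ D} {a' : P' ⟶ D'} {b' : Q' ⟶ D'} {e₁ : T.obj P ⟶ P'}
    {e₂ : T.obj Q ⟶ Q'} {e₃ : T.obj D ⟶ D'} (h₁ : T.map a ≫ e₃ = e₁ ≫ a')
    (h₂ : T.map b ≫ e₃ = e₂ ≫ b') :
    midMap T e₁ e₂ ≫ biprod.desc a' (-b') = T.map (biprod.desc a (-b)) ≫ e₃ := by
  rw [biprod.desc_eq (f := a)]
  simp [midMap, h₁, h₂]

theorem midMap_eq (e₁ : T.obj P ⟶ P') (e₂ : T.obj Q ⟶ Q') :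
    midMap T e₁ e₂ = biprod.lift (T.map biprod.fst) (T.map biprod.snd) ≫ biprod.map e₁ e₂ := by
  apply biprod.hom_ext <;> simp [midMap]

theorem isIso_midMap_id :
    IsIso (biprod.lift (T.map (biprod.fst : P ⊞ Q ⟶ P)) (T.map (biprod.snd : P ⊞ Q ⟶ Q))) := by
  refine ⟨biprod.desc (T.map biprod.inl) (T.map biprod.inr), ?_, ?_⟩
  · rw [biprod.lift_desc, ← T.map_comp, ← T.map_comp, ← T.map_add, biprod.total,
      CategoryTheory.Functor.map_id]
  · apply biprod.hom_ext' <;> apply biprod.hom_ext <;> simp [← T.map_comp]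

end biprod

variable {X X' : Scheme.{u}} {R B : Type u} [CommRing R] [CommRing B] [Algebra R B]

section zero

variable {M : X.Modules} {K : CochainComplex X.Modules ℕ} (a : Aug M K) (V : X.Opens)
  (φ : R →+* Γ(X, V))

/-- `M(V) → H⁰`. -/
noncomputable def Aug.h0 : (secFun V φ).obj M →ₗ[R] Hq (secCx V φ K) 0 :=
  (mkH (secCx V φ K) 0).comp
    (((secFun V φ).map a.ι).hom.codRestrict (Cyc (secCx V φ K) 0) fun m => by
      rw [mem_Cyc]; exact a.d_ι V m)

theorem Aug.h0_bijective : Function.Bijective (a.h0 V φ) := by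
  refine (mkH_zero_bijective _).comp ⟨fun x y h => a.inj V (congrArg Subtype.val h), fun z => ?_⟩
  obtain ⟨m, hm⟩ := a.exact V z.1 ((mem_Cyc (secCx V φ K) 0 z.1).mp z.2)
  exact ⟨m, Subtype.ext hm⟩

end zero

theorem subsingleton_Hq_succ {K : CochainComplex X.Modules ℕ} (hac : AffAcyclic K) {V : X.Opens}
    (hV : IsAffineOpen V) (φ : R →+* Γ(X, V)) (n : ℕ) : Subsingleton (Hq (secCx V φ K) (n + 1)) := by
  refine subsingleton_of_forall_eq 0 fun x => ?_
  obtain ⟨z, rfl⟩ := mkH_surjective _ _ x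
  rw [mkH_succ_eq_zero_iff]
  exact hac V hV n z.1 ((mem_Cyc (secCx V φ K) (n + 1) z.1).mp z.2)

/-- A map of modules on sections over a smaller open upstairs. -/
noncomputable def secMap₀ {σ : R →+* B} (g : X' ⟶ X) {V : X.Opens} (φ : R →+* Γ(X, V)) {U : X'.Opens}
    (ψ : B →+* Γ(X', U)) (h : U ≤ g ⁻¹ᵁ V) (hc : ∀ r, g.appLE V U h (φ r) = ψ (σ r))
    {M : X.Modules} {N : X'.Modules} (θ : M ⟶ (Scheme.Modules.pushforward g).obj N) :
    (secFun V φ).obj M →ₛₗ[σ] (secFun U ψ).obj N where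
  toFun m := N.presheaf.map (homOfLE h).op
    (show Γ(N, g ⁻¹ᵁ V) from θ.app V (show Γ(M, V) from m))
  map_add' x y := (congrArg (N.presheaf.map (homOfLE h).op)
    (map_add (θ.app V).hom x y)).trans (map_add (N.presheaf.map (homOfLE h).op).hom _ _)
  map_smul' r m := by
    refine ((congrArg (N.presheaf.map (homOfLE h).op) (θ.app_smul (φ r) (show Γ(M, V) from m))).trans
      (Scheme.Modules.map_smul N _ (g.app V (φ r)) _)).trans ?_
    exact congrArg (fun s : Γ(X', U) => s • N.presheaf.map (homOfLE h).op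
      (show Γ(N, g ⁻¹ᵁ V) from θ.app V (show Γ(M, V) from m))) (hc r)

/-- The base change map on the cohomology of sections is bijective. -/
theorem bijective_bc [Module.Flat R B] (g : X' ⟶ X) {W : X.Opens} (φ : R →+* Γ(X, W))
    (O' : X'.Opens) (φ' : B →+* Γ(X', g ⁻¹ᵁ W ⊓ O'))
    (hcompat : ∀ r, g.appLE W (g ⁻¹ᵁ W ⊓ O') inf_le_left (φ r) = φ' (algebraMap R B r))
    {K : CochainComplex X.Modules ℕ} {J : CochainComplex X'.Modules ℕ}
    (θ : K ⟶ ((Scheme.Modules.pushforward g).mapHomologicalComplex _).obj J)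
    (hK : FlasqueTerms K) (hJ : FlasqueTerms J) (haK : AffAcyclic K) (haJ : AffAcyclic J)
    {M : X.Modules} {N : X'.Modules} (a : Aug M K) (b : Aug N J)
    (θ₀ : M ⟶ (Scheme.Modules.pushforward g).obj N)
    (hθ₀ : a.ι ≫ θ.f 0 = θ₀ ≫ (Scheme.Modules.pushforward g).map b.ι)
    (haff : ∀ V : X.Opens, V ≤ W → IsAffineOpen V → IsAffineOpen (g ⁻¹ᵁ V ⊓ O'))
    (hbase : ∀ (V : X.Opens) (hV : V ≤ W), IsAffineOpen V →
      ∀ hc, Function.Bijective (extSL (secMap₀ (σ := algebraMap R B) g (resφ φ hV)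
        (U := g ⁻¹ᵁ V ⊓ O') (resφ φ' (inf_le_inf_right O' (g.preimage_mono hV))) inf_le_left hc θ₀)))
    (hW : IsCompact (W : Set X)) (hqs : IsQuasiSeparated (W : Set X)) (n : ℕ) :
    Function.Bijective (extSL ((secBC (σ := algebraMap R B) g φ φ' inf_le_left hcompat θ).hq n)) := by
  have hc : ∀ (V : X.Opens) (hV : V ≤ W) r,
      g.appLE V (g ⁻¹ᵁ V ⊓ O') inf_le_left (resφ φ hV r) =
        resφ φ' (inf_le_inf_right O' (g.preimage_mono hV)) (algebraMap R B r) := fun V hV r => by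
    have h1 : X'.presheaf.map (homOfLE (inf_le_inf_right O' (g.preimage_mono hV))).op
        (g.appLE W (g ⁻¹ᵁ W ⊓ O') inf_le_left (φ r)) =
        g.appLE V (g ⁻¹ᵁ V ⊓ O') inf_le_left (resφ φ hV r) := by
      change (g.appLE W (g ⁻¹ᵁ W ⊓ O') inf_le_left ≫ X'.presheaf.map _) (φ r) =
        (X.presheaf.map _ ≫ g.appLE V (g ⁻¹ᵁ V ⊓ O') inf_le_left) (φ r)
      rw [Scheme.Hom.appLE_map, Scheme.Hom.map_appLE]
    rw [← h1, hcompat]
    rfl
  let t : ∀ (V : X.Opens) (hV : V ≤ W), SLHom (algebraMap R B) (secCx V (resφ φ hV) K)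
      (secCx (g ⁻¹ᵁ V ⊓ O') (resφ φ' (inf_le_inf_right O' (g.preimage_mono hV))) J) := fun V hV =>
    secBC g (resφ φ hV) _ inf_le_left (hc V hV) θ
  let P : X.Opens → Prop := fun V => ∀ hV : V ≤ W, QuasiIso (extHom (t V hV))
  have hPaff : ∀ V, IsAffineOpen V → P V := fun V hVa hV => by
    rw [_root_.quasiIso_iff]
    intro k
    rw [← bijective_extSL_hq_iff]
    cases k with
    | zero =>
      have hb := hbase V hV hVa (hc V hV)
      let eK := LinearEquiv.ofBijective (a.h0 V (resφ φ hV)) (a.h0_bijective _ _)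
      let bJ := b.h0 (g ⁻¹ᵁ V ⊓ O') (resφ φ' (inf_le_inf_right O' (g.preimage_mono hV)))
      have hkey : (extSL ((t V hV).hq 0)).comp (eK.toLinearMap.baseChange B) =
          bJ.comp (extSL (secMap₀ (σ := algebraMap R B) g (resφ φ hV)
            (U := g ⁻¹ᵁ V ⊓ O') (resφ φ' (inf_le_inf_right O' (g.preimage_mono hV))) inf_le_left
            (hc V hV) θ₀)) := by
        refine extSL_unique fun m => ?_
        refine ((congrArg (extSL ((t V hV).hq 0)) (LinearMap.baseChange_tmul eK.toLinearMap (1 : B) m)).trans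
          ((extSL_tmul _ (1 : B) _).trans (one_smul _ _))).trans (Eq.symm ?_)
        refine (congrArg bJ ((extSL_tmul _ (1 : B) m).trans (one_smul _ _))).trans ?_
        refine congrArg (mkH _ 0) (Subtype.ext ?_)
        change b.ι.app _ (N.presheaf.map _ (θ₀.app V m)) =
          (J.X 0).presheaf.map (homOfLE inf_le_left).op ((θ.f 0).app V (a.ι.app V m))
        rw [QCohLib.app_map]
        exact congrArg ((J.X 0).presheaf.map _)
          (congrArg (fun φ : M ⟶ _ => φ.app V m) hθ₀).symm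
      have h1 : Function.Bijective (eK.toLinearMap.baseChange B) :=
        (eK.lTensor B).bijective
      refine (Function.Bijective.of_comp_iff _ h1).mp ?_
      rw [← LinearMap.coe_comp, hkey]
      exact (b.h0_bijective _ _).comp hb
    | succ k =>
      have := subsingleton_Hq_succ haK hVa (resφ φ hV) k
      have := subsingleton_Hq_succ haJ (haff V hV hVa)
        (resφ φ' (inf_le_inf_right O' (g.preimage_mono hV))) k
      exact ⟨Function.injective_of_subsingleton _, fun y => ⟨0, Subsingleton.elim _ _⟩⟩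
  have hPmv : ∀ U V : X.Opens, P U → P V → P (U ⊓ V) → P (U ⊔ V) := by
    intro U V hU hV hD hA
    let hle : ∀ {Q : X.Opens}, Q ≤ W → g ⁻¹ᵁ Q ⊓ O' ≤ g ⁻¹ᵁ W ⊓ O' := fun h =>
      inf_le_inf_right O' (g.preimage_mono h)
    let S₁ := (mvSc φ K hA (le_sup_left : U ≤ U ⊔ V) le_sup_right (inf_le_left : U ⊓ V ≤ U) inf_le_right).map
      ((tensB B).mapHomologicalComplex _)
    let S₂ := mvSc φ' J (hle hA) (inf_le_inf_right O' (g.preimage_mono (le_sup_left : U ≤ U ⊔ V)))
      (inf_le_inf_right O' (g.preimage_mono (le_sup_right : V ≤ U ⊔ V)))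
      (inf_le_inf_right O' (g.preimage_mono (inf_le_left : U ⊓ V ≤ U)))
      (inf_le_inf_right O' (g.preimage_mono (inf_le_right : U ⊓ V ≤ V)))
    have hS₁ : S₁.ShortExact :=
      HomologicalComplex.shortExact_of_degreewise_shortExact _ fun k =>
        tensB_shortExact ((mvSc_shortExact φ K hK hA _ _ _ _ rfl rfl).map_of_exact
          (HomologicalComplex.eval (ModuleCat.{u} R) (ComplexShape.up ℕ) k))
    have hS₂ : S₂.ShortExact := mvSc_shortExact φ' J hJ (hle hA) _ _ _ _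
      (by rw [← inf_sup_right]; rfl) (by rw [← inf_inf_distrib_right]; rfl)
    have nat : ∀ {Q' Q : X.Opens} (h : Q' ≤ Q) (hQ : Q ≤ W),
        ((tensB B).mapHomologicalComplex _).map (resHom φ K h hQ) ≫ extHom (t Q' (h.trans hQ)) =
          extHom (t Q hQ) ≫ resHom φ' J (inf_le_inf_right O' (g.preimage_mono h)) (hle hQ) := by
      intro Q' Q h hQ
      refine HomologicalComplex.hom_ext _ _ fun k => ModuleCat.hom_ext (extSL_unique fun m => ?_)
      refine ((congrArg ((extHom (t Q' (h.trans hQ))).f k).hom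
        (LinearMap.baseChange_tmul ((resHom φ K h hQ).f k).hom (1 : B) m)).trans
          ((extHom_f_tmul _ k (1 : B) _).trans (one_smul _ _))).trans (Eq.symm ?_)
      refine (congrArg ((resHom φ' J (inf_le_inf_right O' (g.preimage_mono h)) (hle hQ)).f k).hom
        ((extHom_f_tmul _ k (1 : B) m).trans (one_smul _ _))).trans ?_
      change (J.X k).presheaf.map _ ((J.X k).presheaf.map _ ((θ.f k).app Q m)) =
        (J.X k).presheaf.map _ ((θ.f k).app Q' ((K.X k).presheaf.map (homOfLE h).op m))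
      rw [QCohLib.app_map]
      change _ = (J.X k).presheaf.map _
        ((J.X k).presheaf.map ((Opens.map g.base).map (homOfLE h)).op ((θ.f k).app Q m))
      rw [QCohLib.map_map', QCohLib.map_map']
      rfl
    let T := (tensB (R := R) B).mapHomologicalComplex (ComplexShape.up ℕ)
    let PU := secCx U (resφ φ (le_sup_left.trans hA)) K
    let PV := secCx V (resφ φ (le_sup_right.trans hA)) K
    let eU := extHom (t U (le_sup_left.trans hA))
    let eV := extHom (t V (le_sup_right.trans hA))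
    let Φ : S₁ ⟶ S₂ :=
      { τ₁ := extHom (t (U ⊔ V) hA)
        τ₂ := midMap T (P := PU) (Q := PV) eU eV
        τ₃ := extHom (t (U ⊓ V) ((inf_le_left : U ⊓ V ≤ U).trans (le_sup_left.trans hA)))
        comm₁₂ := midMap_lift T (nat le_sup_left hA) (nat le_sup_right hA)
        comm₂₃ := midMap_desc T (nat inf_le_left (le_sup_left.trans hA))
          (nat inf_le_right (le_sup_right.trans hA)) }
    have := hU (le_sup_left.trans hA)
    have := hV (le_sup_right.trans hA)
    have h₂ : QuasiIso Φ.τ₂ := by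
      change QuasiIso (midMap T eU eV)
      rw [midMap_eq]
      have := quasiIso_biprodMap eU eV
      have := isIso_midMap_id T (P := PU) (Q := PV)
      infer_instance
    exact quasiIso_τ₁ Φ hS₁ hS₂ h₂ (hD _)
  have hWP : P W := by
    suffices ∀ V : X.Opens, IsCompact (V : Set X) → V ≤ W → P V from this W hW le_rfl
    intro V hV
    refine compact_open_induction_on (P := fun V => V ≤ W → P V) V hV
      (fun _ => hPaff ⊥ (isAffineOpen_bot X)) fun S hS Q ih hSQ => ?_
    refine hPmv S Q.1 (ih (le_sup_left.trans hSQ)) (hPaff _ Q.2) ?_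
    exact Groth.Agent.S0015.compact_le_affine X P hPaff (fun U V _ _ => hPmv U V) Q.1 Q.2 _
      inf_le_right (hqs _ _ (le_sup_left.trans hSQ) S.2 hS (le_sup_right.trans hSQ) Q.1.2 Q.2.isCompact)
  have hq := hWP le_rfl
  have hfin : Function.Bijective (extSL ((t W le_rfl).hq n)) := by
    rw [bijective_extSL_hq_iff]; infer_instance
  have e1 : resφ φ (le_refl W) = φ := RingHom.ext fun r => by
    change X.presheaf.map (𝟙 (op W)) (φ r) = φ r
    rw [CategoryTheory.Functor.map_id]; rfl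
  have e2 : resφ φ' (inf_le_inf_right O' (g.preimage_mono (le_refl W))) = φ' := RingHom.ext fun r => by
    change X'.presheaf.map (𝟙 _) (φ' r) = φ' r
    rw [CategoryTheory.Functor.map_id]; rfl
  have key : ∀ (ψ : R →+* Γ(X, W)) (ψ' : B →+* Γ(X', g ⁻¹ᵁ W ⊓ O'))
      (hψ : ∀ r, g.appLE W (g ⁻¹ᵁ W ⊓ O') inf_le_left (ψ r) = ψ' (algebraMap R B r)),
      ψ = φ → ψ' = φ' →
      Function.Bijective (extSL ((secBC (σ := algebraMap R B) g ψ ψ' inf_le_left hψ θ).hq n)) →
      Function.Bijective (extSL ((secBC (σ := algebraMap R B) g φ φ' inf_le_left hcompat θ).hq n)) := by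
    rintro ψ ψ' hψ rfl rfl h
    exact h
  exact key _ _ _ e1 e2 hfin

end RpushLib
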