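import Groth.Agent.RpushLib.FlatRpush
import Groth.Prelude.Def_CohBC2

/-!
# The named base change morphism of higher direct images is an isomorphism for flat base change
-/

set_option autoImplicit false
set_option backward.isDefEq.respectTransparency false
set_option linter.all false

universe u

open CategoryTheory CategoryTheory.Limits AlgebraicGeometry TopologicalSpace Opposite
open AlgebraicGeometry.Scheme.Modules

namespace RpushLib

section Hom

variable {S S' : Scheme.{u}} (g : S' ⟶ S) {C : CochainComplex S.Modules ℕ}
  {D : CochainComplex S'.Modules ℕ} (χ : C ⟶ pushCx g D) (n : ℕ)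

theorem cycMap_eq : cycMap g χ n =
    HomologicalComplex.cyclesMap χ n ≫ RDer.cyclesComparison (Scheme.Modules.pushforward g) D n := by
  haveI : Mono ((Scheme.Modules.pushforward g).map (D.iCycles n)) :=
    CategoryTheory.preserves_mono_of_preservesLimit _ _
  refine (cancel_mono ((Scheme.Modules.pushforward g).map (D.iCycles n))).mp ?_
  refine (cycMap_i g χ n).trans (Eq.symm ?_)
  refine (Category.assoc _ _ _).trans ((congrArg (HomologicalComplex.cyclesMap χ n ≫ ·)
    (RDer.cyclesComparison_i (Scheme.Modules.pushforward g) D n)).trans ?_)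
  exact HomologicalComplex.cyclesMap_i χ n

/-- The adjoint map on homology is the map on homology followed by the comparison. -/
theorem homAdj_eq : homAdj g χ n =
    HomologicalComplex.homologyMap χ n ≫ RDer.homologyComparison (Scheme.Modules.pushforward g) D n := by
  refine (cancel_epi (C.homologyπ n)).mp ?_
  refine (π_homAdj g χ n).trans (Eq.symm ?_)
  refine ((Category.assoc _ _ _).symm.trans (congrArg (· ≫ RDer.homologyComparison (Scheme.Modules.pushforward g) D n)
    (HomologicalComplex.homologyπ_naturality χ n))).trans ?_
  refine (Category.assoc _ _ _).trans ((congrArg (HomologicalComplex.cyclesMap χ n ≫ ·)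
    (RDer.homologyπ_homologyComparison (Scheme.Modules.pushforward g) D n)).trans ?_)
  rw [cycMap_eq, Category.assoc]

end Hom

section Square

variable {X X' S S' : Scheme.{u}} {g : S' ⟶ S} {g' : X' ⟶ X} {f : X ⟶ S} {f' : X' ⟶ S'}
  [HasInjectiveResolutions X.Modules] [HasInjectiveResolutions X'.Modules]
  [Limits.PreservesFiniteLimits (Scheme.Modules.pullback g')]

/-- The base change morphism in adjoint form is computed by any lift of the unit to injective resolutions. -/
theorem exists_bcQAdj_eq (w : g' ≫ f = f' ≫ g) (M : X.Modules) (n : ℕ) :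
    ∃ θ : (injectiveResolution M).cocomplex ⟶
        pushCx g' (injectiveResolution ((Scheme.Modules.pullback g').obj M)).cocomplex,
      (injectiveResolution M).ι.f 0 ≫ θ.f 0 =
        (Scheme.Modules.pullbackPushforwardAdjunction g').unit.app M ≫
          (Scheme.Modules.pushforward g').map ((injectiveResolution ((Scheme.Modules.pullback g').obj M)).ι.f 0) ∧
      CohBC.bcQAdj f g f' g' w n M =
        (rpushIso f (injectiveResolution M) n).hom ≫ homAdj g (sqCx w θ) n ≫
          (Scheme.Modules.pushforward g).map
            (rpushIso f' (injectiveResolution ((Scheme.Modules.pullback g').obj M)) n).inv := by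
  let P := (Scheme.Modules.pullback g').obj M
  let u := (Scheme.Modules.pullbackPushforwardAdjunction g').unit.app M
  let I := injectiveResolution M
  let J := injectiveResolution P
  let K := injectiveResolution ((Scheme.Modules.pushforward g').obj P)
  let φ : I.cocomplex ⟶ K.cocomplex := InjectiveResolution.desc u K I
  have hφ : I.ι.f 0 ≫ φ.f 0 = u ≫ K.ι.f 0 := InjectiveResolution.desc_commutes_zero u K I
  let d : K.cocomplex ⟶ pushCx g' J.cocomplex :=
    RDer.descToInjectives (𝟙 _) K.cocomplex K.ι
      (((Scheme.Modules.pushforward g').mapHomologicalComplex _).obj J.cocomplex)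
      (RDer.mapAug (Scheme.Modules.pushforward g') J.ι)
  have hd : K.ι.f 0 ≫ d.f 0 = (Scheme.Modules.pushforward g').map (J.ι.f 0) := by
    refine (RDer.ι_descToInjectives_f_zero (𝟙 _) K.cocomplex K.ι _ _).trans ?_
    simp [HomologicalComplex.singleMapHomologicalComplex_inv_app_self]
  refine ⟨φ ≫ d, ?_, ?_⟩
  · rw [HomologicalComplex.comp_f]
    refine ((Category.assoc _ _ _).symm.trans (congrArg (· ≫ d.f 0) hφ)).trans ?_
    exact (Category.assoc _ _ _).trans (congrArg (u ≫ ·) hd)
  · let Φ := Scheme.Modules.pushforward f
    let F₁ := Scheme.Modules.pushforward g' ⋙ Scheme.Modules.pushforward f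
    let F₂ := Scheme.Modules.pushforward f' ⋙ Scheme.Modules.pushforward g
    let α : F₁ ⟶ F₂ := (Scheme.Modules.pushforwardComp g' f ≪≫ Scheme.Modules.pushforwardCongr w ≪≫
      (Scheme.Modules.pushforwardComp f' g).symm).hom
    have e1 : (Φ.rightDerived n).map u ≫ (K.isoRightDerivedObj Φ n).hom =
        (I.isoRightDerivedObj Φ n).hom ≫
          HomologicalComplex.homologyMap ((Φ.mapHomologicalComplex _).map φ) n :=
      InjectiveResolution.isoRightDerivedObj_hom_naturality u I K φ hφ Φ n
    have e2 : (NatTrans.rightDerived α n).app P =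
        (J.isoRightDerivedObj F₁ n).hom ≫
          HomologicalComplex.homologyMap ((NatTrans.mapHomologicalComplex α _).app J.cocomplex) n ≫
            (J.isoRightDerivedObj F₂ n).inv :=
      InjectiveResolution.rightDerived_app_eq α J n
    have e3 : HomologicalComplex.homologyMap (sqCx w (φ ≫ d)) n =
        HomologicalComplex.homologyMap ((Φ.mapHomologicalComplex _).map φ) n ≫
          HomologicalComplex.homologyMap ((Φ.mapHomologicalComplex _).map d) n ≫
            HomologicalComplex.homologyMap ((NatTrans.mapHomologicalComplex α _).app J.cocomplex :) n := by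
      rw [← HomologicalComplex.homologyMap_comp, ← HomologicalComplex.homologyMap_comp]
      refine congrArg (fun c => HomologicalComplex.homologyMap c n) ?_
      rw [← Category.assoc, ← Functor.map_comp]
      rfl
    rw [homAdj_eq, e3]
    show (Φ.rightDerived n).map u ≫
      RDer.edgeIn (Scheme.Modules.pushforward g') (Scheme.Modules.pushforward f) n P ≫
      (NatTrans.rightDerived α n).app P ≫
      RDer.edgeOut (Scheme.Modules.pushforward f') (Scheme.Modules.pushforward g) n P = _
    rw [e2]
    simp only [RDer.edgeIn, RDer.edgeOut, Category.assoc, Iso.inv_hom_id_assoc]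
    erw [Iso.inv_hom_id_assoc, Iso.inv_hom_id_assoc]
    erw [reassoc_of% e1]
    rfl

/-- **Flat base change**, for the named base change morphism. -/
theorem isIso_bcQ (H : IsPullback g' f' f g) [QuasiCompact f] [QuasiSeparated f] [Flat g]
    (M : X.Modules) [Coh.IsQCoh M] (n : ℕ) : IsIso (CohBC.bcQ f g f' g' H.w n M) := by
  have := quasiCompact_of_sq H
  have := quasiSeparated_of_sq H
  haveI : Coh.IsQCoh ((Scheme.Modules.pullback g').obj M) := KFlatLib.isQCoh_pullback g' M
  let I := injectiveResolution M
  let J := injectiveResolution ((Scheme.Modules.pullback g').obj M)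
  let F := FlRes.ofInjective I
  let G := FlRes.ofInjective J
  obtain ⟨θ, hθ, he⟩ := exists_bcQAdj_eq (f := f) (f' := f') (g := g) H.w M n
  have := isIso_homAdj_symm g (sqCx H.w (J := G.K) θ) n (localizes_pushCx f F n) (localizes_pushCx f' G n)
    fun U U' hU hU' hle => bijective_secBC_sqCx H F G θ hθ hU hU' hle n
  have key : CohBC.bcQ f g f' g' H.w n M = (Scheme.Modules.pullback g).map (rpushIso f I n).hom ≫
      ((Scheme.Modules.pullbackPushforwardAdjunction g).homEquiv _ _).symm (homAdj g (sqCx H.w θ) n) ≫
        (rpushIso f' J n).inv := by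
    rw [CohBC.bcQ, he, Adjunction.homEquiv_naturality_left_symm, Adjunction.homEquiv_naturality_right_symm]
  rw [key]
  exact @IsIso.comp_isIso _ _ _ _ _ _ _ inferInstance (@IsIso.comp_isIso _ _ _ _ _ _ _ this inferInstance)

end Square

end RpushLib
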