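import Groth.Agent.RpushLib.Local
import Groth.Agent.RpushLib.BC
import Mathlib.RingTheory.Finiteness.Cardinality
import Mathlib.LinearAlgebra.Finsupp.Pi
import Mathlib.LinearAlgebra.StdBasis

/-!
# Finite projective base change for sections over arbitrary opens
-/

set_option autoImplicit false

universe u

open CategoryTheory CategoryTheory.Limits AlgebraicGeometry TopologicalSpace Opposite TensorProduct

namespace RpushLib

section coord

variable (R : Type u) [CommRing R] (B : Type u) [CommRing B] [Algebra R B]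

/-- A presentation of a finite projective algebra as a retract of a free module. -/
structure Frame where
  m : ℕ
  s : B →ₗ[R] Fin m → R
  p : (Fin m → R) →ₗ[R] B
  retr : ∀ b, p (s b) = b

theorem exists_frame [Module.Finite R B] [Module.Projective R B] : Nonempty (Frame R B) := by
  obtain ⟨m, p, hp⟩ := Module.Finite.exists_fin' R B
  obtain ⟨s, hs⟩ := Module.projective_lifting_property p LinearMap.id hp
  exact ⟨⟨m, s, p, fun b => LinearMap.congr_fun hs b⟩⟩

variable {R B} (e : Frame R B) {M N : Type u} [AddCommGroup M] [Module R M] [AddCommGroup N] [Module R N]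

/-- Coordinates of an element of `B ⊗ M`. -/
noncomputable def Frame.coord (i : Fin e.m) : B ⊗[R] M →ₗ[R] M :=
  (TensorProduct.lid R M).toLinearMap.comp (LinearMap.rTensor M ((LinearMap.proj i).comp e.s))

theorem Frame.coord_tmul (i : Fin e.m) (b : B) (x : M) : e.coord i (b ⊗ₜ x) = e.s b i • x := by
  simp [Frame.coord]

theorem Frame.reconstruct (x : B ⊗[R] M) :
    x = ∑ i, e.p (Pi.single i 1) ⊗ₜ e.coord i x := by
  induction x using TensorProduct.induction_on with
  | zero => simp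
  | tmul b x =>
    simp only [e.coord_tmul, ← TensorProduct.smul_tmul, ← map_smul, ← TensorProduct.sum_tmul,
      ← map_sum]
    rw [show ∑ i, e.s b i • (Pi.single i (1 : R) : Fin e.m → R) = e.s b from
      (pi_eq_sum_univ' (e.s b)).symm, e.retr]
  | add x y hx hy =>
    simp only [map_add, TensorProduct.tmul_add, Finset.sum_add_distrib]
    rw [← hx, ← hy]

theorem Frame.coord_baseChange (i : Fin e.m) (f : M →ₗ[R] N) (x : B ⊗[R] M) :
    e.coord i (f.baseChange B x) = f (e.coord i x) := by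
  induction x using TensorProduct.induction_on with
  | zero => simp
  | tmul b x => rw [LinearMap.baseChange_tmul, e.coord_tmul, e.coord_tmul, map_smul]
  | add x y hx hy => simp only [map_add, hx, hy]

end coord

variable {X X' : Scheme.{u}} {R B : Type u} [CommRing R] [CommRing B] [Algebra R B] (g : X' ⟶ X)
  (φ : R →+* Γ(X, ⊤)) (φ' : B →+* Γ(X', ⊤))
  (hcompat : ∀ r, g.app ⊤ (φ r) = φ' (algebraMap R B r))
  {K : CochainComplex X.Modules ℕ} {J : CochainComplex X'.Modules ℕ}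
  (θ : K ⟶ ((Scheme.Modules.pushforward g).mapHomologicalComplex _).obj J)

/-- The complexes of sections over an open, upstairs. -/
noncomputable abbrev cxB (V : X.Opens) : CochainComplex (ModuleCat.{u} B) ℕ :=
  tensCx B (secCx V (resφ φ (le_top : V ≤ ⊤)) K)

/-- The complexes of sections over the preimage. -/
noncomputable abbrev cxJ (J : CochainComplex X'.Modules ℕ) (V : X.Opens) :
    CochainComplex (ModuleCat.{u} B) ℕ :=
  secCx (g ⁻¹ᵁ V ⊓ ⊤) (resφ φ' (le_top : g ⁻¹ᵁ V ⊓ ⊤ ≤ ⊤)) J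

include hcompat in
theorem hcompat_res (V : X.Opens) (r : R) :
    g.appLE V (g ⁻¹ᵁ V ⊓ ⊤) inf_le_left (resφ φ (le_top : V ≤ ⊤) r) =
      resφ φ' (le_top : g ⁻¹ᵁ V ⊓ ⊤ ≤ ⊤) (algebraMap R B r) := by
  change (X.presheaf.map (homOfLE (le_top : V ≤ ⊤)).op ≫ g.appLE V (g ⁻¹ᵁ V ⊓ ⊤) inf_le_left) (φ r) =
    X'.presheaf.map (homOfLE (le_top : g ⁻¹ᵁ V ⊓ ⊤ ≤ ⊤)).op (φ' (algebraMap R B r))
  rw [← hcompat, Scheme.Hom.map_appLE]
  rfl

/-- The base change map over an open. -/
noncomputable def bcOn (V : X.Opens) :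
    SLHom (algebraMap R B) (secCx V (resφ φ (le_top : V ≤ ⊤)) K) (cxJ g φ' J V) :=
  secBC g _ _ inf_le_left (hcompat_res g φ φ' hcompat V) θ

/-- Restriction upstairs. -/
noncomputable def resK (K : CochainComplex X.Modules ℕ) {V U : X.Opens} (h : U ≤ V) :
    SLHom (RingHom.id R) (secCx V (resφ φ (le_top : V ≤ ⊤)) K) (secCx U (resφ φ (le_top : U ≤ ⊤)) K) :=
  secRes _ _ h (fun r => by
    change (X.presheaf.map _ ≫ X.presheaf.map _) (φ r) = _
    rw [← Functor.map_comp]; rfl) K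

/-- Restriction of preimages. -/
noncomputable def resJ (J : CochainComplex X'.Modules ℕ) {V U : X.Opens} (h : U ≤ V) :
    SLHom (RingHom.id B) (cxJ g φ' J V) (cxJ g φ' J U) :=
  secRes _ _ (inf_le_inf_right ⊤ (g.preimage_mono h)) (fun r => by
    change (X'.presheaf.map _ ≫ X'.presheaf.map _) (φ' r) = _
    rw [← Functor.map_comp]; rfl) J

theorem resK_res {V U W : X.Opens} (h : U ≤ V) (h' : W ≤ U) (k : ℕ) :
    ((resK φ K h').f k).comp ((resK φ K h).f k) = (resK φ K (h'.trans h)).f k :=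
  LinearMap.ext fun m => QCohLib.map_map' (K.X k) (homOfLE h') (homOfLE h) m

/-- The extension of the base change map. -/
noncomputable abbrev tB (V : X.Opens) (k : ℕ) : (cxB (B := B) φ (K := K) V).X k →ₗ[B] (cxJ g φ' J V).X k :=
  ((extHom (bcOn g φ φ' hcompat θ V)).f k).hom

theorem tB_res {V U : X.Opens} (h : U ≤ V) (k : ℕ) :
    (tB g φ φ' hcompat θ U k).comp (((resK φ K h).f k).baseChange B) =
      ((resJ g φ' J h).f k).comp (tB g φ φ' hcompat θ V k) := by
  refine extSL_unique fun m => ?_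
  refine ((congrArg (tB g φ φ' hcompat θ U k) (LinearMap.baseChange_tmul _ (1 : B) m)).trans
    ((extHom_f_tmul _ k (1 : B) _).trans (one_smul _ _))).trans (Eq.symm ?_)
  refine (congrArg ((resJ g φ' J h).f k) ((extHom_f_tmul _ k (1 : B) m).trans (one_smul _ _))).trans ?_
  change (J.X k).presheaf.map _ ((J.X k).presheaf.map _ ((θ.f k).app V m)) =
    (J.X k).presheaf.map _ ((θ.f k).app U ((K.X k).presheaf.map (homOfLE h).op m))
  rw [QCohLib.app_map]
  change _ = (J.X k).presheaf.map _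
    ((J.X k).presheaf.map ((Opens.map g.base).map (homOfLE h)).op ((θ.f k).app V m))
  rw [QCohLib.map_map', QCohLib.map_map']
  rfl

/-- Degree `k` of the cone. -/
def ConeC (K : CochainComplex X.Modules ℕ) (J : CochainComplex X'.Modules ℕ) : ℕ → X.Opens → Type u
  | 0, V => (cxB (B := B) φ (K := K) V).X 0
  | k + 1, V => (cxB (B := B) φ (K := K) V).X (k + 1) × (cxJ g φ' J V).X k

noncomputable instance coneGrp (k : ℕ) (V : X.Opens) : AddCommGroup (ConeC g φ φ' K J k V) := by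
  cases k <;> unfold ConeC <;> infer_instance

/-- Restriction in the cone. -/
noncomputable def coneRes : ∀ (k : ℕ) {V U : X.Opens}, U ≤ V →
    ConeC g φ φ' K J k V →+ ConeC g φ φ' K J k U
  | 0, _, _, h => (((resK φ K h).f 0).baseChange B).toAddMonoidHom
  | k + 1, _, _, h => AddMonoidHom.prodMap (((resK φ K h).f (k + 1)).baseChange B).toAddMonoidHom
      ((resJ g φ' J h).f k).toAddMonoidHom

/-- The differential of the cone. -/
noncomputable def coneD : ∀ (k : ℕ) (V : X.Opens),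
    ConeC g φ φ' K J k V →+ ConeC g φ φ' K J (k + 1) V
  | 0, V => AddMonoidHom.prod ((cxB φ V).d 0 1).hom.toAddMonoidHom (tB g φ φ' hcompat θ V 0).toAddMonoidHom
  | k + 1, V => AddMonoidHom.prod
      (((cxB φ V).d (k + 1) (k + 2)).hom.toAddMonoidHom.comp (AddMonoidHom.fst _ _))
      ((tB g φ φ' hcompat θ V (k + 1)).toAddMonoidHom.comp (AddMonoidHom.fst _ _) -
        ((cxJ g φ' J V).d k (k + 1)).hom.toAddMonoidHom.comp (AddMonoidHom.snd _ _))

theorem resK_baseChange_res {V U W : X.Opens} (h : U ≤ V) (h' : W ≤ U) (k : ℕ)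
    (x : (cxB (B := B) φ (K := K) V).X k) :
    ((resK φ K h').f k).baseChange B (((resK φ K h).f k).baseChange B x) =
      ((resK φ K (h'.trans h)).f k).baseChange B x := by
  rw [← resK_res φ h h' k]
  exact (LinearMap.congr_fun (LinearMap.baseChange_comp ((resK φ K h).f k) ((resK φ K h').f k)) x).symm

theorem resJ_res {V U W : X.Opens} (h : U ≤ V) (h' : W ≤ U) (k : ℕ) (y : (cxJ g φ' J V).X k) :
    (resJ g φ' J h').f k ((resJ g φ' J h).f k y) = (resJ g φ' J (h'.trans h)).f k y :=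
  QCohLib.map_map' (J.X k) (homOfLE _) (homOfLE _) y

theorem baseChange_d (V U : X.Opens) (h : U ≤ V) (i j : ℕ) (x : (cxB (B := B) φ (K := K) V).X i) :
    ((cxB φ U).d i j).hom (((resK φ K h).f i).baseChange B x) =
      ((resK φ K h).f j).baseChange B (((cxB φ V).d i j).hom x) := by
  let dU := ((secCx U (resφ φ (le_top : U ≤ ⊤)) K).d i j).hom
  let dV := ((secCx V (resφ φ (le_top : V ≤ ⊤)) K).d i j).hom
  have e : dU.comp ((resK φ K h).f i) = ((resK φ K h).f j).comp dV :=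
    LinearMap.ext fun m => (resK φ K h).comm i j m
  exact (LinearMap.congr_fun (LinearMap.baseChange_comp ((resK φ K h).f i) dU) x).symm.trans
    ((congrArg (fun F => LinearMap.baseChange B F x) e).trans
      (LinearMap.congr_fun (LinearMap.baseChange_comp dV ((resK φ K h).f j)) x))

theorem sep_K (e : Frame R B) {V : X.Opens} (k : ℕ) (x : (cxB (B := B) φ (K := K) V).X k)
    (h : ∀ p ∈ V, ∃ (U : X.Opens) (hU : U ≤ V), p ∈ U ∧ ((resK φ K hU).f k).baseChange B x = 0) :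
    x = 0 := by
  rw [e.reconstruct x]
  refine Finset.sum_eq_zero fun i _ => ?_
  suffices e.coord i x = 0 by rw [this, TensorProduct.tmul_zero]; rfl
  choose U hU hp h0 using fun p : V => h p.1 p.2
  refine TopCat.Sheaf.eq_of_locally_eq' ((QCohLib.toAbF X).obj (K.X k) : TopCat.Sheaf AddCommGrpCat _)
    U V (fun p => homOfLE (hU p)) (fun p hp' => Opens.mem_iSup.mpr ⟨⟨p, hp'⟩, hp ⟨p, hp'⟩⟩) _ _ fun p => ?_
  refine Eq.trans ?_ (map_zero ((K.X k).presheaf.map (homOfLE (hU p)).op).hom).symm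
  refine ((e.coord_baseChange i ((resK φ K (hU p)).f k) x).symm).trans ?_
  rw [h0 p, map_zero]
  rfl

theorem glue_K (e : Frame R B) (k : ℕ) {ι : Type u} (U : ι → X.Opens) (V : X.Opens) (hV : ∀ i, U i ≤ V)
    (hcov : V ≤ iSup U) (x : ∀ i, (cxB (B := B) φ (K := K) (U i)).X k)
    (hx : ∀ i j, ((resK φ K (inf_le_left : U i ⊓ U j ≤ U i)).f k).baseChange B (x i) =
      ((resK φ K (inf_le_right : U i ⊓ U j ≤ U j)).f k).baseChange B (x j)) :
    ∃ y : (cxB (B := B) φ (K := K) V).X k, ∀ i, ((resK φ K (hV i)).f k).baseChange B y = x i := by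
  have hex : ∀ l : Fin e.m, ∃ y : Γ(K.X k, V), ∀ i,
      (K.X k).presheaf.map (homOfLE (hV i)).op y = e.coord l (x i) := fun l => by
    obtain ⟨y, hy, -⟩ := TopCat.Sheaf.existsUnique_gluing'
      ((QCohLib.toAbF X).obj (K.X k) : TopCat.Sheaf AddCommGrpCat _) U V (fun i => homOfLE (hV i)) hcov
      (fun i => (show Γ(K.X k, U i) from
        e.coord (M := (secCx (U i) (resφ φ (le_top : U i ≤ ⊤)) K).X k) l (x i))) (fun i j => by
        refine ((e.coord_baseChange l ((resK φ K (inf_le_left : U i ⊓ U j ≤ U i)).f k) (x i)).symm).trans ?_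
        rw [hx i j]
        exact e.coord_baseChange l ((resK φ K (inf_le_right : U i ⊓ U j ≤ U j)).f k) (x j))
    exact ⟨y, hy⟩
  choose y hy using hex
  let y' : Fin e.m → (secCx V (resφ φ (le_top : V ≤ ⊤)) K).X k := y
  refine ⟨∑ l, e.p (Pi.single l 1) ⊗ₜ y' l, fun i => ?_⟩
  refine (map_sum (((resK φ K (hV i)).f k).baseChange B) (fun l => e.p (Pi.single l 1) ⊗ₜ y' l) Finset.univ).trans ?_
  refine Eq.trans ?_ (e.reconstruct (x i)).symm
  refine Finset.sum_congr rfl fun l _ => ?_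
  rw [LinearMap.baseChange_tmul]
  exact congrArg _ (hy l i)

theorem sep_J {V : X.Opens} (k : ℕ) (y : (cxJ g φ' J V).X k)
    (h : ∀ p ∈ V, ∃ (U : X.Opens) (hU : U ≤ V), p ∈ U ∧ (resJ g φ' J hU).f k y = 0) : y = 0 := by
  choose U hU hp h0 using fun p : V => h p.1 p.2
  refine TopCat.Sheaf.eq_of_locally_eq' ((QCohLib.toAbF X').obj (J.X k) : TopCat.Sheaf AddCommGrpCat _)
    (fun p => g ⁻¹ᵁ U p ⊓ ⊤) (g ⁻¹ᵁ V ⊓ ⊤)
    (fun p => homOfLE (inf_le_inf_right ⊤ (g.preimage_mono (hU p))))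
    (fun q hq => Opens.mem_iSup.mpr ⟨⟨g q, hq.1⟩, hp ⟨g q, hq.1⟩, trivial⟩) _ _ fun p => ?_
  exact (h0 p).trans (map_zero ((J.X k).presheaf.map _).hom).symm

theorem glue_J (k : ℕ) {ι : Type u} (U : ι → X.Opens) (V : X.Opens) (hV : ∀ i, U i ≤ V)
    (hcov : V ≤ iSup U) (x : ∀ i, (cxJ g φ' J (U i)).X k)
    (hx : ∀ i j, (resJ g φ' J (inf_le_left : U i ⊓ U j ≤ U i)).f k (x i) =
      (resJ g φ' J (inf_le_right : U i ⊓ U j ≤ U j)).f k (x j)) :
    ∃ y : (cxJ g φ' J V).X k, ∀ i, (resJ g φ' J (hV i)).f k y = x i := by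
  obtain ⟨y, hy, -⟩ := TopCat.Sheaf.existsUnique_gluing'
    ((QCohLib.toAbF X').obj (J.X k) : TopCat.Sheaf AddCommGrpCat _) (fun i => g ⁻¹ᵁ U i ⊓ ⊤) (g ⁻¹ᵁ V ⊓ ⊤)
    (fun i => homOfLE (inf_le_inf_right ⊤ (g.preimage_mono (hV i))))
    (fun q hq => by
      obtain ⟨i, hi⟩ := Opens.mem_iSup.mp (hcov hq.1)
      exact Opens.mem_iSup.mpr ⟨i, hi, trivial⟩)
    (fun i => (show Γ(J.X k, g ⁻¹ᵁ U i ⊓ ⊤) from x i)) (fun i j => by
      let D := (g ⁻¹ᵁ U i ⊓ ⊤) ⊓ (g ⁻¹ᵁ U j ⊓ ⊤)
      have hD : D ≤ g ⁻¹ᵁ (U i ⊓ U j) ⊓ ⊤ := fun q hq => ⟨⟨hq.1.1, hq.2.1⟩, trivial⟩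
      have h := congrArg ((J.X k).presheaf.map (homOfLE hD).op) (hx i j)
      exact (QCohLib.map_map' (J.X k) _ _ _).symm.trans (h.trans (QCohLib.map_map' (J.X k) _ _ _)))
  exact ⟨y, hy⟩

/-- The cone, as a complex of flasque sheaves. -/
noncomputable def coneSec (e : Frame R B) (hK : FlasqueTerms K) (hJ : FlasqueTerms J) :
    SecComplex.{u} X where
  C := ConeC g φ φ' K J
  grp := coneGrp g φ φ'
  res := coneRes g φ φ'
  res_res k {V U W} h h' x := by
    cases k with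
    | zero => exact resK_baseChange_res φ h h' 0 x
    | succ k => exact Prod.ext (resK_baseChange_res φ h h' (k + 1) x.1) (resJ_res g φ' h h' k x.2)
  d := coneD g φ φ' hcompat θ
  d_res k {V U} h x := by
    cases k with
    | zero =>
      exact Prod.ext (baseChange_d φ V U h 0 1 x) (LinearMap.congr_fun (tB_res g φ φ' hcompat θ h 0) x)
    | succ k =>
      refine Prod.ext (baseChange_d φ V U h (k + 1) (k + 2) x.1) ?_
      change tB g φ φ' hcompat θ U (k + 1) (((resK φ K h).f (k + 1)).baseChange B x.1) -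
        ((cxJ g φ' J U).d k (k + 1)).hom ((resJ g φ' J h).f k x.2) = (resJ g φ' J h).f (k + 1)
          (tB g φ φ' hcompat θ V (k + 1) x.1 - ((cxJ g φ' J V).d k (k + 1)).hom x.2)
      rw [map_sub]
      exact congr_arg₂ (· - ·) (LinearMap.congr_fun (tB_res g φ φ' hcompat θ h (k + 1)) x.1)
        ((resJ g φ' J h).comm k (k + 1) x.2)
  d_d k V x := by
    have hdd : ∀ i j l z, ((cxB (B := B) φ (K := K) V).d j l).hom (((cxB φ V).d i j).hom z) = 0 :=
      fun i j l z => congr($((cxB φ V).d_comp_d i j l) z)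
    have hcomm : ∀ i j z, ((cxJ g φ' J V).d i j).hom (tB g φ φ' hcompat θ V i z) =
        tB g φ φ' hcompat θ V j (((cxB φ V).d i j).hom z) :=
      fun i j z => (SLHom.ofHom (extHom (bcOn g φ φ' hcompat θ V))).comm i j z
    cases k with
    | zero =>
      refine Prod.ext (hdd 0 1 2 x) ?_
      change tB g φ φ' hcompat θ V 1 (((cxB φ V).d 0 1).hom x) -
        ((cxJ g φ' J V).d 0 1).hom (tB g φ φ' hcompat θ V 0 x) = 0
      rw [hcomm, sub_self]
    | succ k =>
      refine Prod.ext (hdd _ _ _ x.1) ?_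
      change tB g φ φ' hcompat θ V (k + 2) (((cxB φ V).d (k + 1) (k + 2)).hom x.1) -
        ((cxJ g φ' J V).d (k + 1) (k + 2)).hom
          (tB g φ φ' hcompat θ V (k + 1) x.1 - ((cxJ g φ' J V).d k (k + 1)).hom x.2) = 0
      rw [map_sub, hcomm, show ((cxJ g φ' J V).d (k + 1) (k + 2)).hom (((cxJ g φ' J V).d k (k + 1)).hom x.2) = 0
        from congr($((cxJ g φ' J V).d_comp_d k (k + 1) (k + 2)) x.2), sub_zero, sub_self]
  sep k {V} x h := by
    cases k with
    | zero => exact sep_K φ e 0 x h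
    | succ k =>
      refine Prod.ext (sep_K φ e (k + 1) x.1 fun p hp => ?_) (sep_J g φ' k x.2 fun p hp => ?_)
      all_goals obtain ⟨U, hU, hpU, h0⟩ := h p hp
      · exact ⟨U, hU, hpU, congrArg Prod.fst h0⟩
      · exact ⟨U, hU, hpU, congrArg Prod.snd h0⟩
  glue k {ι} U V hV hcov x hx := by
    cases k with
    | zero => exact glue_K φ e 0 U V hV hcov x hx
    | succ k =>
      obtain ⟨a, ha⟩ := glue_K φ e (k + 1) U V hV hcov (fun i => (x i).1)
        fun i j => congrArg Prod.fst (hx i j)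
      obtain ⟨b, hb⟩ := glue_J g φ' k U V hV hcov (fun i => (x i).2)
        fun i j => congrArg Prod.snd (hx i j)
      exact ⟨(a, b), fun i => Prod.ext (ha i) (hb i)⟩
  flasque k {V U} h := by
    cases k with
    | zero => exact LinearMap.lTensor_surjective B (hK 0 h)
    | succ k =>
      exact Function.Surjective.prodMap (LinearMap.lTensor_surjective B (hK (k + 1) h))
        (hJ k (inf_le_inf_right ⊤ (g.preimage_mono h)))

/-- The base change map is bijective on every open if it is so on a basis. -/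
theorem bijective_bcOn [Module.Finite R B] [Module.Projective R B] (hK : FlasqueTerms K)
    (hJ : FlasqueTerms J) {Bs : Set X.Opens} (hBs : Opens.IsBasis Bs)
    (hloc : ∀ V ∈ Bs, ∀ n, Function.Bijective (extSL ((bcOn g φ φ' hcompat θ V).hq n)))
    (W : X.Opens) (n : ℕ) : Function.Bijective (extSL ((bcOn g φ φ' hcompat θ W).hq n)) := by
  obtain ⟨e⟩ := exists_frame R B
  let S := coneSec g φ φ' hcompat θ e hK hJ
  have hl : ∀ V ∈ Bs, ∀ m, Function.Bijective ((SLHom.ofHom (extHom (bcOn g φ φ' hcompat θ V))).hq m) :=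
    fun V hV m => (quasiIsoAt_iff_bijective _ m).mp ((bijective_extSL_hq_iff _ m).mp (hloc V hV m))
  have h0 : ∀ Q ∈ Bs, Function.Injective (S.d 0 Q) := fun Q hQ => by
    refine (injective_iff_map_eq_zero _).mpr fun x hx => ?_
    let x' : (cxB (B := B) φ (K := K) Q).X 0 := x
    have h1 : ((cxB φ Q).d 0 1).hom x' = 0 := congrArg Prod.fst hx
    have h2 : tB g φ φ' hcompat θ Q 0 x' = 0 := congrArg Prod.snd hx
    let z : Cyc (cxB (B := B) φ (K := K) Q) 0 := ⟨x', (mem_Cyc _ 0 x').mpr h1⟩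
    have : mkH _ 0 z = 0 := (hl Q hQ 0).1 (by
      rw [map_zero, SLHom.hq_mk, mkH_zero_eq_zero_iff]
      exact Subtype.ext h2)
    exact congrArg Subtype.val ((mkH_zero_eq_zero_iff _ z).mp this)
  have hd : ∀ Q ∈ Bs, ∀ k (z : S.C (k + 1) Q), S.d (k + 1) Q z = 0 → ∃ a, S.d k Q a = z := by
    intro Q hQ k ⟨u, v⟩ hz
    let t := SLHom.ofHom (extHom (bcOn g φ φ' hcompat θ Q))
    have h1 : ((cxB φ Q).d (k + 1) (k + 2)).hom u = 0 := congrArg Prod.fst hz
    have h2 : tB g φ φ' hcompat θ Q (k + 1) u = ((cxJ g φ' J Q).d k (k + 1)).hom v :=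
      sub_eq_zero.mp (congrArg Prod.snd hz)
    let z : Cyc (cxB (B := B) φ (K := K) Q) (k + 1) := ⟨u, (mem_Cyc _ _ u).mpr h1⟩
    have hz0 : mkH _ (k + 1) z = 0 := (hl Q hQ (k + 1)).1 (by
      rw [map_zero, SLHom.hq_mk, mkH_succ_eq_zero_iff]
      exact ⟨v, h2.symm⟩)
    obtain ⟨c, hc⟩ := (mkH_succ_eq_zero_iff _ k z).mp hz0
    have hc' : ((cxB φ Q).d k (k + 1)).hom c = u := hc
    have hw : ((cxJ g φ' J Q).d k (k + 1)).hom (tB g φ φ' hcompat θ Q k c - v) = 0 := by
      rw [map_sub, ← h2]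
      refine sub_eq_zero.mpr ((t.comm k (k + 1) c).trans ?_)
      exact congrArg (tB g φ φ' hcompat θ Q (k + 1)) hc'
    obtain ⟨c₁', hc₁'⟩ := (hl Q hQ k).2 (mkH _ k ⟨_, (mem_Cyc _ k _).mpr hw⟩)
    obtain ⟨c₁, rfl⟩ := mkH_surjective _ k c₁'
    rw [SLHom.hq_mk, ← sub_eq_zero, ← map_sub] at hc₁'
    have hdc : ((cxB φ Q).d k (k + 1)).hom (c - c₁.1) = u := by
      rw [map_sub, (mem_Cyc _ k c₁.1).mp c₁.2, hc', sub_zero]
    cases k with
    | zero =>
      have h := congrArg Subtype.val ((mkH_zero_eq_zero_iff _ _).mp hc₁')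
      refine ⟨c - c₁.1, Prod.ext hdc ?_⟩
      change tB g φ φ' hcompat θ Q 0 (c - c₁.1) = v
      have h' : tB g φ φ' hcompat θ Q 0 c₁.1 - (tB g φ φ' hcompat θ Q 0 c - v) = 0 := h
      rw [map_sub, sub_eq_zero.mp h', sub_sub_cancel]
    | succ k =>
      obtain ⟨w, hw'⟩ := (mkH_succ_eq_zero_iff _ k _).mp hc₁'
      refine ⟨(c - c₁.1, -w), Prod.ext hdc ?_⟩
      change tB g φ φ' hcompat θ Q (k + 1) (c - c₁.1) - ((cxJ g φ' J Q).d k (k + 1)).hom (-w) = v
      have h' : ((cxJ g φ' J Q).d k (k + 1)).hom w =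
          tB g φ φ' hcompat θ Q (k + 1) c₁.1 - (tB g φ φ' hcompat θ Q (k + 1) c - v) := hw'
      rw [map_neg, h', map_sub]
      abel
  have hex := S.exact hBs h0 hd
  have hinj := S.injective_zero hBs h0 W
  refine (bijective_extSL_hq_iff _ n).mpr ((quasiIsoAt_iff_bijective _ n).mpr ⟨?_, ?_⟩)
  · refine (injective_iff_map_eq_zero _).mpr fun x hx => ?_
    obtain ⟨z, rfl⟩ := mkH_surjective _ n x
    have h1 := (mem_Cyc _ n z.1).mp z.2
    cases n with
    | zero =>
      rw [SLHom.hq_mk, mkH_zero_eq_zero_iff] at hx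
      rw [mkH_zero_eq_zero_iff]
      refine Subtype.ext (hinj (Eq.trans ?_ (map_zero (S.d 0 W)).symm))
      exact Prod.ext h1 (congrArg Subtype.val hx)
    | succ m =>
      rw [SLHom.hq_mk, mkH_succ_eq_zero_iff] at hx
      obtain ⟨v, hv⟩ := hx
      obtain ⟨a, ha⟩ := hex m W (z.1, v) (Prod.ext h1 (sub_eq_zero.mpr hv.symm))
      rw [mkH_succ_eq_zero_iff]
      cases m with
      | zero => exact ⟨a, congrArg Prod.fst ha⟩
      | succ j => exact ⟨a.1, congrArg Prod.fst ha⟩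
  · intro y
    obtain ⟨w, rfl⟩ := mkH_surjective _ n y
    have h1 := (mem_Cyc _ n w.1).mp w.2
    obtain ⟨a, ha⟩ := hex n W (0, w.1) (Prod.ext
      (map_zero ((cxB (B := B) φ (K := K) W).d (n + 1) (n + 2)).hom) (by
      change tB g φ φ' hcompat θ W (n + 1) 0 - ((cxJ g φ' J W).d n (n + 1)).hom w.1 = 0
      rw [map_zero, h1, sub_zero]))
    cases n with
    | zero =>
      refine ⟨mkH _ 0 ⟨a, (mem_Cyc _ 0 a).mpr (congrArg Prod.fst ha)⟩, congrArg (mkH _ 0) (Subtype.ext ?_)⟩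
      exact congrArg Prod.snd ha
    | succ m =>
      refine ⟨mkH _ (m + 1) ⟨a.1, (mem_Cyc _ (m + 1) a.1).mpr (congrArg Prod.fst ha)⟩, ?_⟩
      rw [SLHom.hq_mk, ← sub_eq_zero, ← map_sub, mkH_succ_eq_zero_iff]
      refine ⟨a.2, ?_⟩
      have h2 : tB g φ φ' hcompat θ W (m + 1) a.1 - ((cxJ g φ' J W).d m (m + 1)).hom a.2 = w.1 :=
        congrArg Prod.snd ha
      refine Eq.trans ?_ (congrArg (tB g φ φ' hcompat θ W (m + 1) a.1 - ·) h2)
      exact (sub_sub_cancel _ _).symm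

end RpushLib
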