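import Groth.Agent.RpushLib.AffBaseBC
import Groth.Agent.RpushLib.FinProjBC

/-!
# Base change along finite projective algebras
-/

set_option autoImplicit false

universe u

open CategoryTheory CategoryTheory.Limits AlgebraicGeometry TopologicalSpace Opposite TensorProduct

namespace RpushLib

variable {A B : Type u} [CommRing A] [CommRing B] [Algebra A B] {X X' : Scheme.{u}}
  {f : X ⟶ Spec (CommRingCat.of A)} {f' : X' ⟶ Spec (CommRingCat.of B)} {g' : X' ⟶ X}

/-- **Base change along a finite projective algebra**, without finiteness hypotheses on the scheme. -/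
theorem nonempty_finProj_bc [Module.Finite A B] [Module.Projective A B]
    (H : IsPullback g' f' f (Spec.map (CommRingCat.ofHom (algebraMap A B))))
    (M : X.Modules) [Coh.IsQCoh M] (n : ℕ) :
    letI := Module.compHom (Coh.HH X M n) (Coh.toGlobal f)
    letI := Module.compHom (Coh.HH X' ((Scheme.Modules.pullback g').obj M) n) (Coh.toGlobal f')
    Nonempty (B ⊗[A] Coh.HH X M n ≃ₗ[B] Coh.HH X' ((Scheme.Modules.pullback g').obj M) n) := by
  let := Module.compHom (Coh.HH X M n) (Coh.toGlobal f)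
  let := Module.compHom (Coh.HH X' ((Scheme.Modules.pullback g').obj M) n) (Coh.toGlobal f')
  have : Flat (Spec.map (CommRingCat.ofHom (algebraMap A B))) := by
    rw [HasRingHomProperty.Spec_iff (P := @Flat)]
    exact RingHom.flat_algebraMap_iff.mpr (inferInstanceAs (Module.Flat A B))
  let P := (Scheme.Modules.pullback g').obj M
  have : Coh.IsQCoh P := KFlatLib.isQCoh_pullback g' M
  let F := FlRes.ofInjective (injectiveResolution M)
  let J := injectiveResolution P
  let G := FlRes.ofInjective J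
  obtain ⟨θ, hθ⟩ := exists_bcLift H M F J
  let U₀ : X'.Opens := g' ⁻¹ᵁ (⊤ : X.Opens) ⊓ ⊤
  let ψ : B →+* Γ(X', U₀) :=
    (X'.presheaf.map (homOfLE (le_top : U₀ ≤ ⊤)).op).hom.comp (Coh.toGlobal f')
  have hc : ∀ a, g'.appLE ⊤ U₀ inf_le_left (Coh.toGlobal f a) = ψ (algebraMap A B a) := fun a => by
    change (g'.app ⊤ ≫ X'.presheaf.map _) (Coh.toGlobal f a) = X'.presheaf.map _ _
    exact congrArg (fun z : Γ(X', ⊤) => X'.presheaf.map (homOfLE (le_top : U₀ ≤ ⊤)).op z)
      (toGlobal_comm H a)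
  have hcompat : ∀ a, g'.app ⊤ (Coh.toGlobal f a) = Coh.toGlobal f' (algebraMap A B a) :=
    toGlobal_comm H
  have haff : ∀ V : X.Opens, IsAffineOpen V → IsAffineOpen (g' ⁻¹ᵁ V ⊓ ⊤) := fun V hV =>
    isAffineOpen_fibre H (isAffineOpen_top _) (isAffineOpen_top _)
      (hg := (le_top : (⊤ : (Spec (CommRingCat.of B)).Opens) ≤ ⊤)) hV (le_top : V ≤ ⊤)
  have hloc : ∀ V : X.Opens, IsAffineOpen V → ∀ m, Function.Bijective
      (extSL ((bcOn g' (Coh.toGlobal f) (Coh.toGlobal f') hcompat θ V).hq m)) := fun V hV m => by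
    refine bijective_bc g' (resφ (Coh.toGlobal f) (le_top : V ≤ ⊤)) ⊤
      (resφ (Coh.toGlobal f') (le_top : g' ⁻¹ᵁ V ⊓ ⊤ ≤ ⊤))
      (hcompat_res g' (Coh.toGlobal f) (Coh.toGlobal f') hcompat V) θ F.flasque G.flasque F.affAcyclic
      G.affAcyclic F.aug G.aug ((Scheme.Modules.pullbackPushforwardAdjunction g').unit.app M) hθ
      (fun V' _ hV' => haff V' hV') (fun V' hV' hVa hc' => ?_) hV.isCompact hV.isQuasiSeparated m
    refine bijective_secMap₀_of_isPushout g' hVa _ (haff V' hVa) _ inf_le_left hc' ?_ M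
    have h := isPushout_affBase H hVa (U := g' ⁻¹ᵁ V' ⊓ ⊤) (inf_top_eq _)
    have e1 : resφ (resφ (Coh.toGlobal f) (le_top : V ≤ ⊤)) hV' =
        (X.presheaf.map (homOfLE (le_top : V' ≤ ⊤)).op).hom.comp (Coh.toGlobal f) :=
      RingHom.ext fun a => congr($((X.presheaf.map_comp _ _).symm) (Coh.toGlobal f a))
    have e2 : resφ (resφ (Coh.toGlobal f') (le_top : g' ⁻¹ᵁ V ⊓ ⊤ ≤ ⊤))
        (inf_le_inf_right ⊤ (g'.preimage_mono hV')) =
        (X'.presheaf.map (homOfLE (le_top : g' ⁻¹ᵁ V' ⊓ ⊤ ≤ ⊤)).op).hom.comp (Coh.toGlobal f') :=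
      RingHom.ext fun b => congr($((X'.presheaf.map_comp _ _).symm) (Coh.toGlobal f' b))
    rw [e1, e2]
    exact h
  have hb := bijective_bcOn g' (Coh.toGlobal f) (Coh.toGlobal f') hcompat θ F.flasque G.flasque
    X.isBasis_affineOpens hloc ⊤ n
  let φ₁ := resφ (Coh.toGlobal f) (le_top : (⊤ : X.Opens) ≤ ⊤)
  have hφ₁ : φ₁ = Coh.toGlobal f := RingHom.ext fun a => by
    change X.presheaf.map (𝟙 (op (⊤ : X.Opens))) (Coh.toGlobal f a) = _
    rw [CategoryTheory.Functor.map_id]; rfl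
  let r := secRes (σ := RingHom.id B) (Coh.toGlobal f') ψ (le_top : U₀ ≤ ⊤) (fun _ => rfl) G.K
  have hr : Function.Bijective (r.hq n) := by
    refine bijective_hq_of_termwise r (fun i => ?_) n
    have hU : (⊤ : X'.Opens) ≤ U₀ := le_inf le_rfl le_rfl
    have : IsIso (homOfLE (le_top : U₀ ≤ ⊤)) :=
      ⟨homOfLE hU, Subsingleton.elim _ _, Subsingleton.elim _ _⟩
    exact ConcreteCategory.bijective_of_isIso ((G.K.X i).presheaf.map (homOfLE (le_top : U₀ ≤ ⊤)).op)
  let e₁ : Hq (secCx ⊤ φ₁ F.K) n ≃ₗ[A] Coh.HH X M n :=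
    { F.hhEquiv φ₁ n with map_smul' := fun a x => (F.hhEquiv_smul φ₁ n a x).trans (by rw [hφ₁]; rfl) }
  let e₂ : Hq (secCx ⊤ (Coh.toGlobal f') G.K) n ≃ₗ[B] Coh.HH X' P n :=
    { G.hhEquiv (Coh.toGlobal f') n with map_smul' := G.hhEquiv_smul (Coh.toGlobal f') n }
  exact ⟨((TensorProduct.AlgebraTensorModule.congr (LinearEquiv.refl B B) e₁.symm).trans
    ((LinearEquiv.ofBijective _ hb).trans (LinearEquiv.ofBijective (r.hq n) hr).symm)).trans e₂⟩

end RpushLib
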