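import Groth.Agent.RpushLib.BCMap
import Groth.Agent.RpushLib.Compare

/-!
# Base change maps between homology sheaves
-/

set_option autoImplicit false

universe u

open CategoryTheory CategoryTheory.Limits AlgebraicGeometry TopologicalSpace Opposite TensorProduct

namespace RpushLib

variable {S S' : Scheme.{u}} (g : S' ⟶ S) {C : CochainComplex S.Modules ℕ}
  {D : CochainComplex S'.Modules ℕ} (χ : C ⟶ pushCx g D) (n : ℕ)

instance additive_pushforward' : (Scheme.Modules.pushforward g).Additive :=
  (Scheme.Modules.pullbackPushforwardAdjunction g).right_adjoint_additive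

instance preservesFiniteLimits_pushforward' : PreservesFiniteLimits (Scheme.Modules.pushforward g) :=
  have : PreservesLimitsOfSize.{0, 0} (Scheme.Modules.pushforward g) :=
    (Scheme.Modules.pullbackPushforwardAdjunction g).rightAdjoint_preservesLimits
  PreservesLimitsOfSize.preservesFiniteLimits _

theorem iCycles_χ_d :
    (C.iCycles n ≫ χ.f n) ≫ (Scheme.Modules.pushforward g).map (D.d n (n + 1)) = 0 := by
  rw [Category.assoc]
  refine (congrArg (C.iCycles n ≫ ·) (χ.comm n (n + 1))).trans ?_
  rw [← Category.assoc, C.iCycles_d, zero_comp]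
  rfl

/-- The map on cocycles. -/
noncomputable def cycMap : C.cycles n ⟶ (Scheme.Modules.pushforward g).obj (D.cycles n) :=
  (KernelFork.mapIsLimit _ (D.cyclesIsKernel n (n + 1) (by simp)) (Scheme.Modules.pushforward g)).lift
    (KernelFork.ofι (C.iCycles n ≫ χ.f n) (iCycles_χ_d g χ n))

theorem cycMap_i :
    cycMap g χ n ≫ (Scheme.Modules.pushforward g).map (D.iCycles n) = C.iCycles n ≫ χ.f n :=
  (KernelFork.mapIsLimit _ (D.cyclesIsKernel n (n + 1) (by simp)) (Scheme.Modules.pushforward g)).fac
    (KernelFork.ofι (C.iCycles n ≫ χ.f n) (iCycles_χ_d g χ n)) WalkingParallelPair.zero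

theorem toCycles_cycMap (i : ℕ) :
    C.toCycles i n ≫ cycMap g χ n = χ.f i ≫ (Scheme.Modules.pushforward g).map (D.toCycles i n) := by
  have : Mono ((Scheme.Modules.pushforward g).map (D.iCycles n)) :=
    CategoryTheory.preserves_mono_of_preservesLimit _ _
  let P := Scheme.Modules.pushforward g
  rw [← cancel_mono (P.map (D.iCycles n))]
  refine (Category.assoc _ _ _).trans ((congrArg (C.toCycles i n ≫ ·) (cycMap_i g χ n)).trans ?_)
  refine ((Category.assoc _ _ _).symm.trans (congrArg (· ≫ χ.f n) (C.toCycles_i i n))).trans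
    ((χ.comm i n).symm.trans ?_)
  refine (congrArg (χ.f i ≫ ·) ((congrArg P.map (D.toCycles_i i n)).symm.trans (P.map_comp _ _))).trans ?_
  exact (Category.assoc _ _ _).symm

/-- The map on homology sheaves. -/
noncomputable def homAdj : C.homology n ⟶ (Scheme.Modules.pushforward g).obj (D.homology n) :=
  (C.homologyIsCokernel ((ComplexShape.up ℕ).prev n) n rfl).desc
    (CokernelCofork.ofπ (cycMap g χ n ≫ (Scheme.Modules.pushforward g).map (D.homologyπ n)) (by
      refine ((Category.assoc _ _ _).symm.trans (congrArg (· ≫ _) (toCycles_cycMap g χ n _))).trans ?_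
      refine (Category.assoc _ _ _).trans ?_
      refine (congrArg (χ.f _ ≫ ·) ((((Scheme.Modules.pushforward g).map_comp _ _).symm.trans
        (congrArg _ (D.toCycles_comp_homologyπ _ n))).trans (Functor.map_zero _ _ _))).trans ?_
      exact comp_zero))

theorem π_homAdj :
    C.homologyπ n ≫ homAdj g χ n =
      cycMap g χ n ≫ (Scheme.Modules.pushforward g).map (D.homologyπ n) :=
  (C.homologyIsCokernel ((ComplexShape.up ℕ).prev n) n rfl).fac _ WalkingParallelPair.one

/-- The map on homology sheaves, on classes of sections. -/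
theorem homAdj_toHom {U : S.Opens} {U' : S'.Opens} (h : U' ≤ g ⁻¹ᵁ U) [Algebra Γ(S, U) Γ(S', U')]
    (halg : algebraMap Γ(S, U) Γ(S', U') = (g.appLE U U' h).hom) (x : PH C n U) :
    (D.homology n).presheaf.map (homOfLE h).op ((homAdj g χ n).app U (toHom C n U x)) =
      toHom D n U' ((secBC (σ := algebraMap Γ(S, U) Γ(S', U')) g (RingHom.id Γ(S, U))
        (RingHom.id Γ(S', U')) h (fun r => by rw [halg]; rfl) χ).hq n x) := by
  obtain ⟨y, rfl⟩ := exists_mk C n U x
  rw [toHom_mk]
  let z : Γ(D.cycles n, g ⁻¹ᵁ U) := (cycMap g χ n).app U y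
  have h1 : (homAdj g χ n).app U ((C.homologyπ n).app U y) = (D.homologyπ n).app (g ⁻¹ᵁ U) z :=
    congrArg (fun φ => φ.app U y) (π_homAdj g χ n)
  have h2 : (secBC (σ := algebraMap Γ(S, U) Γ(S', U')) g (RingHom.id Γ(S, U))
      (RingHom.id Γ(S', U')) h (fun r => by rw [halg]; rfl) χ).hq n (mkH _ n (cycEquiv C n U y)) =
      mkH _ n (cycEquiv D n U' ((D.cycles n).presheaf.map (homOfLE h).op z)) := by
    refine congrArg (mkH _ n) (Subtype.ext ?_)
    refine Eq.trans ?_ (QCohLib.app_map (D.iCycles n) (homOfLE h) z).symm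
    exact congrArg ((D.X n).presheaf.map (homOfLE h).op)
      (congrArg (fun φ => φ.app U y) (cycMap_i g χ n)).symm
  rw [h1, h2, toHom_mk]
  exact (QCohLib.app_map (D.homologyπ n) (homOfLE h) z).symm

/-- The adjoint map on homology is an isomorphism when it is so on cohomology of sections. -/
theorem isIso_homAdj_symm (hC : Localizes C n) (hD : Localizes D n)
    (h : ∀ (U : S.Opens) (U' : S'.Opens), IsAffineOpen U → IsAffineOpen U' → ∀ hle : U' ≤ g ⁻¹ᵁ U,
      letI := (g.appLE U U' hle).hom.toAlgebra
      Function.Bijective (extSL ((secBC (σ := algebraMap Γ(S, U) Γ(S', U')) g (RingHom.id Γ(S, U))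
        (RingHom.id Γ(S', U')) hle (fun _ => rfl) χ).hq n))) :
    IsIso (((Scheme.Modules.pullbackPushforwardAdjunction g).homEquiv _ _).symm (homAdj g χ n)) := by
  have := isQCoh_homology hC
  refine isIso_homEquiv_symm g (homAdj g χ n) fun U U' hU hU' hle => ?_
  let := (g.appLE U U' hle).hom.toAlgebra
  let σ₀ := secMap₀ (σ := algebraMap Γ(S, U) Γ(S', U')) g (RingHom.id Γ(S, U))
    (RingHom.id Γ(S', U')) hle (fun _ => rfl) (homAdj g χ n)
  let s := (secBC (σ := algebraMap Γ(S, U) Γ(S', U')) g (RingHom.id Γ(S, U))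
        (RingHom.id Γ(S', U')) hle (fun _ => rfl) χ).hq n
  let eC := LinearEquiv.ofBijective (toHom C n U) (toHom_bijective hC hU)
  have hkey : (extSL σ₀).comp (eC.toLinearMap.baseChange Γ(S', U')) = (toHom D n U').comp (extSL s) := by
    refine extSL_unique fun x => ?_
    refine ((congrArg (extSL σ₀)
      (LinearMap.baseChange_tmul eC.toLinearMap (1 : Γ(S', U')) x)).trans
      ((extSL_tmul _ (1 : Γ(S', U')) _).trans (one_smul _ _))).trans (Eq.symm ?_)
    refine (congrArg (toHom D n U') ((extSL_tmul _ (1 : Γ(S', U')) x).trans (one_smul _ _))).trans ?_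
    exact (homAdj_toHom g χ n hle rfl x).symm
  have h1 : Function.Bijective (eC.toLinearMap.baseChange Γ(S', U')) :=
    (eC.lTensor Γ(S', U')).bijective
  refine (Function.Bijective.of_comp_iff _ h1).mp ?_
  rw [← LinearMap.coe_comp, hkey]
  exact (toHom_bijective hD hU').comp (h U U' hU hU' hle)

end RpushLib
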