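import Mathlib.Topology.Sheaves.Stalks
import Mathlib.Algebra.Group.Hom.Defs
import Mathlib.Order.Zorn

/-!
# Flasque complexes exact on a basis are exact on all opens
-/

set_option autoImplicit false

universe u

open TopologicalSpace

namespace RpushLib

/-- A complex of flasque sheaves of abelian groups, by its sections. -/
structure SecComplex (T : Type u) [TopologicalSpace T] where
  C : ℕ → Opens T → Type u
  grp : ∀ k V, AddCommGroup (C k V)
  res : ∀ k {V U : Opens T}, U ≤ V → C k V →+ C k U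
  res_res : ∀ k {V U W : Opens T} (h : U ≤ V) (h' : W ≤ U) (x : C k V),
    res k h' (res k h x) = res k (h'.trans h) x
  d : ∀ k V, C k V →+ C (k + 1) V
  d_res : ∀ k {V U : Opens T} (h : U ≤ V) (x : C k V), d k U (res k h x) = res (k + 1) h (d k V x)
  d_d : ∀ k V (x : C k V), d (k + 1) V (d k V x) = 0
  sep : ∀ k {V : Opens T} (x : C k V),
    (∀ p ∈ V, ∃ (U : Opens T) (h : U ≤ V), p ∈ U ∧ res k h x = 0) → x = 0
  glue : ∀ k {ι : Type u} (U : ι → Opens T) (V : Opens T) (hV : ∀ i, U i ≤ V), V ≤ iSup U →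
    ∀ x : ∀ i, C k (U i), (∀ i j, res k (inf_le_left : U i ⊓ U j ≤ U i) (x i) =
      res k (inf_le_right : U i ⊓ U j ≤ U j) (x j)) → ∃ y : C k V, ∀ i, res k (hV i) y = x i
  flasque : ∀ k {V U : Opens T} (h : U ≤ V), Function.Surjective (res k h)

attribute [instance] SecComplex.grp

variable {T : Type u} [TopologicalSpace T] (S : SecComplex.{u} T) {B : Set (Opens T)}

theorem SecComplex.injective_zero (hB : Opens.IsBasis B)
    (h0 : ∀ Q ∈ B, Function.Injective (S.d 0 Q)) (V : Opens T) : Function.Injective (S.d 0 V) := by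
  refine (injective_iff_map_eq_zero _).mpr fun x hx => S.sep 0 x fun p hp => ?_
  obtain ⟨Q, hQ, hpQ, hle⟩ := Opens.isBasis_iff_nbhd.mp hB hp
  refine ⟨Q, hle, hpQ, h0 Q hQ ?_⟩
  rw [S.d_res, hx, map_zero, map_zero]

/-- Exactness in degree `k + 1` on all opens, given it in degree `k`. -/
theorem SecComplex.exact_succ (hB : Opens.IsBasis B) (k : ℕ)
    (hk : ∀ (V : Opens T) (z : S.C k V), S.d k V z = 0 →
      ∀ Q : Opens T, ∀ hVQ : V ≤ Q, ∃ e : S.C k Q, S.d k Q e = 0 ∧ S.res k hVQ e = z)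
    (hloc : ∀ Q ∈ B, ∀ z : S.C (k + 1) Q, S.d (k + 1) Q z = 0 → ∃ a, S.d k Q a = z)
    (W : Opens T) (z : S.C (k + 1) W) (hz : S.d (k + 1) W z = 0) : ∃ a, S.d k W a = z := by
  classical
  let P := {p : Σ V : Opens T, S.C k V // ∃ h : p.1 ≤ W, S.d k p.1 p.2 = S.res (k + 1) h z}
  let r : P → P → Prop := fun p q => ∃ h : p.1.1 ≤ q.1.1, S.res k h q.1.2 = p.1.2
  have rtrans : ∀ {p q s : P}, r p q → r q s → r p s := fun {p q s} ⟨h, e⟩ ⟨h', e'⟩ =>
    ⟨h.trans h', by rw [← S.res_res k h' h, e', e]⟩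
  obtain ⟨m, hm⟩ := exists_maximal_of_chains_bounded (r := r) (fun c hc => by
    let V : Opens T := ⨆ p : c, p.1.1.1
    have hV : V ≤ W := iSup_le fun p => p.1.2.1
    have hcomp : ∀ i j : c, S.res k (inf_le_left : i.1.1.1 ⊓ j.1.1.1 ≤ i.1.1.1) i.1.1.2 =
        S.res k (inf_le_right : i.1.1.1 ⊓ j.1.1.1 ≤ j.1.1.1) j.1.1.2 := by
      intro i j
      by_cases hij : i.1 = j.1
      · obtain rfl := Subtype.ext hij; rfl
      · rcases hc i.2 j.2 hij with ⟨h, e⟩ | ⟨h, e⟩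
        · conv_lhs => rw [← e, S.res_res]
        · conv_rhs => rw [← e, S.res_res]
    obtain ⟨y, hy⟩ := S.glue k (fun p : c => p.1.1.1) V (fun p => le_iSup (fun p : c => p.1.1.1) p) le_rfl
      (fun p : c => p.1.1.2) hcomp
    have hd : S.d k V y = S.res (k + 1) hV z := by
      rw [← sub_eq_zero]
      refine S.sep (k + 1) _ fun p hp => ?_
      obtain ⟨i, hi⟩ := Opens.mem_iSup.mp hp
      refine ⟨i.1.1.1, le_iSup (fun p : c => p.1.1.1) i, hi, ?_⟩
      obtain ⟨hle, he⟩ := i.1.2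
      rw [map_sub, ← S.d_res, hy, he, S.res_res, sub_self]
    exact ⟨⟨⟨V, y⟩, hV, hd⟩, fun p hp => ⟨le_iSup (fun p : c => p.1.1.1) ⟨p, hp⟩, hy ⟨p, hp⟩⟩⟩)
    (fun {p q s} => rtrans)
  obtain ⟨⟨V, a⟩, hV, ha⟩ := m
  have hWV : W ≤ V := by
    intro p hp
    obtain ⟨Q, hQ, hpQ, hQW⟩ := Opens.isBasis_iff_nbhd.mp hB hp
    obtain ⟨a', ha'⟩ := hloc Q hQ (S.res (k + 1) hQW z) (by rw [S.d_res, hz, map_zero])
    obtain ⟨e, he, hee⟩ := hk (V ⊓ Q) (S.res k inf_le_left a - S.res k inf_le_right a')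
      (by rw [map_sub, S.d_res, S.d_res, ha, ha', S.res_res, S.res_res, sub_self]) Q inf_le_right
    let a'' := a' + e
    let U : ULift.{u} Bool → Opens T := fun b => bif b.down then V else Q
    let x : ∀ b, S.C k (U b) := fun ⟨b⟩ => match b with
      | true => a
      | false => a''
    have hcomp : ∀ i j, S.res k (inf_le_left : U i ⊓ U j ≤ U i) (x i) =
        S.res k (inf_le_right : U i ⊓ U j ≤ U j) (x j) := by
      have h1 : S.res k (inf_le_left : V ⊓ Q ≤ V) a = S.res k (inf_le_right : V ⊓ Q ≤ Q) a'' := by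
        simp only [a'', map_add, hee, add_sub_cancel]
      rintro ⟨_ | _⟩ ⟨_ | _⟩
      · rfl
      · have h2 := congrArg (S.res k (le_of_eq (inf_comm Q V))) h1
        rw [S.res_res, S.res_res] at h2
        exact h2.symm
      · exact h1
      · rfl
    obtain ⟨y, hy⟩ := S.glue k U (V ⊔ Q)
      (fun ⟨b⟩ => match b with | true => le_sup_left | false => le_sup_right)
      (sup_le (le_iSup U ⟨true⟩) (le_iSup U ⟨false⟩)) x hcomp
    have hyV : S.res k (le_sup_left : V ≤ V ⊔ Q) y = a := hy ⟨true⟩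
    have hyQ : S.res k (le_sup_right : Q ≤ V ⊔ Q) y = a'' := hy ⟨false⟩
    have hd : S.d k (V ⊔ Q) y = S.res (k + 1) (sup_le hV hQW) z := by
      rw [← sub_eq_zero]
      refine S.sep (k + 1) _ fun q hq => ?_
      rcases hq with hq | hq
      · exact ⟨V, le_sup_left, hq, by rw [map_sub, ← S.d_res, hyV, ha, S.res_res, sub_self]⟩
      · refine ⟨Q, le_sup_right, hq, ?_⟩
        rw [map_sub, ← S.d_res, hyQ, S.res_res]
        simp only [a'', map_add, he, ha', add_zero, sub_self]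
    obtain ⟨h, -⟩ := hm ⟨⟨V ⊔ Q, y⟩, sup_le hV hQW, hd⟩ ⟨le_sup_left, hyV⟩
    exact h (Or.inr hpQ)
  refine ⟨S.res k hWV a, ?_⟩
  have hid : S.res (k + 1) (le_refl W) z = z := by
    rw [← sub_eq_zero]
    refine S.sep (k + 1) _ fun p hp => ⟨W, le_rfl, hp, ?_⟩
    rw [map_sub, S.res_res, sub_self]
  rw [S.d_res, ha, S.res_res]
  exact hid

/-- **Exactness on a basis propagates to all opens.** -/
theorem SecComplex.exact (hB : Opens.IsBasis B) (h0 : ∀ Q ∈ B, Function.Injective (S.d 0 Q))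
    (hloc : ∀ Q ∈ B, ∀ k (z : S.C (k + 1) Q), S.d (k + 1) Q z = 0 → ∃ a, S.d k Q a = z) :
    ∀ (k : ℕ) (W : Opens T) (z : S.C (k + 1) W), S.d (k + 1) W z = 0 → ∃ a, S.d k W a = z := by
  intro k
  induction k with
  | zero =>
    refine S.exact_succ hB 0 (fun V z hz Q hVQ => ⟨0, map_zero _, ?_⟩) fun Q hQ => hloc Q hQ 0
    rw [map_zero]
    exact (S.injective_zero hB h0 V (hz.trans (map_zero _).symm)).symm
  | succ k ih =>
    refine S.exact_succ hB (k + 1) (fun V z hz Q hVQ => ?_) fun Q hQ => hloc Q hQ (k + 1)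
    obtain ⟨c, rfl⟩ := ih V z hz
    obtain ⟨c', rfl⟩ := S.flasque k hVQ c
    exact ⟨S.d k Q c', S.d_d k Q c', (S.d_res k hVQ c').symm⟩

end RpushLib
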