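import Groth.Agent.RpushLib.Resol
import Mathlib.RingTheory.Localization.Away.Basic
import Mathlib.RingTheory.Localization.BaseChange

/-!
# Cohomology of sections over `W ∩ X_a` is the localisation
-/

set_option autoImplicit false
set_option linter.unusedSectionVars false

universe u

open CategoryTheory CategoryTheory.Limits AlgebraicGeometry TopologicalSpace Opposite TensorProduct

namespace RpushLib

section alg

variable {R B : Type u} [CommRing R] [CommRing B] [Algebra R B] {M N : Type u} [AddCommGroup M]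
  [Module R M] [AddCommGroup N] [Module B N] (r : R) [IsLocalization.Away r B]

theorem exists_tensor_away (x : B ⊗[R] M) : ∃ (k : ℕ) (m : M),
    (algebraMap R B r) ^ k • x = (1 : B) ⊗ₜ[R] m := by
  have hl : IsLocalizedModule (Submonoid.powers r) (TensorProduct.mk R B M 1) :=
    (isLocalizedModule_iff_isBaseChange (Submonoid.powers r) B _).mpr (TensorProduct.isBaseChange R M B)
  obtain ⟨⟨m, ⟨_, k, rfl⟩⟩, h⟩ := IsLocalizedModule.surj (Submonoid.powers r) (TensorProduct.mk R B M 1) x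
  refine ⟨k, m, ?_⟩
  rw [← map_pow, algebraMap_smul]
  exact h

theorem bijective_extSL_of_loc (h : M →ₛₗ[algebraMap R B] N)
    (hs : ∀ y, ∃ (k : ℕ) (m : M), h m = (algebraMap R B r) ^ k • y)
    (hi : ∀ m, h m = 0 → ∃ k : ℕ, r ^ k • m = 0) : Function.Bijective (extSL h) := by
  have hu : ∀ k : ℕ, IsUnit ((algebraMap R B r) ^ k) :=
    fun k => (IsLocalization.Away.algebraMap_isUnit r).pow k
  constructor
  · refine (injective_iff_map_eq_zero _).mpr fun x hx => ?_
    obtain ⟨k, m, hm⟩ := exists_tensor_away (B := B) r x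
    have hm0 : h m = 0 := by
      have := congrArg (extSL h) hm
      rw [map_smul, hx, smul_zero, extSL_tmul, one_smul] at this
      exact this.symm
    obtain ⟨j, hj⟩ := hi m hm0
    have : (1 : B) ⊗ₜ[R] m = 0 := by
      refine (hu j).smul_eq_zero.mp ?_
      rw [← map_pow, algebraMap_smul, ← tmul_smul, hj, tmul_zero]
    rw [this] at hm
    exact (hu k).smul_eq_zero.mp hm
  · intro y
    obtain ⟨k, m, hm⟩ := hs y
    obtain ⟨v, hv⟩ := hu k
    refine ⟨(↑v⁻¹ : B) ⊗ₜ[R] m, ?_⟩
    rw [extSL_tmul, hm, ← hv, smul_smul, Units.inv_mul, one_smul]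

include r in
theorem exists_loc_of_bijective (h : M →ₛₗ[algebraMap R B] N) (hb : Function.Bijective (extSL h)) :
    (∀ y, ∃ (k : ℕ) (m : M), h m = (algebraMap R B r) ^ k • y) ∧
      ∀ m, h m = 0 → ∃ k : ℕ, r ^ k • m = 0 := by
  refine ⟨fun y => ?_, fun m hm => ?_⟩
  · obtain ⟨x, rfl⟩ := hb.2 y
    obtain ⟨k, m, hm⟩ := exists_tensor_away (B := B) r x
    refine ⟨k, m, ?_⟩
    have := congrArg (extSL h) hm
    rw [map_smul, extSL_tmul, one_smul] at this
    exact this.symm
  · have h0 : (1 : B) ⊗ₜ[R] m = 0 := hb.1 (by rw [extSL_tmul, one_smul, hm, map_zero])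
    have hl : IsLocalizedModule (Submonoid.powers r) (TensorProduct.mk R B M 1) :=
      (isLocalizedModule_iff_isBaseChange (Submonoid.powers r) B _).mpr (TensorProduct.isBaseChange R M B)
    obtain ⟨⟨_, k, rfl⟩, hk⟩ :=
      (IsLocalizedModule.eq_zero_iff (Submonoid.powers r) (TensorProduct.mk R B M 1)).mp h0
    exact ⟨k, hk⟩

end alg

variable {X : Scheme.{u}} {R : Type u} [CommRing R]

/-- Cohomology of sections over `W ∩ X_a` is the localisation at `a` of that over `W`. -/
theorem Hq_loc {M : X.Modules} [Coh.IsQCoh M] (F : FlRes M) {W : X.Opens}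
    (hW : IsCompact (W : Set X)) (hqs : IsQuasiSeparated (W : Set X)) (φ : R →+* Γ(X, W)) (r : R)
    (n : ℕ) {D : X.Opens} (hD : D = X.basicOpen (φ r)) (hDW : D ≤ W) (ψ : R →+* Γ(X, D))
    (hc : ∀ s, X.presheaf.map (homOfLE hDW).op (φ s) = ψ (RingHom.id R s)) :
    (∀ y, ∃ (k : ℕ) (x : _), (secRes φ ψ hDW hc F.K).hq n x = r ^ k • y) ∧
      ∀ x, (secRes φ ψ hDW hc F.K).hq n x = 0 → ∃ k : ℕ, r ^ k • x = 0 := by
  subst hD
  let B := Localization.Away r
  let O' : X.Opens := X.basicOpen (φ r)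
  let U : X.Opens := (𝟙 X) ⁻¹ᵁ W ⊓ O'
  have hUD : U ≤ X.basicOpen (φ r) := inf_le_right
  have hDU : X.basicOpen (φ r) ≤ U := le_inf hDW le_rfl
  let res : R →+* Γ(X, U) := (X.presheaf.map (homOfLE (inf_le_left : U ≤ W)).op).hom.comp φ
  have hu : IsUnit (res r) := by
    have h := (RingedSpace.isUnit_res_basicOpen _ (φ r)).map (X.presheaf.map (homOfLE hUD).op).hom
    have e : res r = X.presheaf.map (homOfLE hUD).op
        (X.presheaf.map (homOfLE (X.basicOpen_le (φ r))).op (φ r)) :=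
      (QCohLib.ringMap_map' _ _ _).symm
    exact e ▸ h
  let φ' : B →+* Γ(X, U) := IsLocalization.Away.lift r hu
  have happ : ∀ (A A' : X.Opens) (h : A' ≤ (𝟙 X) ⁻¹ᵁ A) (s : Γ(X, A)),
      (𝟙 X : X ⟶ X).appLE A A' h s = X.presheaf.map (homOfLE (show A' ≤ A from h)).op s :=
    fun A A' h s => rfl
  have hcompat : ∀ s, (𝟙 X : X ⟶ X).appLE W U inf_le_left (φ s) = φ' (algebraMap R B s) := fun s => by
    rw [happ, IsLocalization.Away.lift_eq]
    rfl
  let θ : F.K ⟶ ((Scheme.Modules.pushforward (𝟙 X)).mapHomologicalComplex _).obj F.K :=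
    { f := fun i => (Scheme.Modules.pushforwardId X).inv.app (F.K.X i)
      comm' := fun i j _ => ((Scheme.Modules.pushforwardId X).inv.naturality (F.K.d i j)).symm }
  have hmain := bijective_bc (B := B) (𝟙 X) φ O' φ' hcompat θ F.flasque F.flasque F.affAcyclic
    F.affAcyclic F.aug F.aug ((Scheme.Modules.pushforwardId X).inv.app M)
    ((Scheme.Modules.pushforwardId X).inv.naturality F.ι)
    (fun V hV hVa => by
      have e : (𝟙 X) ⁻¹ᵁ V ⊓ O' = X.basicOpen (X.presheaf.map (homOfLE hV).op (φ r)) :=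
        (X.basicOpen_res (φ r) (homOfLE hV).op).symm
      exact e ▸ hVa.basicOpen _)
    (fun V hV hVa hcV => by
      have hlp : QCohLib.LocPair M (φ r) V (V ⊓ O') inf_le_left hV :=
        QCohLib.LocPair.of_affine (φ r) hVa hV
      refine bijective_extSL_of_loc r _ (fun y => ?_) fun m hm => ?_
      · obtain ⟨k, t, ht⟩ := hlp.exists_extend y
        refine ⟨k, t, ht.trans ?_⟩
        refine congrArg (fun a : Γ(X, V ⊓ O') => a • (show Γ(M, V ⊓ O') from y)) ?_
        rw [← map_pow (algebraMap R B)]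
        refine Eq.trans ?_ (hcV (r ^ k))
        rw [happ, ← map_pow, resφ_res, RingHom.comp_apply, map_pow φ]
        rfl
      · obtain ⟨k, hk⟩ := hlp.eq_zero m hm
        refine ⟨k, ?_⟩
        refine Eq.trans ?_ hk
        exact congrArg (fun a : Γ(X, V) => a • (show Γ(M, V) from m)) (map_pow (resφ φ hV) r k))
    hW hqs n
  obtain ⟨h1, h2⟩ := exists_loc_of_bijective r _ hmain
  -- back to `D = X_a` over `R`
  have hcU : ∀ s, X.presheaf.map (homOfLE hUD).op (ψ s) = φ' (algebraMap R B s) := fun s => by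
    rw [show ψ s = _ from (hc s).symm, IsLocalization.Away.lift_eq]
    exact QCohLib.ringMap_map' _ _ _
  let τ := secRes (σ := algebraMap R B) ψ φ' hUD hcU F.K
  have hτ : Function.Bijective (τ.hq n) := by
    refine bijective_hq_of_termwise τ (fun i => ?_) n
    have : IsIso ((F.K.X i).presheaf.map (homOfLE hUD).op) := by
      have : IsIso (homOfLE hUD) := ⟨homOfLE hDU, rfl, rfl⟩
      infer_instance
    exact ConcreteCategory.bijective_of_isIso ((F.K.X i).presheaf.map (homOfLE hUD).op)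
  have hτc : ∀ x, τ.hq n ((secRes φ ψ hDW hc F.K).hq n x) =
      (secBC (σ := algebraMap R B) (𝟙 X) φ φ' inf_le_left hcompat θ).hq n x := fun x => by
    obtain ⟨z, rfl⟩ := mkH_surjective _ _ x
    refine congrArg (mkH _ n) (Subtype.ext ?_)
    exact QCohLib.map_map' (F.K.X n) (homOfLE hUD) (homOfLE hDW) z.1
  refine ⟨fun y => ?_, fun x hx => ?_⟩
  · obtain ⟨k, x, hx⟩ := h1 (τ.hq n y)
    refine ⟨k, x, hτ.1 ?_⟩
    rw [hτc, hx, map_smulₛₗ, map_pow]
  · exact h2 x (by rw [← hτc, hx, map_zero])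

end RpushLib
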